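import Mathlib
import Cfsg.Prelude.Def_LocalEven
import Cfsg.Agent.H30.Basic
import Cfsg.Agent.H70.DihedralIso
import Cfsg.Agent.H79.CoprimeGen

set_option autoImplicit false
set_option linter.all false

/-! Small elementary abelian offenders on odd-order groups produce sections `S₃`. -/

open Subgroup

namespace H30

theorem card_perm_fin_three : Nat.card (Equiv.Perm (Fin 3)) = 6 := by
  rw [Nat.card_perm, Nat.card_fin]; rfl

theorem mulEquiv_perm_three {G : Type*} [Group G] [Finite G] {w a : G} (hw : orderOf w = 3)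
    (ha : a ^ 2 = 1) (haw : a ∉ zpowers w) (hinv : a * w * a⁻¹ = w⁻¹) (hcard : Nat.card G = 6) :
    Nonempty (G ≃* Equiv.Perm (Fin 3)) := by
  obtain ⟨e1⟩ := H70.nonempty_mulEquiv_dihedral (c := w) (x := a) (by rw [hw, hcard]) (by rw [← sq]; exact ha) haw hinv
  have hc : orderOf (finRotate 3) = 3 := orderOf_eq_prime (by decide) (by decide)
  obtain ⟨e2⟩ := H70.nonempty_mulEquiv_dihedral (c := finRotate 3) (x := Equiv.swap (0 : Fin 3) 1)
    (by rw [hc, card_perm_fin_three]) (by decide)
    (by
      intro h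
      have h1 := Subgroup.zpowers_le.2 h
      have h2 : orderOf (Equiv.swap (0 : Fin 3) 1) ∣ 3 := by
        have h4 := Subgroup.card_dvd_of_le h1
        rw [Nat.card_zpowers, Nat.card_zpowers, hc] at h4
        exact h4
      rw [orderOf_eq_prime (p := 2) (by decide) (by decide)] at h2
      norm_num at h2)
    (by decide)
  rw [hw] at e1
  rw [hc] at e2
  exact ⟨e1.trans e2.symm⟩

variable {X : Type*} [Group X] [Finite X]

/-- An element of order 3 inverted by an involution inside `M` gives a section `S₃`. -/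
theorem involves_of_inverted {M : Subgroup X} {w a : X} (hw : orderOf w = 3) (ha : a ^ 2 = 1)
    (hwM : w ∈ M) (haM : a ∈ M) (hinv : a * w * a⁻¹ = w⁻¹) :
    Cfsg.Involves (Equiv.Perm (Fin 3)) ↥M := by
  have ha3 : a ∉ zpowers w := by
    intro h
    obtain ⟨i, rfl⟩ := mem_zpowers_iff.1 h
    rw [((Commute.refl w).zpow_left i).eq, mul_inv_cancel_right] at hinv
    have h2 : w ^ 2 = 1 := by rw [sq]; nth_rewrite 2 [hinv]; exact mul_inv_cancel w
    have := orderOf_dvd_of_pow_eq_one h2
    rw [hw] at this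
    norm_num at this
  set w' : M := ⟨w, hwM⟩
  set a' : M := ⟨a, haM⟩
  set K : Subgroup M := zpowers w' ⊔ zpowers a'
  have ha1 : orderOf a' = 2 := by
    refine orderOf_eq_prime (Subtype.ext (by simpa using ha)) (fun h => ha3 ?_)
    have : a = 1 := congrArg Subtype.val h
    rw [this]; exact one_mem _
  have hn : a' ∈ normalizer (zpowers w' : Set M) := by
    apply mem_normalizer_fintype
    rintro _ ⟨i, rfl⟩
    show a' * w' ^ i * a'⁻¹ ∈ zpowers w'
    rw [← conj_zpow, show a' * w' * a'⁻¹ = w'⁻¹ from Subtype.ext hinv]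
    exact zpow_mem (inv_mem (mem_zpowers w')) i
  have hwK : w' ∈ K := mem_sup_left (mem_zpowers w')
  have haK : a' ∈ K := mem_sup_right (mem_zpowers a')
  have hwo : orderOf (⟨w', hwK⟩ : K) = 3 := by
    rw [← Subgroup.orderOf_coe, ← Subgroup.orderOf_coe]; exact hw
  have ha3' : (⟨a', haK⟩ : K) ∉ zpowers (⟨w', hwK⟩ : K) := by
    intro h
    obtain ⟨i, hi⟩ := mem_zpowers_iff.1 h
    apply ha3
    refine mem_zpowers_iff.2 ⟨i, ?_⟩
    have := congrArg (fun z : K => ((z : M) : X)) hi
    simpa using this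
  have hcard : Nat.card K = 6 := by
    refine le_antisymm ?_ ?_
    · have h1 := relIndex_mul_relIndex ⊥ (zpowers w') K bot_le le_sup_left
      rw [relIndex_bot_left, relIndex_bot_left, Nat.card_zpowers] at h1
      have hw' : orderOf w' = 3 := by rw [← Subgroup.orderOf_coe]; exact hw
      rw [hw', relIndex, index] at h1
      have h2 : Nat.card (K ⧸ (zpowers w').subgroupOf K) ≤ 2 := by
        refine le_trans (Nat.card_le_card_of_surjective
          (fun b : Fin 2 => (QuotientGroup.mk (⟨a', haK⟩ ^ (b : ℕ)) : K ⧸ (zpowers w').subgroupOf K)) ?_) (by simp)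
        intro q
        induction q using QuotientGroup.induction_on with | H z =>
        obtain ⟨k, hk, i, hki⟩ := (mem_sup_zpowers hn).1 z.2
        obtain ⟨b, hb⟩ : ∃ b : Fin 2, a' ^ i = a' ^ (b : ℕ) := by
          rcases Int.even_or_odd i with ⟨c, rfl⟩ | ⟨c, rfl⟩
          · refine ⟨0, ?_⟩
            have := pow_orderOf_eq_one a'
            rw [ha1] at this
            rw [← two_mul, zpow_mul, zpow_ofNat, this, one_zpow]; simp
          · refine ⟨1, ?_⟩
            have := pow_orderOf_eq_one a'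
            rw [ha1] at this
            rw [zpow_add, zpow_one, zpow_mul, zpow_ofNat, this, one_zpow, one_mul]; simp
        refine ⟨b, QuotientGroup.eq.2 (mem_subgroupOf.2 ?_)⟩
        show (a' ^ (b : ℕ))⁻¹ * (z : M) ∈ zpowers w'
        rw [← hki, ← hb, ← mul_assoc]
        have hni : (a' ^ i)⁻¹ ∈ normalizer (zpowers w' : Set M) := inv_mem (zpow_mem hn i)
        have := (mem_normalizer_iff.1 hni k).1 hk
        rwa [inv_inv] at this
      omega
    · have hlt : zpowers (⟨w', hwK⟩ : K) < ⊤ := lt_top_iff_ne_top.2 fun h => ha3' (h ▸ mem_top _)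
      have h1 := Subgroup.card_subgroup_dvd_card (zpowers (⟨w', hwK⟩ : K))
      rw [Nat.card_zpowers, hwo] at h1
      have h2 : Nat.card K ≠ 3 := fun h => hlt.ne (eq_top_of_card_eq _ (by rw [Nat.card_zpowers, hwo, h]))
      obtain ⟨c, hc⟩ := h1
      have hpos : 0 < Nat.card K := Nat.card_pos
      omega
  obtain ⟨e⟩ := mulEquiv_perm_three (G := K) hwo (Subtype.ext (Subtype.ext (by simpa using ha))) ha3'
    (Subtype.ext (Subtype.ext (by simpa using hinv))) hcard
  refine ⟨K, ⊥, inferInstance, ⟨(QuotientGroup.quotientMulEquivOfEq (bot_subgroupOf K)).trans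
    (QuotientGroup.quotientBot.trans e)⟩⟩

/-- If `A` acts nontrivially on the odd group `O`, some element is inverted by `a ∈ A` and centralized by a
hyperplane. -/
theorem exists_inverted_hyperplane {A O : Subgroup X} (hAc : IsMulCommutative A) (hexp : ∀ a ∈ A, a ^ 2 = 1)
    (hAO : A ≤ normalizer (O : Set X)) (hO : (Nat.card O).Coprime 2)
    (hnt : ¬ O ≤ centralizer (A : Set X)) :
    ∃ (B : Subgroup X) (a w : X), B ≤ A ∧ a ∈ A ∧ a ∉ B ∧ B ⊔ zpowers a = A ∧ w ∈ O ∧ (orderOf w).Prime ∧
      orderOf w ≠ 2 ∧ (∀ b ∈ B, b * w = w * b) ∧ a * w * a⁻¹ = w⁻¹ := by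
  obtain ⟨B, hB⟩ := (Set.toFinite {B : Subgroup X | B ≤ A ∧ ¬ O ⊓ centralizer (B : Set X) ≤ centralizer (A : Set X)}).exists_maximal
    ⟨⊥, bot_le, by
      intro h
      refine hnt (fun x hx => h ⟨hx, ?_⟩)
      show x ∈ centralizer ((⊥ : Subgroup X) : Set X)
      rw [mem_centralizer_iff]; intro y hy; rw [mem_bot.1 hy]; simp⟩
  obtain ⟨hBA, hBC⟩ := hB.prop
  set K := O ⊓ centralizer (B : Set X) with hK
  have hmax : ∀ x ∈ A, x ∉ B → K ⊓ centralizer ({x} : Set X) ≤ centralizer (A : Set X) := by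
    intro x hxA hxB
    by_contra hcon
    refine hxB (hB.2 ⟨sup_le hBA (zpowers_le.2 hxA), ?_⟩ le_sup_left (mem_sup_right (mem_zpowers x)))
    rw [centralizer_sup_zpowers, ← inf_assoc]
    exact hcon
  have hKn : A ≤ normalizer (K : Set X) := by
    intro a ha
    apply mem_normalizer_fintype
    intro k hk
    refine ⟨(mem_normalizer_iff.1 (hAO ha) k).1 hk.1, ?_⟩
    show a * k * a⁻¹ ∈ centralizer (B : Set X)
    rw [mem_centralizer_iff]
    intro b hb
    have hab : Commute b a := congrArg Subtype.val (hAc.is_comm.comm ⟨b, hBA hb⟩ ⟨a, ha⟩)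
    have hbk : Commute b k := mem_centralizer_iff.1 hk.2 b hb
    exact ((hab.mul_right hbk).mul_right hab.inv_right).eq
  obtain ⟨a, haA, haB⟩ : ∃ a ∈ A, a ∉ B := by
    by_contra hcon
    push Not at hcon
    exact hBC (inf_le_right.trans (centralizer_le (SetLike.coe_subset_coe.2 hcon)))
  have htop : B ⊔ zpowers a = A := by
    refine le_antisymm (sup_le hBA (zpowers_le.2 haA)) ?_
    by_contra hne
    obtain ⟨b, hbA, hb⟩ := SetLike.not_le_iff_exists.1 hne
    set A1 := zpowers a ⊔ zpowers b
    have hA1 : A1 ≤ A := sup_le (zpowers_le.2 haA) (zpowers_le.2 hbA)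
    haveI : IsMulCommutative A1 :=
      ⟨⟨fun x y => Subtype.ext (congrArg Subtype.val (hAc.is_comm.comm ⟨x, hA1 x.2⟩ ⟨y, hA1 y.2⟩) : _)⟩⟩
    have hexp1 : ∀ x ∈ A1, x ^ 2 = 1 := fun x hx => hexp x (hA1 hx)
    have hnc : ¬ IsCyclic A1 := by
      intro hc
      obtain ⟨g, hg⟩ := IsCyclic.exists_generator (α := A1)
      have hg2 : g ^ 2 = 1 := Subtype.ext (by simpa using hexp1 g g.2)
      have hall : ∀ x : A1, x = 1 ∨ x = g := by
        intro x
        obtain ⟨i, rfl⟩ := mem_zpowers_iff.1 (hg x)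
        rcases Int.even_or_odd i with ⟨c, rfl⟩ | ⟨c, rfl⟩
        · left; rw [← two_mul, zpow_mul, zpow_ofNat, hg2, one_zpow]
        · right; rw [zpow_add, zpow_one, zpow_mul, zpow_ofNat, hg2, one_zpow, one_mul]
      have ha0 : (⟨a, mem_sup_left (mem_zpowers a)⟩ : A1) ≠ 1 := fun h => haB (by
        rw [show a = 1 from congrArg Subtype.val h]; exact one_mem _)
      have hb0 : (⟨b, mem_sup_right (mem_zpowers b)⟩ : A1) ≠ 1 := fun h => hb (by
        rw [show b = 1 from congrArg Subtype.val h]; exact one_mem _)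
      refine hb ?_
      rw [show b = a from congrArg Subtype.val (((hall _).resolve_left hb0).trans ((hall _).resolve_left ha0).symm)]
      exact mem_sup_right (mem_zpowers a)
    haveI : Fact (Nat.Prime 2) := ⟨Nat.prime_two⟩
    refine hBC (H79.le_of_centralizers_le (p := 2) (A := A1) hexp1 hnc (hA1.trans hKn)
      (Nat.Coprime.coprime_dvd_left (card_dvd_of_le inf_le_left) hO) fun x hx hx1 => ?_)
    refine hmax x (hA1 hx) fun hxB => ?_
    -- `A1 ∩ B` is trivial
    have hacomm : a ∈ normalizer (B : Set X) := by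
      apply mem_normalizer_fintype
      intro z hz
      rw [show a * z = z * a from congrArg Subtype.val (hAc.is_comm.comm ⟨a, haA⟩ ⟨z, hBA hz⟩), mul_inv_cancel_right]
      exact hz
    have hbnorm : b ∈ normalizer (zpowers a : Set X) := by
      apply mem_normalizer_fintype
      intro z hz
      rw [show b * z = z * b from congrArg Subtype.val (hAc.is_comm.comm ⟨b, hbA⟩ ⟨z, zpowers_le.2 haA hz⟩),
        mul_inv_cancel_right]
      exact hz
    obtain ⟨k, hk, j, rfl⟩ := (mem_sup_zpowers hbnorm).1 hx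
    rcases Int.even_or_odd j with ⟨c, rfl⟩ | ⟨c, rfl⟩
    · rw [← two_mul, zpow_mul, zpow_ofNat, hexp b hbA, one_zpow, mul_one] at hxB hx1
      obtain ⟨i, rfl⟩ := mem_zpowers_iff.1 hk
      rcases Int.even_or_odd i with ⟨d, rfl⟩ | ⟨d, rfl⟩
      · rw [← two_mul, zpow_mul, zpow_ofNat, hexp a haA, one_zpow] at hx1
        exact hx1 rfl
      · rw [zpow_add, zpow_one, zpow_mul, zpow_ofNat, hexp a haA, one_zpow, one_mul] at hxB
        exact haB hxB
    · rw [zpow_add, zpow_one, zpow_mul, zpow_ofNat, hexp b hbA, one_zpow, one_mul] at hxB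
      refine hb ?_
      have := mul_mem (inv_mem (mem_sup_right hk : k ∈ B ⊔ zpowers a)) (mem_sup_left hxB)
      rwa [inv_mul_cancel_left] at this
  -- an element of `K` moved by `a`
  obtain ⟨y, hyK, hy⟩ : ∃ y ∈ K, a * y * a⁻¹ ≠ y := by
    by_contra hcon
    push Not at hcon
    apply hBC
    rw [le_centralizer_iff, ← htop, sup_le_iff]
    refine ⟨(le_centralizer_iff.1 inf_le_right), zpowers_le.2 ?_⟩
    rw [mem_centralizer_iff]
    intro z hz
    exact (mul_inv_eq_iff_eq_mul.1 (hcon z hz)).symm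
  set z := y⁻¹ * (a * y * a⁻¹) with hz
  have hzK : z ∈ K := mul_mem (inv_mem hyK) ((mem_normalizer_iff.1 (hKn haA) y).1 hyK)
  have hainv : a⁻¹ = a := inv_eq_of_mul_eq_one_right (by rw [← sq]; exact hexp a haA)
  have hzinv : a * z * a⁻¹ = z⁻¹ := by
    have haa : a * a = 1 := by rw [← sq]; exact hexp a haA
    rw [hz]
    calc a * (y⁻¹ * (a * y * a⁻¹)) * a⁻¹ = a * y⁻¹ * a * y * (a⁻¹ * a⁻¹) := by group
      _ = (a * y * a⁻¹)⁻¹ * y := by rw [hainv, haa, mul_one, mul_inv_rev, mul_inv_rev, hainv, ← mul_assoc]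
      _ = (y⁻¹ * (a * y * a⁻¹))⁻¹ := by group
  have hz1 : z ≠ 1 := fun h => hy (inv_mul_eq_one.1 h).symm
  obtain ⟨q, hq, hqd⟩ := Nat.exists_prime_and_dvd (n := orderOf z) (fun h => hz1 (orderOf_eq_one_iff.1 h))
  refine ⟨B, a, z ^ (orderOf z / q), hBA, haA, haB, htop, pow_mem hzK.1 _, ?_, ?_, ?_, ?_⟩
  · rwa [orderOf_pow_orderOf_div (orderOf_pos z).ne' hqd]
  · rw [orderOf_pow_orderOf_div (orderOf_pos z).ne' hqd]
    rintro rfl
    have hdvd : 2 ∣ Nat.card O :=
      hqd.trans (by rw [← Subgroup.orderOf_mk z hzK.1]; exact orderOf_dvd_natCard _)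
    have := Nat.eq_one_of_dvd_one (Nat.dvd_gcd hdvd dvd_rfl |>.trans hO.dvd)
    omega
  · intro b hb
    exact ((show Commute b z from mem_centralizer_iff.1 hzK.2 b hb).pow_right _).eq
  · rw [← conj_pow, hzinv, inv_pow]

/-- The offender bound. -/
theorem card_sq_le_relIndex {V O : Subgroup X} (hVc : IsMulCommutative V) (hV2 : ∀ v ∈ V, v ^ 2 = 1)
    (hOV : O ≤ normalizer (V : Set X)) (hO : (Nat.card O).Coprime 2)
    (hOf : O ⊓ centralizer (V : Set X) = ⊥) {M : Subgroup X} (h3 : ∀ w a : X, orderOf w = 3 → w ∈ O → a ∈ M → a ^ 2 = 1 →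
      a ∈ normalizer (O : Set X) → a * w * a⁻¹ = w⁻¹ → a ∈ normalizer (V : Set X) → False) :
    ∀ A : Subgroup X, IsMulCommutative A → (∀ a ∈ A, a ^ 2 = 1) → A ≤ normalizer (O : Set X) →
      A ≤ normalizer (V : Set X) → A ⊓ centralizer (O : Set X) = ⊥ → A ≤ M →
      Nat.card A ^ 2 ≤ (V ⊓ centralizer (A : Set X)).relIndex V := by
  intro A
  induction hn : Nat.card A using Nat.strong_induction_on generalizing A with
  | _ n ih =>
    intro hAc hexp hAO hAV hAf hAM
    subst hn
    by_cases hbot : A = ⊥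
    · rw [hbot, card_bot, one_pow]
      exact Nat.one_le_iff_ne_zero.2 index_ne_zero_of_finite
    obtain ⟨B, a, w, hBA, haA, haB, htop, hwO, hwp, hw2, hBw, hinv⟩ :=
      exists_inverted_hyperplane hAc hexp hAO hO (fun hle => hbot (by
        rw [← hAf, eq_comm, inf_eq_left]; exact le_centralizer_iff.1 hle))
    have hBlt : B < A := lt_of_le_of_ne hBA fun h => haB (h ▸ haA)
    haveI : Fact (Nat.Prime 2) := ⟨Nat.prime_two⟩
    have hBn : a ∈ normalizer (B : Set X) := by
      apply mem_normalizer_fintype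
      intro z hz
      rw [show a * z = z * a from congrArg Subtype.val (hAc.is_comm.comm ⟨a, haA⟩ ⟨z, hBA hz⟩), mul_inv_cancel_right]
      exact hz
    have hcardA : Nat.card A ≤ 2 * Nat.card B := by
      have h1 : ∀ g : A, (g : X) ∈ B ∨ a⁻¹ * g ∈ B := by
        intro g
        obtain ⟨k, hk, i, hki⟩ := (mem_sup_zpowers hBn).1 (show (g : X) ∈ B ⊔ zpowers a from htop.symm ▸ g.2)
        rcases Int.even_or_odd i with ⟨c, rfl⟩ | ⟨c, rfl⟩
        · left; rw [← hki, ← two_mul, zpow_mul, zpow_ofNat, hexp a haA, one_zpow, mul_one]; exact hk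
        · right
          rw [← hki, zpow_add, zpow_one, zpow_mul, zpow_ofNat, hexp a haA, one_zpow, one_mul, ← mul_assoc]
          have := (mem_normalizer_iff.1 (inv_mem hBn) k).1 hk
          rwa [inv_inv] at this
      have h2 : Nat.card A ≤ Nat.card (B ⊕ B) := by
        classical
        refine Nat.card_le_card_of_injective
          (fun g => if h : (g : X) ∈ B then Sum.inl ⟨g, h⟩ else Sum.inr ⟨a⁻¹ * g, (h1 g).resolve_left h⟩) ?_
        intro g g' he
        dsimp only at he
        split at he <;> split at he <;> simp only [Sum.inl.injEq, Sum.inr.injEq, Subtype.mk.injEq, reduceCtorEq] at he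
        · exact Subtype.ext he
        · exact Subtype.ext (mul_left_cancel he)
      rwa [Nat.card_sum, ← two_mul] at h2
    have hlt : Nat.card B < Nat.card A := by
      rcases lt_or_ge (Nat.card B) (Nat.card A) with h | h
      · exact h
      · exact absurd (Subgroup.eq_of_le_of_card_ge hBA h) hBlt.ne
    have hIH := ih _ hlt B rfl ⟨⟨fun x y => Subtype.ext (congrArg Subtype.val
      (hAc.is_comm.comm ⟨x, hBA x.2⟩ ⟨y, hBA y.2⟩) : _)⟩⟩ (fun b hb => hexp b (hBA hb)) (hBA.trans hAO)
      (hBA.trans hAV) (eq_bot_iff.2 (fun x hx => hAf ▸ ⟨hBA hx.1, hx.2⟩)) (hBA.trans hAM)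
    set U := V ⊓ centralizer (B : Set X) with hU
    have hVcomm : ∀ u ∈ V, ∀ v ∈ V, u * v = v * u := fun u hu v hv =>
      congrArg Subtype.val (hVc.is_comm.comm ⟨u, hu⟩ ⟨v, hv⟩)
    have hwV : ∀ i : ℕ, ∀ v ∈ V, w ^ i * v * (w ^ i)⁻¹ ∈ V := fun i v hv =>
      (mem_normalizer_iff.1 (hOV (pow_mem hwO i)) v).1 hv
    have hwq : ∀ v ∈ V, ∀ c ∈ V, w * c * w⁻¹ = c → w * v * w⁻¹ = v * c → c = 1 := by
      intro v hv c hc hcw hvw
      have h1 : ∀ i : ℕ, w ^ i * v * (w ^ i)⁻¹ = v * c ^ i := by
        intro i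
        induction i with
        | zero => simp
        | succ i ihi =>
          calc w ^ (i + 1) * v * (w ^ (i + 1))⁻¹ = w * (w ^ i * v * (w ^ i)⁻¹) * w⁻¹ := by rw [pow_succ']; group
            _ = (w * v * w⁻¹) * (w * c ^ i * w⁻¹) := by rw [ihi]; group
            _ = v * (c * c ^ i) := by rw [hvw, ← conj_pow, hcw, mul_assoc]
            _ = _ := by rw [← pow_succ']
      have h2 := h1 (orderOf w)
      rw [pow_orderOf_eq_one, one_mul, inv_one, mul_one, left_eq_mul, ← orderOf_dvd_iff_pow_eq_one] at h2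
      rcases (Nat.dvd_prime Nat.prime_two).1 (orderOf_dvd_of_pow_eq_one (hV2 c hc)) with h | h
      · exact orderOf_eq_one_iff.1 h
      · rw [h] at h2
        exact absurd ((Nat.prime_dvd_prime_iff_eq Nat.prime_two hwp).1 h2).symm hw2
    -- `w` moves some element of `U`
    have hwU : ∃ u ∈ U, w * u * w⁻¹ ≠ u := by
      by_contra hcon
      push Not at hcon
      have hw1 : w ≠ 1 := fun h => hwp.ne_one (by rw [h, orderOf_one])
      apply hw1
      rw [← mem_bot, ← hOf]
      refine ⟨hwO, mem_centralizer_iff.2 fun v hv => ?_⟩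
      have hv' : w * v * w⁻¹ = v := by
        by_contra hne
        -- the displacements form a `B`-invariant subgroup
        let φ : V →* X :=
          { toFun := fun v => w * (v : X) * w⁻¹ * (v : X)⁻¹
            map_one' := by simp
            map_mul' := fun s t => by
              have ht : w * (t : X) * w⁻¹ * (t : X)⁻¹ ∈ V := mul_mem (by simpa using hwV 1 t t.2) (inv_mem t.2)
              simp only [Subgroup.coe_mul, mul_inv_rev]
              calc w * ((s : X) * t) * w⁻¹ * ((t : X)⁻¹ * (s : X)⁻¹)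
                  = (w * s * w⁻¹) * ((w * t * w⁻¹ * (t : X)⁻¹) * (s : X)⁻¹) := by group
                _ = (w * s * w⁻¹) * ((s : X)⁻¹ * (w * t * w⁻¹ * (t : X)⁻¹)) := by
                    rw [hVcomm _ ht _ (inv_mem s.2)]
                _ = _ := by group }
        have hRV : φ.range ≤ V := by
          rintro _ ⟨s, rfl⟩
          exact mul_mem (by simpa using hwV 1 s s.2) (inv_mem s.2)
        have hBR : B ≤ normalizer (φ.range : Set X) := by
          intro b hb
          apply mem_normalizer_fintype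
          rintro _ ⟨s, rfl⟩
          refine ⟨⟨b * s * b⁻¹, (mem_normalizer_iff.1 (hAV (hBA hb)) _).1 s.2⟩, ?_⟩
          show w * (b * s * b⁻¹) * w⁻¹ * (b * (s : X) * b⁻¹)⁻¹ = b * (w * s * w⁻¹ * (s : X)⁻¹) * b⁻¹
          have hc := hBw b hb
          calc w * (b * s * b⁻¹) * w⁻¹ * (b * (s : X) * b⁻¹)⁻¹
              = (w * b) * s * (w * b)⁻¹ * (b * (s : X)⁻¹ * b⁻¹) := by group
            _ = (b * w) * s * (b * w)⁻¹ * (b * (s : X)⁻¹ * b⁻¹) := by rw [hc]
            _ = _ := by group
        set H := B ⊔ φ.range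
        have hHn : (φ.range.subgroupOf H).Normal :=
          normal_subgroupOf_iff_le_normalizer_inf.2 (by
            rw [inf_eq_left.2 le_sup_right]; exact sup_le hBR le_normalizer)
        have hP2 : IsPGroup 2 B := fun x => ⟨1, Subtype.ext (by simpa using hexp x (hBA x.2))⟩
        have hR2 : IsPGroup 2 φ.range := fun x => ⟨1, Subtype.ext (by simpa using hV2 x (hRV x.2))⟩
        have hH2 : IsPGroup 2 H := IsPGroup.to_sup_of_normal_right' hP2 hR2 hBR
        have hne' : φ.range.subgroupOf H ≠ ⊥ := by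
          rw [Ne, subgroupOf_eq_bot, disjoint_iff, inf_eq_left.2 le_sup_right]
          intro h
          have : φ ⟨v, hv⟩ ∈ φ.range := ⟨_, rfl⟩
          rw [h, mem_bot] at this
          exact hne (mul_inv_eq_one.1 this)
        obtain ⟨⟨c, hc⟩, hc1⟩ := Subgroup.ne_bot_iff_exists_ne_one.1 (inf_center_ne_bot hH2 hHn hne')
        obtain ⟨hcR, hcZ⟩ := hc
        have hcV : (c : X) ∈ V := hRV hcR
        have hcU : (c : X) ∈ U := by
          refine ⟨hcV, mem_centralizer_iff.2 fun b hb => ?_⟩
          exact congrArg Subtype.val (mem_center_iff.1 hcZ ⟨b, mem_sup_left hb⟩)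
        obtain ⟨s, hs⟩ := hcR
        have hs' : w * (s : X) * w⁻¹ = (s : X) * (c : X) := by
          have : w * (s : X) * w⁻¹ * (s : X)⁻¹ = (c : X) := hs
          rw [hVcomm _ s.2 _ hcV, ← this, inv_mul_cancel_right]
        exact hc1 (Subtype.ext (Subtype.ext (hwq s s.2 c hcV (hcon _ hcU) hs')))
      exact (mul_inv_eq_iff_eq_mul.1 hv').symm
    obtain ⟨u, huU, hu⟩ := hwU
    -- `a` gains at least a factor four on `U`
    have hwU' : ∀ i : ℕ, ∀ v ∈ U, w ^ i * v * (w ^ i)⁻¹ ∈ U := by
      intro i v hv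
      refine ⟨hwV i v hv.1, mem_centralizer_iff.2 fun b hb => ?_⟩
      have hbw : Commute b (w ^ i) := Commute.pow_right (hBw b hb) i
      have hbv : Commute b v := mem_centralizer_iff.1 hv.2 b hb
      exact ((hbw.mul_right hbv).mul_right hbw.inv_right).eq
    set C := U ⊓ centralizer ({a} : Set X) with hC
    have hsplit : (V ⊓ centralizer (A : Set X)).relIndex V = C.relIndex U * U.relIndex V := by
      rw [relIndex_mul_relIndex C U V inf_le_left inf_le_left]
      congr 1
      rw [hC, hU, inf_assoc, ← centralizer_sup_zpowers, htop]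
    rw [hsplit]
    have hainv : a⁻¹ = a := inv_eq_of_mul_eq_one_right (by rw [← sq]; exact hexp a haA)
    have hfour : 4 ≤ C.relIndex U := by
      by_contra hlt4
      -- points fixed by both `a` and `a * w`
      set C0 := C ⊓ centralizer ({a * w} : Set X) with hC0
      have hC0w : ∀ c ∈ C0, w * c * w⁻¹ = c := by
        intro c hc
        have h1 : c * a = a * c := (mem_centralizer_singleton_iff.1 hc.1.2)
        have h2 : c * (a * w) = a * w * c := (mem_centralizer_singleton_iff.1 hc.2)
        rw [mul_inv_eq_iff_eq_mul]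
        have : a * (c * w) = a * (w * c) := by rw [← mul_assoc, ← h1, mul_assoc, h2, mul_assoc]
        exact (mul_left_cancel this).symm
      have hC0U : C0 ≤ U := inf_le_left.trans inf_le_left
      have hwn : ∀ c ∈ C0, ∀ v ∈ U, w * v * w⁻¹ = v * c → w * v * w⁻¹ = v := fun c hc v hv h => by
        rw [h, hwq v hv.1 c (hC0U hc).1 (hC0w c hc) h, mul_one]
      -- index at most four
      have hidx : C0.relIndex U ≤ 5 - 1 := by
        have h1 := relIndex_mul_relIndex C0 C U inf_le_left inf_le_left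
        have h2 : C0.relIndex C ≤ (U ⊓ centralizer ({a * w} : Set X)).relIndex U := by
          have : C0 = (U ⊓ centralizer ({a * w} : Set X)) ⊓ C := by
            rw [hC0]
            exact le_antisymm (le_inf (le_inf (inf_le_left.trans inf_le_left) inf_le_right) inf_le_left)
              (le_inf inf_le_right (inf_le_left.trans inf_le_right))
          rw [this, inf_relIndex_right]
          exact relIndex_le_of_le_right inf_le_left index_ne_zero_of_finite
        have h3 : (U ⊓ centralizer ({a * w} : Set X)).relIndex U = C.relIndex U := by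
          -- `a * w` is conjugate to `a` by a power of `w`
          obtain ⟨k, hk⟩ : ∃ k, orderOf w = 2 * k + 1 := hwp.odd_of_ne_two hw2
          have hconj : w ^ k * a * (w ^ k)⁻¹ = a * w := by
            have h4 : a * w ^ k * a⁻¹ = (w ^ k)⁻¹ := by rw [← conj_pow, hinv, inv_pow]
            have h5 : a * w ^ k = (w ^ k)⁻¹ * a := mul_inv_eq_iff_eq_mul.1 h4
            have h6 : w ^ k * a = a * (w ^ k)⁻¹ := by
              apply mul_right_cancel (b := w ^ k)
              rw [inv_mul_cancel_right, mul_assoc, h5, mul_inv_cancel_left]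
            rw [h6, mul_assoc]
            congr 1
            rw [← mul_inv_rev, ← pow_add]
            apply inv_eq_of_mul_eq_one_right
            rw [← pow_succ, show k + k + 1 = 2 * k + 1 by omega, ← hk, pow_orderOf_eq_one]
          set e := (MulAut.conj (w ^ k)).toMonoidHom
          have hUe : U.map e = U := Subgroup.eq_of_le_of_card_ge
            (by rintro _ ⟨v, hv, rfl⟩; exact hwU' k v hv)
            (by rw [card_map_of_injective (MulAut.conj (w ^ k)).injective])
          have hCe : C.map e = U ⊓ centralizer ({a * w} : Set X) := by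
            rw [hC, map_inf_eq _ _ e (MulAut.conj (w ^ k)).injective, hUe]
            congr 1
            rw [← hconj]
            ext x
            rw [mem_centralizer_singleton_iff]
            constructor
            · rintro ⟨v, hv, rfl⟩
              have hv' : v * a = a * v := mem_centralizer_singleton_iff.1 hv
              show w ^ k * v * (w ^ k)⁻¹ * (w ^ k * a * (w ^ k)⁻¹) = w ^ k * a * (w ^ k)⁻¹ * (w ^ k * v * (w ^ k)⁻¹)
              calc w ^ k * v * (w ^ k)⁻¹ * (w ^ k * a * (w ^ k)⁻¹) = w ^ k * (v * a) * (w ^ k)⁻¹ := by group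
                _ = _ := by rw [hv']; group
            · intro hx
              refine ⟨(w ^ k)⁻¹ * x * w ^ k, mem_centralizer_singleton_iff.2 ?_, ?_⟩
              · calc (w ^ k)⁻¹ * x * w ^ k * a = (w ^ k)⁻¹ * (x * (w ^ k * a * (w ^ k)⁻¹)) * w ^ k := by group
                  _ = _ := by rw [hx]; group
              · show w ^ k * ((w ^ k)⁻¹ * x * w ^ k) * (w ^ k)⁻¹ = x
                group
          rw [← hCe]
          conv_lhs => rw [← hUe]
          exact relIndex_map_map_of_injective _ _ (MulAut.conj (w ^ k)).injective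
        rw [h3] at h2
        have h4 : C.relIndex U ≠ 3 := by
          intro h
          have hd : C.relIndex U ∣ Nat.card U := by
            have h5 := relIndex_mul_relIndex ⊥ C U bot_le inf_le_left
            rw [relIndex_bot_left, relIndex_bot_left] at h5
            exact ⟨Nat.card C, by rw [← h5, mul_comm]⟩
          have hU2 : IsPGroup 2 U := fun x => ⟨1, Subtype.ext (by simpa using hV2 x x.2.1)⟩
          obtain ⟨m, hm⟩ := IsPGroup.iff_card.1 hU2
          rw [h, hm] at hd
          have := Nat.prime_three.dvd_of_dvd_pow hd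
          omega
        have h5 : C.relIndex U ≤ 2 := by omega
        rw [← h1]
        exact le_trans (Nat.mul_le_mul (h2.trans h5) h5) (by norm_num)
      -- `w` permutes at most four cosets, so fixes each
      apply hu
      set D := C0.subgroupOf U
      let f : ℕ → U ⧸ D := fun i => QuotientGroup.mk ⟨w ^ i * u * (w ^ i)⁻¹, hwU' i u huU⟩
      have hnot : ¬ Function.Injective (fun i : Fin 5 => f i) := by
        intro hinj
        have := Nat.card_le_card_of_injective _ hinj
        rw [Nat.card_fin] at this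
        have h2 : Nat.card (U ⧸ D) ≤ 4 := hidx
        omega
      rw [Function.not_injective_iff] at hnot
      obtain ⟨i, j, hij, hne⟩ := hnot
      have h7 : (w ^ (i : ℕ) * u * (w ^ (i : ℕ))⁻¹)⁻¹ * (w ^ (j : ℕ) * u * (w ^ (j : ℕ))⁻¹) ∈ C0 :=
        mem_subgroupOf.1 (QuotientGroup.eq.1 hij)
      -- a nontrivial power `t` moves `u` into its coset
      set t : ℤ := (j : ℤ) - (i : ℤ) with ht
      have hwz : ∀ c ∈ C0, ∀ s : ℤ, w ^ s * c * (w ^ s)⁻¹ = c := by
        intro c hc s
        have : Commute w c := mul_inv_eq_iff_eq_mul.1 (hC0w c hc)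
        rw [(this.zpow_left s).eq, mul_inv_cancel_right]
      have h8 : u⁻¹ * (w ^ t * u * (w ^ t)⁻¹) ∈ C0 := by
        have h9 := hwz _ h7 (-(i : ℤ))
        rw [← h9] at h7
        convert h7 using 1
        rw [ht, zpow_sub, zpow_natCast, zpow_natCast, zpow_neg, zpow_natCast,
          show w ^ (j : ℕ) * (w ^ (i : ℕ))⁻¹ = (w ^ (i : ℕ))⁻¹ * w ^ (j : ℕ) from
            (((Commute.refl w).pow_pow _ _).inv_right).eq]
        group
      have hq5 : 5 ≤ orderOf w := by
        have h5 := hwp.two_le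
        have h4 : orderOf w ≠ 4 := fun h => by rw [h] at hwp; norm_num at hwp
        have h3' : orderOf w ≠ 3 := fun h => h3 w a h hwO (hAM haA) (hexp a haA) (hAO haA) hinv (hAV haA)
        omega
      have htq : ¬ (orderOf w : ℤ) ∣ t := by
        intro hd
        have hi := i.2
        have hj := j.2
        have : t = 0 := Int.eq_zero_of_abs_lt_dvd hd (by rw [abs_lt]; omega)
        exact hne (Fin.ext (by omega))
      obtain ⟨α, β, hαβ⟩ : IsCoprime (orderOf w : ℤ) t :=
        (Nat.prime_iff_prime_int.1 hwp).coprime_iff_not_dvd.2 htq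
      set c := u⁻¹ * (w ^ t * u * (w ^ t)⁻¹) with hc
      have hfix : ∀ s : ℤ, w ^ (t * s) * u * (w ^ (t * s))⁻¹ = u * c ^ s := by
        intro s
        induction s using Int.induction_on with
        | zero => simp
        | succ s ihs =>
          have e : t * ((s : ℤ) + 1) = t + t * s := by ring
          calc w ^ (t * ((s : ℤ) + 1)) * u * (w ^ (t * ((s : ℤ) + 1)))⁻¹
              = w ^ t * (w ^ (t * s) * u * (w ^ (t * s))⁻¹) * (w ^ t)⁻¹ := by rw [e, zpow_add]; group
            _ = (w ^ t * u * (w ^ t)⁻¹) * (w ^ t * c ^ (s : ℤ) * (w ^ t)⁻¹) := by rw [ihs]; group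
            _ = u * c ^ ((s : ℤ) + 1) := by
                rw [← conj_zpow, hwz c h8 t, show w ^ t * u * (w ^ t)⁻¹ = u * c by rw [hc, mul_inv_cancel_left],
                  mul_assoc, zpow_add, zpow_one, ((Commute.refl c).zpow_left (s : ℤ)).eq]
        | pred s ihs =>
          have e : t * (-(s : ℤ) - 1) = -t + t * (-(s : ℤ)) := by ring
          have hu' : w ^ (-t) * u * (w ^ (-t))⁻¹ = u * c⁻¹ := by
            apply mul_right_cancel (b := c)
            rw [inv_mul_cancel_right]
            nth_rewrite 1 [← hwz c h8 (-t)]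
            rw [hc, zpow_neg]; group
          calc w ^ (t * (-(s : ℤ) - 1)) * u * (w ^ (t * (-(s : ℤ) - 1)))⁻¹
              = w ^ (-t) * (w ^ (t * (-(s : ℤ))) * u * (w ^ (t * (-(s : ℤ))))⁻¹) * (w ^ (-t))⁻¹ := by
                rw [e, zpow_add]; group
            _ = (w ^ (-t) * u * (w ^ (-t))⁻¹) * (w ^ (-t) * c ^ (-(s : ℤ)) * (w ^ (-t))⁻¹) := by rw [ihs]; group
            _ = u * c ^ (-(s : ℤ) - 1) := by
                rw [← conj_zpow, hwz c h8 (-t), hu', mul_assoc, sub_eq_neg_add, zpow_add, zpow_neg_one]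
      have hw1 : w ^ (t * β) = w := by
        rw [show t * β = 1 - (orderOf w : ℤ) * α by linarith, zpow_sub, zpow_one, zpow_mul, zpow_natCast,
          pow_orderOf_eq_one, one_zpow, inv_one, mul_one]
      have h10 := hfix β
      rw [hw1] at h10
      exact hwn _ (zpow_mem h8 β) u huU h10
    calc Nat.card A ^ 2 ≤ (2 * Nat.card B) ^ 2 := Nat.pow_le_pow_left hcardA 2
      _ = 4 * Nat.card B ^ 2 := by ring
      _ ≤ _ := Nat.mul_le_mul hfour hIH

end H30
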