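import Mathlib
import Cfsg.Prelude.Def_Solvable
import Cfsg.Agent.H1.Cores
import Cfsg.Agent.H1.Hall
import Cfsg.Agent.H84.EPPO
import Cfsg.Agent.H2.FPFSubgroup

set_option autoImplicit false
set_option linter.all false

/-! Non-solvable groups with all element orders prime powers. -/

open Subgroup

namespace H30

variable {G : Type*} [Group G] [Finite G]

/-- A finite `p`-group is solvable. -/
theorem isSolvable_of_isPGroup {p : ℕ} [Fact p.Prime] {X : Type*} [Group X] [Finite X] (h : IsPGroup p X) :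
    Group.IsSolvable X := by
  haveI := h.isNilpotent
  infer_instance

/-- The solvable radical of a non-solvable EPPO group is a group of prime-power order. -/
theorem eppo_radical (hns : ¬ Group.IsSolvable G) (h : ∀ g : G, IsPrimePow (orderOf g) ∨ g = 1)
    (R : Subgroup G) [hRn : R.Normal] (hRs : Group.IsSolvable R) : ∃ p : ℕ, p.Prime ∧ IsPGroup p R := by
  classical
  by_cases hbot : R = ⊥
  · exact ⟨2, Nat.prime_two, hbot ▸ IsPGroup.of_bot⟩
  haveI : Nontrivial R := (nontrivial_iff_ne_bot R).2 hbot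
  haveI := hRs
  obtain ⟨p, N0, hp, hN0n, hN0b, hN0p⟩ := H1.exists_normal_pgroup_ne_bot R
  haveI : Fact p.Prime := ⟨hp⟩
  refine ⟨p, hp, ?_⟩
  haveI : (Cfsg.pCore p R).Characteristic := H1.pCore_characteristic p R
  set V := (Cfsg.pCore p R).map R.subtype with hV
  haveI hVn : V.Normal := ConjAct.normal_of_characteristic_of_normal
  have hVp : IsPGroup p V := (H1.isPGroup_pCore p R).map _
  have hVb : V ≠ ⊥ := by
    rw [hV, Ne, map_eq_bot_iff_of_injective _ R.subtype_injective]
    exact fun hb => hN0b (le_bot_iff.1 (hb ▸ H1.le_pCore hN0p))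
  have hVR : V ≤ R := map_subtype_le _
  have hVmax : ∀ K : Subgroup G, K.Normal → K ≤ R → IsPGroup p K → K ≤ V := by
    intro K hK hKR hKp
    have h1 : K.subgroupOf R ≤ Cfsg.pCore p R :=
      H1.le_pCore (hKp.of_equiv (subgroupOfEquivOfLe hKR).symm)
    intro k hk
    exact ⟨⟨k, hKR hk⟩, h1 (mem_subgroupOf.2 hk), rfl⟩
  by_contra hRp
  have hlt : ¬ R ≤ V := fun hle => hRp (hVp.to_le hle)
  set Rb := R.map (QuotientGroup.mk' V) with hRb
  haveI : Rb.Normal := hRn.map _ (QuotientGroup.mk'_surjective V)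
  haveI : Nontrivial Rb := (nontrivial_iff_ne_bot _).2 fun hb => hlt (by
    rw [hRb, Subgroup.map_eq_bot_iff, QuotientGroup.ker_mk'] at hb; exact hb)
  haveI : Group.IsSolvable Rb :=
    Group.isSolvable_of_surjective ((QuotientGroup.mk' V).subgroupMap_surjective R)
  obtain ⟨q, M0, hq, hM0n, hM0b, hM0q⟩ := H1.exists_normal_pgroup_ne_bot Rb
  haveI : Fact q.Prime := ⟨hq⟩
  haveI : (Cfsg.pCore q Rb).Characteristic := H1.pCore_characteristic q Rb
  set Kb := (Cfsg.pCore q Rb).map Rb.subtype with hKb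
  haveI hKbn : Kb.Normal := ConjAct.normal_of_characteristic_of_normal
  set K := Kb.comap (QuotientGroup.mk' V) with hKdef
  haveI hKn : K.Normal := hKbn.comap _
  have hVK : V ≤ K := fun v hv => by
    show (v : G ⧸ V) ∈ Kb
    rw [(QuotientGroup.eq_one_iff v).2 hv]; exact one_mem _
  have hKR : K ≤ R := fun k hk => by
    obtain ⟨r, hr, hrk⟩ := (map_subtype_le _ : Kb ≤ Rb) hk
    have : r⁻¹ * k ∈ V := QuotientGroup.eq.1 hrk
    have h2 := mul_mem hr (hVR this)
    rwa [mul_inv_cancel_left] at h2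
  have hKne : ¬ K ≤ V := fun hle => by
    apply hM0b
    rw [eq_bot_iff]
    intro m hm
    have h1 : (m : G ⧸ V) ∈ Kb := ⟨m, H1.le_pCore hM0q hm, rfl⟩
    obtain ⟨g, hg⟩ := QuotientGroup.mk'_surjective V (m : G ⧸ V)
    have h2 : g ∈ K := show QuotientGroup.mk' V g ∈ Kb by rw [hg]; exact h1
    have h3 : (g : G ⧸ V) = 1 := (QuotientGroup.eq_one_iff g).2 (hle h2)
    exact mem_bot.2 (Subtype.ext (hg.symm.trans h3))
  have hKbq : IsPGroup q Kb := (H1.isPGroup_pCore q Rb).map _
  have hpq : p ≠ q := by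
    rintro rfl
    refine hKne (hVmax K hKn hKR ?_)
    exact hKbq.comap_of_ker_isPGroup _ (by rw [QuotientGroup.ker_mk']; exact hVp)
  -- the Sylow `q`-subgroup of `K`
  let Q : Sylow q K := Classical.arbitrary _
  set Q' := (Q : Subgroup K).map K.subtype with hQ'
  have hQq : IsPGroup q Q' := Q.isPGroup'.map _
  have hKQV : K ≤ Q' ⊔ V := by
    have h1 : (Q' ⊔ V).relIndex K ∣ Q'.relIndex K := relIndex_dvd_of_le_left K le_sup_left
    have h2 : (Q' ⊔ V).relIndex K ∣ V.relIndex K := relIndex_dvd_of_le_left K le_sup_right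
    have h3 : Q'.relIndex K = (Q : Subgroup K).index := by
      rw [relIndex, hQ', subgroupOf, comap_map_eq_self_of_injective K.subtype_injective]
    obtain ⟨j, hj⟩ := IsPGroup.iff_card.1 hKbq
    have h4 : V.relIndex K = q ^ j := by
      rw [← hj]
      have := relIndex_ker K (QuotientGroup.mk' V)
      rw [QuotientGroup.ker_mk', map_comap_eq_self_of_surjective (QuotientGroup.mk'_surjective V)] at this
      exact this
    rw [h4] at h2
    obtain ⟨i, -, hi⟩ := (Nat.dvd_prime_pow hq).1 h2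
    rw [← relIndex_eq_one, hi]
    rcases Nat.eq_zero_or_pos i with rfl | hpos
    · rfl
    · exact absurd ((dvd_pow_self q hpos.ne').trans (hi ▸ (h3 ▸ h1))) Q.not_dvd_index
  set Nq := normalizer (Q' : Set G) with hNq
  have hNV : Nq ⊔ V = ⊤ := by
    rw [eq_top_iff, ← Sylow.normalizer_sup_eq_top Q]
    exact sup_le le_sup_left (hKQV.trans (sup_le (le_normalizer.trans le_sup_left) le_sup_right))
  have hNns : ¬ Group.IsSolvable Nq := by
    intro hs
    apply hns
    rw [Group.isSolvable_iff_subgroup_quotient V]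
    refine ⟨isSolvable_of_isPGroup hVp, ?_⟩
    refine Group.isSolvable_of_surjective (f := (QuotientGroup.mk' V).comp Nq.subtype) fun a => ?_
    obtain ⟨g, rfl⟩ := QuotientGroup.mk'_surjective V a
    obtain ⟨n, hn, v, hv, rfl⟩ := mem_sup_of_normal_right.1 (show g ∈ Nq ⊔ V from hNV ▸ mem_top g)
    refine ⟨⟨n, hn⟩, ?_⟩
    show (n : G ⧸ V) = ((n * v : G) : G ⧸ V)
    rw [QuotientGroup.eq, inv_mul_cancel_left]
    exact hv
  have hQne : Q' ≠ ⊥ := by
    intro hb
    apply hKne
    rwa [hb, bot_sup_eq] at hKQV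
  -- the central elementary subgroup
  let E : Subgroup G :=
    { carrier := {x | x ∈ Q' ∧ (∀ y ∈ Q', y * x = x * y) ∧ x ^ q = 1}
      one_mem' := ⟨one_mem _, fun y _ => by rw [mul_one, one_mul], one_pow _⟩
      mul_mem' := fun {a b} ha hb => ⟨mul_mem ha.1 hb.1,
        fun y hy => ((show Commute y a from ha.2.1 y hy).mul_right (hb.2.1 y hy)).eq,
        by rw [(show Commute a b from hb.2.1 a ha.1).mul_pow, ha.2.2, hb.2.2, one_mul]⟩
      inv_mem' := fun {a} ha => ⟨inv_mem ha.1, fun y hy => (show Commute y a from ha.2.1 y hy).inv_right.eq,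
        by rw [inv_pow, ha.2.2, inv_one]⟩ }
  haveI hEc : IsMulCommutative E := IsMulCommutative.of_comm fun a b => Subtype.ext (b.2.2.1 a a.2.1)
  haveI : Nontrivial Q' := (nontrivial_iff_ne_bot _).2 hQne
  haveI := hQq.center_nontrivial
  obtain ⟨z, hz⟩ := exists_prime_orderOf_dvd_card' (G := center Q') q
    ((hQq.to_subgroup (center Q')).card_eq_or_dvd.resolve_left Finite.one_lt_card.ne')
  have hzE : ((z : Q') : G) ∈ E :=
    ⟨(z : Q').2, fun y hy => congrArg Subtype.val (mem_center_iff.1 z.2 ⟨y, hy⟩),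
      by rw [← hz, ← Subgroup.coe_pow, ← Subgroup.coe_pow, pow_orderOf_eq_one]; rfl⟩
  have hz1 : ((z : Q') : G) ≠ 1 := by
    intro h1
    rw [show z = 1 from Subtype.ext (Subtype.ext h1), orderOf_one] at hz
    exact hq.one_lt.ne hz
  have hEN : Nq ≤ normalizer (E : Set G) := by
    intro g hg
    apply mem_normalizer_fintype
    intro x hx
    refine ⟨(mem_normalizer_iff.1 hg x).1 hx.1, fun y hy => ?_, by rw [conj_pow, hx.2.2, mul_one, mul_inv_cancel]⟩
    have hy' : g⁻¹ * y * g ∈ Q' := by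
      rw [mem_normalizer_iff.1 hg (g⁻¹ * y * g), show g * (g⁻¹ * y * g) * g⁻¹ = y by group]
      exact hy
    calc y * (g * x * g⁻¹) = g * ((g⁻¹ * y * g) * x) * g⁻¹ := by group
      _ = g * (x * (g⁻¹ * y * g)) * g⁻¹ := by rw [hx.2.1 _ hy']
      _ = g * x * g⁻¹ * y := by group
  -- elements commuting with a `q`-element are `q`-elements
  have hcomq : ∀ x e : G, e ^ q = 1 → e ≠ 1 → x * e = e * x → ∀ r : ℕ, r.Prime → r ∣ orderOf x → r = q := by
    intro x e he he1 hxe r hr hrx
    by_contra hrq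
    exact H84.eppo_not_commute h hr hrx hq (orderOf_eq_prime he he1).symm.dvd hrq hxe
  set Z := (center V).map V.subtype with hZdef
  haveI : Nontrivial V := (nontrivial_iff_ne_bot _).2 hVb
  haveI : IsMulCommutative Z := inferInstance
  have hZb : Z ≠ ⊥ := by
    rw [hZdef, Ne, map_eq_bot_iff_of_injective _ V.subtype_injective]
    exact (nontrivial_iff_ne_bot _).1 hVp.center_nontrivial
  haveI : Z.Normal := ConjAct.normal_of_characteristic_of_normal
  have hcyc : IsCyclic E := by
    refine H2.isCyclic_of_fpf_subgroup E Z (by rw [normalizer_eq_top]; exact le_top) hZb ?_ (Or.inl hEc)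
    intro a ha ha1
    rw [eq_bot_iff]
    intro v hv
    rw [mem_bot]
    by_contra hv1
    obtain ⟨r, hr, hrv⟩ := Nat.exists_prime_and_dvd (mt orderOf_eq_one_iff.1 hv1)
    have hrq := hcomq v a ha.2.2 ha1 (mem_centralizer_singleton_iff.1 hv.2) r hr hrv
    have h1 : orderOf v ∣ Nat.card V := by
      rw [← Subgroup.orderOf_mk v (map_subtype_le (center V) hv.1)]; exact orderOf_dvd_natCard _
    obtain ⟨j, hj⟩ := IsPGroup.iff_card.1 hVp
    exact hpq ((Nat.prime_dvd_prime_iff_eq hr hp).1 (hr.dvd_of_dvd_pow (hj ▸ hrv.trans h1)) ▸ hrq)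
  -- the action of `Nq` on `E`
  let act : Nq →* MulAut (E : Subgroup G) :=
    (E.normalizerMonoidHom).comp (Subgroup.inclusion hEN)
  haveI := hcyc
  have hcomm : ∀ a b : MulAut E, a * b = b * a := fun a b =>
    (IsCyclic.mulAutMulEquiv E).injective (by rw [map_mul, map_mul, mul_comm])
  have hker : IsPGroup q act.ker := by
    intro x
    have hx : ((x : Nq) : G) * ((z : Q') : G) = ((z : Q') : G) * ((x : Nq) : G) := by
      have h1 : act (x : Nq) ⟨_, hzE⟩ = ⟨((z : Q') : G), hzE⟩ := by rw [MonoidHom.mem_ker.1 x.2]; rfl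
      have h2 : ((x : Nq) : G) * ((z : Q') : G) * ((x : Nq) : G)⁻¹ = ((z : Q') : G) := congrArg Subtype.val h1
      exact mul_inv_eq_iff_eq_mul.1 h2
    rcases h ((x : Nq) : G) with hpp | h1
    · obtain ⟨r, k, hr, hk, hrk⟩ := (isPrimePow_nat_iff _).1 hpp
      have hrq := hcomq _ _ hzE.2.2 hz1 hx r hr (hrk ▸ dvd_pow_self r hk.ne')
      refine ⟨k, Subtype.ext (Subtype.ext ?_)⟩
      rw [Subgroup.coe_pow, Subgroup.coe_pow, ← hrq, hrk, pow_orderOf_eq_one]
      rfl
    · exact ⟨0, Subtype.ext (Subtype.ext (by rw [Subgroup.coe_pow, Subgroup.coe_pow, h1, one_pow]; rfl))⟩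
  apply hNns
  haveI : Group.IsSolvable act.ker := isSolvable_of_isPGroup hker
  haveI : Group.IsSolvable (MulAut E) := Group.isSolvable_of_comm hcomm
  exact Group.isSolvable_of_ker_le_range act.ker.subtype act (by rw [range_subtype])

/-- Non-solvable subgroups of an EPPO group do not commute. -/
theorem eppo_not_commute_subgroups (h : ∀ g : G, IsPrimePow (orderOf g) ∨ g = 1) {A B : Subgroup G}
    (hA : A ≠ ⊥) (hB : ¬ Group.IsSolvable B) (hAB : ∀ a ∈ A, ∀ b ∈ B, a * b = b * a) : False := by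
  haveI : Nontrivial A := (nontrivial_iff_ne_bot A).2 hA
  obtain ⟨a, ha⟩ := exists_ne (1 : A)
  obtain ⟨r, hr, hra⟩ := Nat.exists_prime_and_dvd (mt orderOf_eq_one_iff.1 ha)
  obtain ⟨s, hs, hsr, hsB⟩ : ∃ s : ℕ, s.Prime ∧ s ≠ r ∧ s ∣ Nat.card B := by
    by_contra hcon
    push Not at hcon
    haveI : Fact r.Prime := ⟨hr⟩
    refine hB (isSolvable_of_isPGroup (p := r) (IsPGroup.of_card (n := (Nat.card B).primeFactorsList.length) ?_))
    exact Nat.eq_prime_pow_of_unique_prime_dvd Nat.card_pos.ne' fun {d} hd hdB => by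
      by_contra hdr
      exact hcon d hd hdr hdB
  haveI : Fact s.Prime := ⟨hs⟩
  obtain ⟨b, hb⟩ := exists_prime_orderOf_dvd_card' (G := B) s hsB
  exact H84.eppo_not_commute h hr (by rwa [Subgroup.orderOf_coe]) hs (by rw [Subgroup.orderOf_coe, hb])
    hsr.symm (hAB a a.2 b b.2)

/-- An EPPO group without solvable normal subgroups has a simple socle. -/
theorem eppo_socle [Nontrivial G] (h : ∀ g : G, IsPrimePow (orderOf g) ∨ g = 1)
    (hrad : ∀ N : Subgroup G, N.Normal → Group.IsSolvable N → N = ⊥) :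
    ∃ M : Subgroup G, M.Normal ∧ IsSimpleGroup M ∧ ¬ IsMulCommutative M ∧
      ∀ N : Subgroup G, N.Normal → N ≠ ⊥ → M ≤ N := by
  classical
  obtain ⟨M, -, ⟨hMn, hMb⟩, hMmin⟩ :=
    (Set.toFinite {N : Subgroup G | N.Normal ∧ N ≠ ⊥}).exists_le_minimal (a := ⊤) ⟨inferInstance, top_ne_bot⟩
  haveI := hMn
  have hMns : ¬ Group.IsSolvable M := fun hs => hMb (hrad M hMn hs)
  haveI : Nontrivial M := (nontrivial_iff_ne_bot M).2 hMb
  refine ⟨M, hMn, ?_, fun hc => hMns (Group.isSolvable_of_comm fun a b => hc.is_comm.comm a b), ?_⟩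
  · obtain ⟨L, -, ⟨hLn, hLb⟩, hLmin⟩ :=
      (Set.toFinite {N : Subgroup M | N.Normal ∧ N ≠ ⊥}).exists_le_minimal (a := ⊤) ⟨inferInstance, top_ne_bot⟩
    haveI := hLn
    have hLns : ¬ Group.IsSolvable L := by
      intro hs
      haveI : Nontrivial L := (nontrivial_iff_ne_bot L).2 hLb
      obtain ⟨q, V, hq, hVn, hVb, hVq⟩ := H1.exists_normal_pgroup_ne_bot L
      haveI : Fact q.Prime := ⟨hq⟩
      haveI : (Cfsg.pCore q L).Characteristic := H1.pCore_characteristic q L
      haveI : ((Cfsg.pCore q L).map L.subtype).Normal := ConjAct.normal_of_characteristic_of_normal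
      have hb1 : (Cfsg.pCore q L).map L.subtype ≠ ⊥ := by
        rw [Ne, map_eq_bot_iff_of_injective _ L.subtype_injective]
        exact fun hb => hVb (le_bot_iff.1 (hb ▸ H1.le_pCore hVq))
      haveI : (Cfsg.pCore q M).Characteristic := H1.pCore_characteristic q M
      have hle : (Cfsg.pCore q L).map L.subtype ≤ Cfsg.pCore q M :=
        H1.le_pCore ((H1.isPGroup_pCore q L).map _)
      haveI : ((Cfsg.pCore q M).map M.subtype).Normal := ConjAct.normal_of_characteristic_of_normal
      have := hrad ((Cfsg.pCore q M).map M.subtype) inferInstance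
        (isSolvable_of_isPGroup ((H1.isPGroup_pCore q M).map _))
      rw [map_eq_bot_iff_of_injective _ M.subtype_injective] at this
      exact hb1 (le_bot_iff.1 (this ▸ hle))
    -- `L` is invariant under `G`
    have hinv : ∀ g : G, L.map (MulAut.conjNormal (H := M) g).toMonoidHom = L := by
      intro g
      have hφi : Function.Injective (MulAut.conjNormal (H := M) g).toMonoidHom := MulEquiv.injective _
      set L' := L.map (MulAut.conjNormal (H := M) g).toMonoidHom with hL'
      haveI : L'.Normal := hLn.map _ (MulAut.conjNormal (H := M) g).surjective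
      have hL'b : L' ≠ ⊥ := by
        rwa [hL', Ne, map_eq_bot_iff_of_injective _ hφi]
      by_contra hne
      have hd : L' ⊓ L = ⊥ := by
        by_contra hb
        have h1 : L ≤ L' ⊓ L := hLmin ⟨inferInstance, hb⟩ inf_le_right
        exact hne (Subgroup.eq_of_le_of_card_ge (h1.trans inf_le_left)
          (by rw [hL', card_map_of_injective hφi])).symm
      have hcomm := Subgroup.commute_of_normal_of_disjoint L' L inferInstance inferInstance (disjoint_iff.2 hd)
      refine eppo_not_commute_subgroups h (A := L'.map M.subtype) (B := L.map M.subtype) ?_ ?_ ?_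
      · rwa [Ne, map_eq_bot_iff_of_injective _ M.subtype_injective]
      · intro hs
        exact hLns (Group.isSolvable_of_surjective (f := (L.equivMapOfInjective M.subtype M.subtype_injective).symm.toMonoidHom)
          (MulEquiv.surjective _))
      · rintro _ ⟨a, ha, rfl⟩ _ ⟨b, hb, rfl⟩
        exact congrArg Subtype.val (hcomm a b ha hb).eq
    have hLM : L = ⊤ := by
      have hn : (L.map M.subtype).Normal := ⟨fun a ha g => by
        obtain ⟨l, hl, rfl⟩ := ha
        refine ⟨MulAut.conjNormal g l, ?_, MulAut.conjNormal_apply g l⟩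
        rw [← hinv g]
        exact ⟨l, hl, rfl⟩⟩
      have h1 : M ≤ L.map M.subtype := hMmin ⟨hn, by rwa [Ne, map_eq_bot_iff_of_injective _ M.subtype_injective]⟩ (map_subtype_le _)
      rw [eq_top_iff]
      intro m _
      obtain ⟨l, hl, hlm⟩ := h1 m.2
      rwa [← Subtype.ext hlm]
    exact ⟨fun N hN => or_iff_not_imp_left.2 fun hNb => top_le_iff.1 (hLM ▸ hLmin ⟨hN, hNb⟩ (hLM ▸ le_top))⟩
  · intro N hN hNb
    by_contra hle
    have hd : M ⊓ N = ⊥ := by
      by_contra hb
      exact hle ((hMmin ⟨inferInstance, hb⟩ inf_le_left).trans inf_le_right)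
    exact eppo_not_commute_subgroups h hNb hMns fun a ha b hb =>
      (Subgroup.commute_of_normal_of_disjoint N M hN inferInstance (disjoint_iff.2 (by rwa [inf_comm])) a b ha hb).eq

end H30
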