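import Mathlib
import Cfsg.Prelude.Def_Transfer
import Cfsg.Prelude.Def_CaseTheorems
import Cfsg.Agent.H30.Basic
import Cfsg.Agent.H30.Extraspecial
import Cfsg.Agent.H5.ExtraspecialFrame

set_option autoImplicit false
set_option linter.all false

/-! The rank of an extraspecial 2-group determines its type. -/

open Subgroup
open scoped commutatorElement

namespace H30

variable {E : Type*} [Group E] [Finite E] {z : E}

theorem center_data (hE : Cfsg.IsExtraspecial 2 E) :
    ∃ z : E, orderOf z = 2 ∧ center E = zpowers z ∧ (∀ u v : E, ⁅u, v⁆ ∈ zpowers z) ∧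
      (∀ u : E, u ^ 2 ∈ zpowers z) := by
  haveI : Fact (Nat.Prime 2) := ⟨Nat.prime_two⟩
  obtain ⟨⟨hP, h1, h2⟩, hZ⟩ := hE
  obtain ⟨z', hz'⟩ := exists_prime_orderOf_dvd_card' (G := Subgroup.center E) 2 (by rw [hZ])
  have ho : orderOf (z' : E) = 2 := by rw [Subgroup.orderOf_coe, hz']
  have hc : Subgroup.center E = Subgroup.zpowers (z' : E) :=
    (Subgroup.eq_of_le_of_card_ge (Subgroup.zpowers_le.mpr z'.2) (by rw [Nat.card_zpowers, ho, hZ])).symm
  refine ⟨z', ho, hc, fun u v => ?_, fun u => ?_⟩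
  · rw [← hc, ← h2]
    exact Subgroup.commutator_mem_commutator (Subgroup.mem_top u) (Subgroup.mem_top v)
  · rw [← hc, ← h1]; exact H6.pow_prime_mem_frattini hP u

theorem zpowers_two_cases (ho : orderOf z = 2) {u : E} (hu : u ∈ zpowers z) : u = 1 ∨ u = z := by
  haveI : Fact (Nat.Prime 2) := ⟨Nat.prime_two⟩
  obtain ⟨k, hk, rfl⟩ := H5.zpowers_eq_npow ho hu
  interval_cases k <;> simp

theorem fix_partner (ho : orderOf z = 2) (hc : center E = zpowers z) {x y : E}
    (hx2 : x ^ 2 = 1) (hxy : ⁅x, y⁆ = z) (hy2 : y ^ 2 = z) : ⁅x, x * y⁆ = z ∧ (x * y) ^ 2 = 1 := by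
  have hzc : ∀ u : E, u * z = z * u := fun u => mem_center_iff.1 (hc ▸ mem_zpowers z) u
  have hzz : z * z = 1 := by rw [← sq, ← ho, pow_orderOf_eq_one]
  refine ⟨?_, ?_⟩
  · rw [← hxy, commutatorElement_def, commutatorElement_def]
    have h1 : x * (x * y) * x⁻¹ * (x * y)⁻¹ = x * (x * y * x⁻¹ * y⁻¹) * x⁻¹ := by group
    rw [h1, ← commutatorElement_def, hxy, hzc x, mul_inv_cancel_right]
  · have h1 : y * x = x * y * z := by
      have h2 : ⁅x, y⁆ * (y * x) = x * y := by rw [commutatorElement_def]; group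
      rw [hxy] at h2
      rw [← h2, hzc, ← mul_assoc, hzz, one_mul]
    calc (x * y) ^ 2 = x * (y * x) * y := by rw [sq]; group
      _ = x ^ 2 * y * (z * y) := by rw [h1, sq]; group
      _ = x ^ 2 * y ^ 2 * z := by rw [← hzc y, sq y]; group
      _ = 1 := by rw [hx2, hy2, one_mul, hzz]

theorem exists_involution_pair (ho : orderOf z = 2) (hc : center E = zpowers z)
    (hcomm : ∀ u v : E, ⁅u, v⁆ ∈ zpowers z) (hpow : ∀ u : E, u ^ 2 ∈ zpowers z) {W : Subgroup E}
    (hnd : W ⊓ centralizer (W : Set E) ≤ zpowers z) {x : E} (hx : x ∈ W) (hxz : x ∉ zpowers z)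
    (hx2 : x ^ 2 = 1) : ∃ y ∈ W, ⁅x, y⁆ = z ∧ y ^ 2 = 1 := by
  haveI : Fact (Nat.Prime 2) := ⟨Nat.prime_two⟩
  obtain ⟨y, hy, hxy⟩ := H5.exists_partner ho hc hcomm hnd hx hxz
  rcases zpowers_two_cases ho (hpow y) with h | h
  · exact ⟨y, hy, hxy, h⟩
  · exact ⟨x * y, W.mul_mem hx hy, fix_partner ho hc hx2 hxy h⟩

/-- An elementary abelian subgroup of large order: `|W| ≤ 2|A|²`. -/
theorem exists_elementary_aux (ho : orderOf z = 2) (hc : center E = zpowers z)
    (hcomm : ∀ u v : E, ⁅u, v⁆ ∈ zpowers z) (hpow : ∀ u : E, u ^ 2 ∈ zpowers z) :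
    ∀ N : ℕ, ∀ W : Subgroup E, Nat.card W = N → z ∈ W → W ⊓ centralizer (W : Set E) ≤ zpowers z →
      ∃ A ≤ W, z ∈ A ∧ IsMulCommutative A ∧ (∀ a ∈ A, a ^ 2 = 1) ∧ Nat.card W ≤ 2 * Nat.card A ^ 2 := by
  haveI : Fact (Nat.Prime 2) := ⟨Nat.prime_two⟩
  haveI hzcomm : IsMulCommutative (zpowers z) := inferInstance
  have hz2 : ∀ a ∈ zpowers z, a ^ 2 = 1 := fun a ha => by
    rcases zpowers_two_cases ho ha with rfl | rfl
    · exact one_pow 2
    · rw [← ho]; exact pow_orderOf_eq_one _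
  intro N
  induction N using Nat.strong_induction_on with
  | _ N ih =>
    intro W hN hzW hnd
    by_cases hW : W ≤ zpowers z
    · refine ⟨zpowers z, zpowers_le.2 hzW, mem_zpowers z, hzcomm, hz2, ?_⟩
      have := card_le_of_le hW
      rw [Nat.card_zpowers, ho] at this ⊢
      omega
    by_cases hex : ∃ x ∈ W, x ∉ zpowers z ∧ x ^ 2 = 1
    · obtain ⟨x, hx, hxz, hx2⟩ := hex
      obtain ⟨y, hy, hxy⟩ := H5.exists_partner ho hc hcomm hnd hx hxz
      obtain ⟨h1, h2, h3, -⟩ := H5.frame_step ho hc hcomm hzW hnd hx hy hxy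
      obtain ⟨A', hA', hzA', hA'c, hA'2, hA'card⟩ := ih _ (by
        rw [← hN, h3]; exact lt_mul_of_one_lt_left Nat.card_pos (by norm_num)) _ rfl h1 h2
      have hxA : ∀ a ∈ A', a * x = x * a := fun a ha => ((hA' ha).2 x (Or.inl rfl)).symm
      have hxA' : x ∉ A' := by
        intro h
        have : y * x = x * y := (hA' h).2 y (Or.inr rfl)
        rw [← hxy] at ho
        rw [(commutatorElement_eq_one_iff_mul_comm (g₁ := x) (g₂ := y)).2 this.symm, orderOf_one] at ho
        omega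
      refine ⟨A' ⊔ zpowers x, sup_le (hA'.trans inf_le_left) (zpowers_le.2 hx), mem_sup_left hzA',
        isMulCommutative_sup_zpowers hA'c hxA, ?_, ?_⟩
      · intro a ha
        have hn : x ∈ normalizer (A' : Set E) := by
          apply mem_normalizer_fintype
          intro b hb
          rw [← hxA b hb, mul_inv_cancel_right]
          exact hb
        obtain ⟨k, hk, i, rfl⟩ := (mem_sup_zpowers hn).1 ha
        rw [((show Commute k x from hxA k hk).zpow_right i).mul_pow, hA'2 k hk, one_mul, ← zpow_natCast,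
          ← zpow_mul, mul_comm, zpow_mul, zpow_natCast, hx2, one_zpow]
      · have hlt : A' < A' ⊔ zpowers x := lt_of_le_of_ne le_sup_left fun h => hxA' (h ▸ mem_sup_right (mem_zpowers x))
        have h4 : 2 * Nat.card A' ≤ Nat.card (A' ⊔ zpowers x : Subgroup E) := by
          refine card_mul_le_of_lt (p := 2) (fun g => ⟨2, ?_⟩) hlt
          rw [show 2 ^ 2 = 2 * 2 from rfl, pow_mul]
          exact hz2 _ (hpow g)
        rw [h3]
        nlinarith
    · push Not at hex
      obtain ⟨w0, hw0, hw0z⟩ := SetLike.not_le_iff_exists.1 hW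
      obtain ⟨y, hy, hxy⟩ := H5.exists_partner ho hc hcomm hnd hw0 hw0z
      obtain ⟨h1, h2, h3, -⟩ := H5.frame_step ho hc hcomm hzW hnd hw0 hy hxy
      refine ⟨zpowers z, zpowers_le.2 hzW, mem_zpowers z, hzcomm, hz2, ?_⟩
      have hle : W ⊓ centralizer ({w0, y} : Set E) ≤ zpowers z := by
        intro u hu
        by_contra huz
        have hq : ∀ v ∈ W, v ∉ zpowers z → v ^ 2 = z := fun v hv hvz =>
          (zpowers_two_cases ho (hpow v)).resolve_left (hex v hv hvz)
        have hu0 : w0 * u = u * w0 := hu.2 w0 (Or.inl rfl)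
        have huy : y * u = u * y := hu.2 y (Or.inr rfl)
        have hnot : w0 * u ∉ zpowers z := by
          intro h
          have hc1 : (w0 * u) * y = y * (w0 * u) := (mem_center_iff.1 (hc ▸ h) y).symm
          rw [mul_assoc, ← huy, ← mul_assoc, ← mul_assoc] at hc1
          have hz1 : ⁅w0, y⁆ = 1 := commutatorElement_eq_one_iff_mul_comm.2 (mul_right_cancel hc1)
          rw [hxy] at hz1
          rw [hz1, orderOf_one] at ho
          omega
        have h4 := hq _ (W.mul_mem hw0 hu.1) hnot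
        rw [Commute.mul_pow hu0, hq _ hw0 hw0z, hq _ hu.1 huz] at h4
        have hz1 : z = 1 := by simpa using h4
        rw [hz1, orderOf_one] at ho
        omega
      rw [h3]
      have := card_le_of_le hle
      rw [Nat.card_zpowers, ho] at this ⊢
      omega

/-- A maximal possible elementary abelian subgroup yields an untwisted frame. -/
theorem exists_frame_of_elementary (ho : orderOf z = 2) (hc : center E = zpowers z)
    (hcomm : ∀ u v : E, ⁅u, v⁆ ∈ zpowers z) (hpow : ∀ u : E, u ^ 2 ∈ zpowers z) :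
    ∀ N : ℕ, ∀ W : Subgroup E, Nat.card W = N → z ∈ W → W ⊓ centralizer (W : Set E) ≤ zpowers z →
      ∀ A ≤ W, z ∈ A → IsMulCommutative A → (∀ a ∈ A, a ^ 2 = 1) → 2 * Nat.card W ≤ Nat.card A ^ 2 →
      ∃ (n : ℕ) (x y : Fin n → E), H5.IsFrame 2 z W x y (fun _ => 0) (fun _ => 0) := by
  haveI : Fact (Nat.Prime 2) := ⟨Nat.prime_two⟩
  intro N
  induction N using Nat.strong_induction_on with
  | _ N ih =>
    intro W hN hzW hnd A hAW hzA hAc hA2 hbig
    by_cases hW : W ≤ zpowers z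
    · refine ⟨0, Fin.elim0, Fin.elim0, fun i => i.elim0, fun i => i.elim0, ?_, ?_⟩
      · rw [le_antisymm hW (Subgroup.zpowers_le.mpr hzW), Subgroup.zpowers_eq_closure]
        congr 1; simp
      · rw [le_antisymm hW (Subgroup.zpowers_le.mpr hzW), Nat.card_zpowers, ho, mul_zero, zero_add, pow_one]
    obtain ⟨x, hxA, hxz⟩ : ∃ x ∈ A, x ∉ zpowers z := by
      by_contra hcon
      push Not at hcon
      have h1 := card_le_of_le hcon
      rw [Nat.card_zpowers, ho] at h1
      have h2 : Nat.card (zpowers z) < Nat.card W := by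
        rcases lt_or_ge (Nat.card (zpowers z)) (Nat.card W) with h | h
        · exact h
        · exact absurd (Subgroup.eq_of_le_of_card_ge (zpowers_le.2 hzW) h).ge hW
      rw [Nat.card_zpowers, ho] at h2
      nlinarith
    obtain ⟨y, hy, hxy, hy2⟩ := exists_involution_pair ho hc hcomm hpow hnd (hAW hxA) hxz (hA2 x hxA)
    obtain ⟨h1, h2, h3, h4⟩ := H5.frame_step ho hc hcomm hzW hnd (hAW hxA) hy hxy
    set A' := A ⊓ centralizer {y} with hA'
    have hA'le : A' ≤ W ⊓ centralizer ({x, y} : Set E) := by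
      intro a ha
      refine ⟨hAW ha.1, ?_⟩
      rintro u (rfl | hu)
      · exact congrArg Subtype.val (hAc.is_comm.comm ⟨u, hxA⟩ ⟨a, ha.1⟩)
      · rw [Set.mem_singleton_iff] at hu; subst hu
        exact ha.2 u rfl
    have hzA' : z ∈ A' := ⟨hzA, mem_centralizer_singleton_iff.2 (mem_center_iff.1 (hc ▸ mem_zpowers z) y).symm⟩
    have hidx : A'.relIndex A ≤ 2 := by
      refine (relIndex_centralizer_singleton_le A y (zpowers z : Set E) fun a _ => ?_).trans ?_
      · rw [← commutatorElement_def]; exact hcomm a y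
      · show Nat.card (zpowers z) ≤ 2
        rw [Nat.card_zpowers, ho]
    have hAcard : Nat.card A ≤ 2 * Nat.card A' := by
      have h5 := relIndex_mul_relIndex ⊥ A' A bot_le inf_le_left
      rw [relIndex_bot_left, relIndex_bot_left] at h5
      rw [← h5, mul_comm 2]
      exact Nat.mul_le_mul_left _ hidx
    obtain ⟨n, x', y', hf⟩ := ih _ (by
        rw [← hN, h3]; exact lt_mul_of_one_lt_left Nat.card_pos (by norm_num)) _ rfl h1 h2 A' hA'le hzA'
      ⟨⟨fun a b => Subtype.ext (congrArg Subtype.val (hAc.is_comm.comm ⟨a, a.2.1⟩ ⟨b, b.2.1⟩) : _)⟩⟩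
      (fun a ha => hA2 a ha.1) (by rw [h3] at hbig; nlinarith)
    refine ⟨n + 1, Fin.cons x x', Fin.cons y y', ?_⟩
    have := h4 n x' y' _ _ hf 0 0 (by rw [pow_zero]; exact hA2 x hxA) (by rw [pow_zero]; exact hy2)
    have e : (Fin.cons 0 (fun _ => 0) : Fin (n + 1) → ℕ) = fun _ => 0 := by
      funext i; refine Fin.cases ?_ ?_ i <;> simp
    rwa [e] at this

/-- An untwisted frame yields an elementary abelian subgroup of the largest order. -/
theorem card_elementary_of_frame (ho : orderOf z = 2) (hc : center E = zpowers z)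
    (hcomm : ∀ u v : E, ⁅u, v⁆ ∈ zpowers z) {n : ℕ} {x y : Fin n → E}
    (hf : H5.IsFrame 2 z ⊤ x y (fun _ => 0) (fun _ => 0)) :
    ∃ A : Subgroup E, IsMulCommutative A ∧ (∀ a ∈ A, a ^ 2 = 1) ∧ 2 ^ (n + 1) ≤ Nat.card A := by
  classical
  haveI : Fact (Nat.Prime 2) := ⟨Nat.prime_two⟩
  obtain ⟨fp, fc, fg, fk⟩ := hf
  rw [Subgroup.card_top] at fk
  set A := closure (insert z (Set.range x)) with hA
  set B := closure (Set.range y) with hB
  have hzc : ∀ u : E, u * z = z * u := fun u => mem_center_iff.1 (hc ▸ mem_zpowers z) u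
  have hzA : z ∈ A := subset_closure (Set.mem_insert _ _)
  have hAgen : ∀ u ∈ insert z (Set.range x), ∀ v ∈ insert z (Set.range x), u * v = v * u := by
    rintro u (rfl | ⟨i, rfl⟩) v (rfl | ⟨j, rfl⟩)
    · rfl
    · exact (hzc _).symm
    · exact hzc _
    · exact commutatorElement_eq_one_iff_mul_comm.1 (fc i j).1
  have hAc : IsMulCommutative A := Subgroup.le_centralizer_iff_isMulCommutative.1 (by
    rw [hA, closure_le]
    intro u hu
    rw [SetLike.mem_coe, centralizer_closure, mem_centralizer_iff]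
    exact fun v hv => hAgen v hv u hu)
  have hA2 : ∀ a ∈ A, a ^ 2 = 1 := by
    intro a ha
    induction ha using closure_induction with
    | mem u hu =>
      rcases hu with rfl | ⟨i, rfl⟩
      · rw [← ho]; exact pow_orderOf_eq_one _
      · simpa using (fp i).1
    | one => exact one_pow 2
    | mul u v hu hv h1 h2 =>
      rw [(show Commute u v from congrArg Subtype.val (hAc.is_comm.comm ⟨u, hu⟩ ⟨v, hv⟩)).mul_pow, h1, h2, one_mul]
    | inv u hu h1 => rw [inv_pow, h1, inv_one]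
  refine ⟨A, hAc, hA2, ?_⟩
  have hBc : ∀ u v : B, u * v = v * u := by
    have : IsMulCommutative B := Subgroup.le_centralizer_iff_isMulCommutative.1 (by
      rw [hB, closure_le]
      rintro _ ⟨i, rfl⟩
      rw [SetLike.mem_coe, centralizer_closure, mem_centralizer_iff]
      rintro _ ⟨j, rfl⟩
      exact commutatorElement_eq_one_iff_mul_comm.1 (fc j i).2.1)
    exact this.is_comm.comm
  have hBcard : Nat.card B ≤ 2 ^ n := by
    refine H5.card_le_of_generators hBc (fun i => (⟨y i, subset_closure ⟨i, rfl⟩⟩ : B))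
      (fun i => Subtype.ext (by simpa using (fp i).2)) ?_
    apply Subgroup.map_injective B.subtype_injective
    rw [MonoidHom.map_closure, ← MonoidHom.range_eq_map, range_subtype, ← Set.range_comp]
    rfl
  have hAn : A.Normal := ⟨fun a ha g => by
    have h1 : ⁅g, a⁆ ∈ A := zpowers_le.2 hzA (hcomm g a)
    have := mul_mem h1 ha
    rwa [commutatorElement_def, inv_mul_cancel_right] at this⟩
  have htop : A ⊔ B = ⊤ := by
    rw [← fg, hA, hB, ← Subgroup.closure_union, Set.insert_union]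
  have h1 : Nat.card E ≤ Nat.card A * Nat.card B := by
    rw [← card_mul_index A]
    refine Nat.mul_le_mul_left _ ?_
    rw [← relIndex_top_right, ← htop, sup_comm, relIndex_sup_right]
    exact Nat.le_of_dvd Nat.card_pos (relIndex_dvd_card A B)
  rw [fk] at h1
  have h2 : 2 ^ (2 * n + 1) ≤ Nat.card A * 2 ^ n := h1.trans (Nat.mul_le_mul_left _ hBcard)
  rw [show 2 * n + 1 = n + 1 + n by ring, pow_add] at h2
  exact Nat.le_of_mul_le_mul_right h2 (Nat.two_pow_pos n)


theorem exists_card_ge (hE : Cfsg.IsExtraspecial 2 E) {n : ℕ} (hn : Nat.card E = 2 ^ (2 * n + 1)) :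
    1 ≤ n ∧ ¬ Cfsg.PRankLE 2 (n - 1) E ∧ Cfsg.PRankLE 2 (n + 1) E ∧
      (¬ Cfsg.PRankLE 2 n E ↔ ∃ A : Subgroup E, IsMulCommutative A ∧ (∀ a ∈ A, a ^ 2 = 1) ∧ 2 ^ (n + 1) ≤ Nat.card A) := by
  haveI : Fact (Nat.Prime 2) := ⟨Nat.prime_two⟩
  obtain ⟨m, hm, hcard⟩ := extraspecial_card hE
  have hmn : m = n := by
    rw [hn] at hcard
    have := Nat.pow_right_injective (le_refl 2) hcard
    omega
  subst hmn
  obtain ⟨z, ho, hc, hcomm, hpow⟩ := center_data hE
  obtain ⟨A, -, -, hAc, hA2, hAcard⟩ := exists_elementary_aux ho hc hcomm hpow _ ⊤ rfl (mem_top _)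
    (by rw [top_inf_eq, coe_top, centralizer_univ]; exact hc.le)
  rw [card_top, hn] at hAcard
  have hup : Cfsg.PRankLE 2 (m + 1) E := by
    intro B hB _
    refine (Nat.pow_le_pow_iff_left (n := 2) two_ne_zero).1 ((extraspecial_center_map_le hB hE).trans ?_)
    rw [hn, ← pow_succ, ← pow_mul]
    exact Nat.pow_le_pow_right two_pos (by omega)
  refine ⟨hm, fun h => ?_, hup, fun h => ?_, fun ⟨B, hB, hB2, hBcard⟩ h => ?_⟩
  · have h1 := h A hAc hA2
    have h2 : Nat.card A ^ 2 ≤ 2 ^ ((m - 1) * 2) := by rw [pow_mul]; exact Nat.pow_le_pow_left h1 2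
    have h3 : 2 ^ (2 * m + 1) ≤ 2 ^ ((m - 1) * 2 + 1) := by rw [pow_succ 2 ((m - 1) * 2)]; omega
    have := (Nat.pow_le_pow_iff_right (le_refl 2)).1 h3
    omega
  · unfold Cfsg.PRankLE at h
    push Not at h
    obtain ⟨B, hB, hB2, hBcard⟩ := h
    refine ⟨B, hB, hB2, ?_⟩
    obtain ⟨j, hj⟩ : ∃ j, Nat.card B = 2 ^ j := IsPGroup.iff_card.1 (fun b => ⟨1, Subtype.ext (by simpa using hB2 b b.2)⟩)
    rw [hj] at hBcard ⊢
    have := (Nat.pow_lt_pow_iff_right (le_refl 2)).1 hBcard
    exact Nat.pow_le_pow_right two_pos this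
  · have := hBcard.trans (h B hB hB2)
    have := (Nat.pow_le_pow_iff_right (le_refl 2)).1 this
    omega

theorem frame_dichotomy (hE : Cfsg.IsExtraspecial 2 E) {n : ℕ} (hn : Nat.card E = 2 ^ (2 * n + 1)) :
    ∃ (z : E) (x y : Fin n → E), z ^ 2 = 1 ∧ (∀ u, z * u = u * z) ∧
      ((¬ Cfsg.PRankLE 2 n E ∧ H5.IsFrame 2 z ⊤ x y (fun _ => 0) (fun _ => 0)) ∨
       (Cfsg.PRankLE 2 n E ∧ H5.IsFrame 2 z ⊤ x y (H5.twistData n true) (H5.twistData n true))) := by
  haveI : Fact (Nat.Prime 2) := ⟨Nat.prime_two⟩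
  obtain ⟨z, ho, hc, hcomm, hpow⟩ := center_data hE
  obtain ⟨h1, -, hup, hbig⟩ := exists_card_ge hE hn
  have hnd : (⊤ : Subgroup E) ⊓ centralizer ((⊤ : Subgroup E) : Set E) ≤ zpowers z := by
    rw [top_inf_eq, coe_top, centralizer_univ]; exact hc.le
  have hcard : ∀ {k : ℕ} {x y : Fin k → E} {a b : Fin k → ℕ}, H5.IsFrame 2 z ⊤ x y a b → k = n := by
    intro k x y a b hf
    have := hf.2.2.2
    rw [card_top, hn] at this
    have := Nat.pow_right_injective (le_refl 2) this
    omega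
  have hz2 : z ^ 2 = 1 := by rw [← ho]; exact pow_orderOf_eq_one _
  have hzc : ∀ u, z * u = u * z := fun u => (mem_center_iff.1 (hc ▸ mem_zpowers z) u).symm
  by_cases hb : Cfsg.PRankLE 2 n E
  · obtain ⟨m, x, y, ε, hf⟩ := H5.exists_frame_aux ho hc hcomm hpow (Or.inl rfl) _ ⊤ rfl (mem_top _) hnd
    have := hcard hf
    subst this
    cases ε
    · exfalso
      have e : H5.twistData m false = fun _ => 0 := by funext i; simp [H5.twistData]
      rw [e] at hf
      exact (hbig.2 (card_elementary_of_frame ho hc hcomm hf)) hb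
    · exact ⟨z, x, y, hz2, hzc, Or.inr ⟨hb, hf⟩⟩
  · obtain ⟨A, hAc, hA2, hAcard⟩ := hbig.1 hb
    have hAz : ∀ a ∈ A, a * z = z * a := fun a _ => (hzc a).symm
    obtain ⟨m, x, y, hf⟩ := exists_frame_of_elementary ho hc hcomm hpow _ ⊤ rfl (mem_top _) hnd
      (A ⊔ zpowers z) le_top (mem_sup_right (mem_zpowers z)) (isMulCommutative_sup_zpowers hAc hAz)
      (fun a ha => by
        have hn' : z ∈ normalizer (A : Set E) := by
          apply mem_normalizer_fintype
          intro b hb'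
          rw [← hAz b hb', mul_inv_cancel_right]
          exact hb'
        obtain ⟨k, hk, i, rfl⟩ := (mem_sup_zpowers hn').1 ha
        rw [((show Commute k z from hAz k hk).zpow_right i).mul_pow, hA2 k hk, one_mul, ← zpow_natCast,
          ← zpow_mul, mul_comm, zpow_mul, zpow_natCast, hz2, one_zpow])
      (by
        rw [card_top, hn]
        calc 2 * 2 ^ (2 * n + 1) = (2 ^ (n + 1)) ^ 2 := by rw [← pow_mul]; ring
          _ ≤ _ := Nat.pow_le_pow_left (hAcard.trans (card_le_of_le le_sup_left)) 2)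
    have := hcard hf
    subst this
    exact ⟨z, x, y, hz2, hzc, Or.inl ⟨hb, hf⟩⟩

end H30
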