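import Mathlib
import Cfsg.Prelude.Def_Transfer
import Cfsg.Agent.H30.Basic
import Cfsg.Agent.H1.CoprimeAction

set_option autoImplicit false
set_option linter.all false

/-! Minimal groups which are not `p`-exponent closed. -/

open Subgroup

namespace H30

variable {G : Type*} [Group G] [Finite G] {p : ℕ} [hp : Fact p.Prime]

/-- In a closed proper subgroup an element of order `p` centralizes every normalized `p'`-subgroup. -/
theorem commute_of_closed (hsub : ∀ K : Subgroup G, K ≠ ⊤ → (∃ H : Subgroup ↥K, (H : Set ↥K) = {g : ↥K | g ^ p = 1}))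
    {K Q : Subgroup G} (hK : K ≠ ⊤) (hQK : Q ≤ K) {x : G} (hxK : x ∈ K) (hx : x ^ p = 1)
    (hQ : ¬ p ∣ Nat.card Q) (hn : x ∈ normalizer (Q : Set G)) : ∀ n ∈ Q, n * x = x * n := by
  intro n hn'
  obtain ⟨H, hH⟩ := hsub K hK
  have hmem : ∀ g : K, g ∈ H ↔ (g : G) ^ p = 1 := fun g => by
    rw [← SetLike.mem_coe, hH]; simp [Subtype.ext_iff]
  have h1 : (⟨n, hQK hn'⟩ * ⟨x, hxK⟩ * ⟨n, hQK hn'⟩⁻¹ * ⟨x, hxK⟩⁻¹ : K) ∈ H := by
    refine mul_mem ((hmem _).2 ?_) (inv_mem ((hmem _).2 hx))
    show (n * x * n⁻¹) ^ p = 1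
    rw [conj_pow, hx, mul_one, mul_inv_cancel]
  have h2 : (n * x * n⁻¹ * x⁻¹) ^ p = 1 := (hmem _).1 h1
  have h3 : n * x * n⁻¹ * x⁻¹ ∈ Q := by
    rw [mul_assoc (n * x) n⁻¹, mul_assoc n, ← mul_assoc x]
    exact mul_mem hn' ((mem_normalizer_iff.1 hn n⁻¹).1 (inv_mem hn'))
  have h4 : orderOf (n * x * n⁻¹ * x⁻¹) ∣ Nat.gcd p (Nat.card Q) := by
    refine Nat.dvd_gcd (orderOf_dvd_of_pow_eq_one h2) ?_
    rw [← Subgroup.orderOf_mk _ h3]; exact orderOf_dvd_natCard _
  rw [(hp.out.coprime_iff_not_dvd.2 hQ).gcd_eq_one, Nat.dvd_one, orderOf_eq_one_iff, mul_inv_eq_one,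
    mul_inv_eq_iff_eq_mul] at h4
  exact h4

/-- Counting roots of `X ^ Q - X`. -/
theorem card_le_of_forall_pow_eq {R : Type*} [CommRing R] [IsDomain R] [Finite R] {Q : ℕ} (h1 : 1 < Q)
    (h : ∀ r : R, r ^ Q = r) : Nat.card R ≤ Q := by
  classical
  haveI := Fintype.ofFinite R
  rw [Nat.card_eq_fintype_card]
  have hdeg : (Polynomial.X ^ Q - Polynomial.X : Polynomial R).natDegree = Q := by
    rw [Polynomial.natDegree_sub_eq_left_of_natDegree_lt (by simpa using h1), Polynomial.natDegree_X_pow]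
  have hXne : (Polynomial.X ^ Q - Polynomial.X : Polynomial R) ≠ 0 :=
    Polynomial.ne_zero_of_natDegree_gt (n := 1) (by rw [hdeg]; exact h1)
  calc Fintype.card R = (Finset.univ : Finset R).card := rfl
    _ ≤ ((Polynomial.X ^ Q - Polynomial.X : Polynomial R).roots.toFinset).card :=
        Finset.card_le_card fun r _ => by
          rw [Multiset.mem_toFinset, Polynomial.mem_roots hXne]
          simp [h r]
    _ ≤ (Polynomial.X ^ Q - Polynomial.X : Polynomial R).roots.card := Multiset.toFinset_card_le _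
    _ ≤ (Polynomial.X ^ Q - Polynomial.X : Polynomial R).natDegree := Polynomial.card_roots' _
    _ = Q := hdeg

set_option maxHeartbeats 1000000 in
/-- A commutative family of endomorphisms of a finite abelian group of exponent `q` without zero divisors and
containing a `p`-th root of unity is small. -/
theorem card_le_of_root_of_unity {V : Type*} [AddCommGroup V] [Finite V] {q e : ℕ} [hq : Fact q.Prime] (he0 : e ≠ 0)
    (hV : ∀ v : V, q • v = 0) (he : p ∣ q ^ e - 1) (T : AddMonoid.End V) (hT : T ^ p = 1)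
    (hirr : ∀ W : AddSubgroup V, (∀ w ∈ W, T w ∈ W) → W = ⊥ ∨ W = ⊤) (hne : ∃ v : V, v ≠ 0) :
    Nat.card V ≤ q ^ e := by
  classical
  obtain ⟨v0, hv0⟩ := hne
  haveI : Finite (AddMonoid.End V) := Finite.of_injective (fun f => (f : V → V)) DFunLike.coe_injective
  set R := Subring.closure ({T} : Set (AddMonoid.End V)) with hR
  have hTR : T ∈ R := Subring.subset_closure rfl
  letI : CommRing R := Subring.closureCommRingOfComm (by
    intro a ha b hb
    rw [Set.mem_singleton_iff.1 ha, Set.mem_singleton_iff.1 hb])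
  haveI : Nontrivial R := ⟨⟨0, 1, fun h => hv0 (by
    have := congrArg (fun r : R => (r : AddMonoid.End V) v0) h
    simpa using this.symm)⟩⟩
  have hq0 : (q : R) = 0 := by
    apply Subtype.ext
    refine AddMonoidHom.ext fun v => ?_
    rw [SubringClass.coe_natCast]
    show ((q : ℕ) : AddMonoid.End V) v = 0
    rw [AddMonoid.End.natCast_apply]
    exact hV v
  haveI : CharP R q := (CharP.charP_iff_prime_eq_zero hq.out).2 hq0
  -- every element is fixed by the `q ^ e`-power map
  let S : Subring R :=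
    { carrier := {r | r ^ q ^ e = r}
      one_mem' := one_pow _
      mul_mem' := fun {a b} (ha : a ^ q ^ e = a) (hb : b ^ q ^ e = b) => by
        show (a * b) ^ q ^ e = a * b
        rw [mul_pow, ha, hb]
      zero_mem' := zero_pow (pow_ne_zero _ hq.out.ne_zero)
      add_mem' := fun {a b} (ha : a ^ q ^ e = a) (hb : b ^ q ^ e = b) => by
        show (a + b) ^ q ^ e = a + b
        rw [add_pow_char_pow, ha, hb]
      neg_mem' := fun {a} (ha : a ^ q ^ e = a) => by
        show (-a) ^ q ^ e = -a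
        have h : (0 - a) ^ q ^ e = 0 - a := by
          rw [sub_pow_char_pow, ha, zero_pow (pow_ne_zero _ hq.out.ne_zero)]
        rwa [zero_sub] at h }
  have hTS : (⟨T, hTR⟩ : R) ∈ S := by
    show (⟨T, hTR⟩ : R) ^ q ^ e = ⟨T, hTR⟩
    apply Subtype.ext
    rw [SubmonoidClass.coe_pow]
    obtain ⟨c, hc⟩ := he
    rw [show q ^ e = p * c + 1 by have := Nat.one_le_pow e q hq.out.pos; omega, pow_succ, pow_mul, hT,
      one_pow, one_mul]
  have hS : ∀ r : R, r ^ q ^ e = r := by
    intro r
    have hle : R ≤ S.map R.subtype := Subring.closure_le.2 (by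
      intro r hr; rw [Set.mem_singleton_iff.1 hr]; exact ⟨⟨T, hTR⟩, hTS, rfl⟩)
    obtain ⟨s, hs, hsr⟩ := hle r.2
    rw [← Subtype.ext hsr]
    exact hs
  -- invariant subgroups
  have hcomm : ∀ r : R, ∀ v : V, T ((r : AddMonoid.End V) v) = (r : AddMonoid.End V) (T v) := fun r v =>
    DFunLike.congr_fun (congrArg Subtype.val (mul_comm (⟨T, hTR⟩ : R) r)) v
  haveI : NoZeroDivisors R := ⟨fun {a b} hab => by
    by_contra hcon
    rw [not_or] at hcon
    rcases hirr (AddMonoidHom.ker (a : AddMonoid.End V)) (fun w hw => by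
        show (a : AddMonoid.End V) (T w) = 0
        rw [← hcomm a w, show (a : AddMonoid.End V) w = 0 from hw, map_zero]) with h | h
    · refine hcon.2 (Subtype.ext (AddMonoidHom.ext fun v => ?_))
      show (b : AddMonoid.End V) v = 0
      have h2 : (b : AddMonoid.End V) v ∈ AddMonoidHom.ker (a : AddMonoid.End V) :=
        DFunLike.congr_fun (congrArg Subtype.val hab) v
      rw [h] at h2
      exact AddSubgroup.mem_bot.1 h2
    · refine hcon.1 (Subtype.ext (AddMonoidHom.ext fun v => ?_))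
      exact (h ▸ AddSubgroup.mem_top v : v ∈ AddMonoidHom.ker (a : AddMonoid.End V))⟩
  haveI : IsDomain R := NoZeroDivisors.to_isDomain R
  have hcard : Nat.card R ≤ q ^ e := card_le_of_forall_pow_eq (one_lt_pow₀ hq.out.one_lt he0) hS
  refine le_trans (Nat.card_le_card_of_surjective (fun r : R => (r : AddMonoid.End V) v0) fun v => ?_) hcard
  let ev : R →+ V :=
    { toFun := fun r => (r : AddMonoid.End V) v0
      map_zero' := rfl
      map_add' := fun a b => rfl }
  rcases hirr ev.range (fun w ⟨r, hr⟩ => ⟨⟨T, hTR⟩ * r, by rw [← hr]; rfl⟩) with h | h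
  · exact absurd (AddSubgroup.mem_bot.1 (h ▸ (⟨1, rfl⟩ : v0 ∈ ev.range))) hv0
  · exact (h ▸ AddSubgroup.mem_top v : v ∈ ev.range)

set_option maxHeartbeats 1000000 in
theorem closed_minimal_structure
    (hnc : ¬ (∃ H : Subgroup G, (H : Set G) = {g : G | g ^ p = 1})) (hsub : ∀ K : Subgroup G, K ≠ ⊤ → (∃ H : Subgroup ↥K, (H : Set ↥K) = {g : ↥K | g ^ p = 1}))
    (hquo : ∀ (N : Subgroup G) [N.Normal], N ≠ ⊥ → (∃ H : Subgroup (G ⧸ N), (H : Set (G ⧸ N)) = {g : (G ⧸ N) | g ^ p = 1}))
    (hns : ¬ IsSimpleGroup G) (hnp : ¬ IsPGroup p G) :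
    ∃ q : ℕ, q.Prime ∧ q ≠ p ∧ Nat.card G = p * q ^ orderOf (q : ZMod p) ∧
      ∃ A : Subgroup G, A.Normal ∧ Nat.card ↥A = q ^ orderOf (q : ZMod p) ∧ Cfsg.IsElementaryAbelian q A ∧
        ∀ B : Subgroup G, B.Normal → B ≤ A → B = ⊥ ∨ B = A := by
  classical
  obtain ⟨x0, y0, hx0, hy0, hxy⟩ : ∃ x y : G, x ^ p = 1 ∧ y ^ p = 1 ∧ (x * y) ^ p ≠ 1 := by
    by_contra hcon
    push Not at hcon
    exact hnc ⟨{ carrier := {g | g ^ p = 1}
                 one_mem' := one_pow p
                 mul_mem' := fun {a b} (ha : a ^ p = 1) (hb : b ^ p = 1) => hcon a b ha hb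
                 inv_mem' := fun {a} (ha : a ^ p = 1) => by show a⁻¹ ^ p = 1; rw [inv_pow, ha, inv_one] }, rfl⟩
  have htop : Subgroup.closure ({x0, y0} : Set G) = ⊤ := by
    by_contra hne
    obtain ⟨H, hH⟩ := hsub _ hne
    have hmem : ∀ g : Subgroup.closure ({x0, y0} : Set G), g ∈ H ↔ (g : G) ^ p = 1 := fun g => by
      rw [← SetLike.mem_coe, hH]; simp [Subtype.ext_iff]
    exact hxy ((hmem (⟨x0, Subgroup.subset_closure (by simp)⟩ * ⟨y0, Subgroup.subset_closure (by simp)⟩)).1
      (mul_mem ((hmem _).2 hx0) ((hmem _).2 hy0)))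
  haveI : Nontrivial G := ⟨⟨(x0 * y0) ^ p, 1, hxy⟩⟩
  obtain ⟨N0, hN0, hN0b, hN0t⟩ : ∃ N : Subgroup G, N.Normal ∧ N ≠ ⊥ ∧ N ≠ ⊤ := by
    by_contra hcon
    push Not at hcon
    exact hns ⟨fun N hN => or_iff_not_imp_left.2 (hcon N hN)⟩
  obtain ⟨N, hNle, ⟨hNn, hNb⟩, hNmin⟩ := (Set.toFinite {N : Subgroup G | N.Normal ∧ N ≠ ⊥}).exists_le_minimal ⟨hN0, hN0b⟩
  haveI := hNn
  have hNt : N ≠ ⊤ := fun h => hN0t (top_le_iff.1 (h ▸ hNle))
  have hmin : ∀ B : Subgroup G, B.Normal → B ≤ N → B = ⊥ ∨ B = N := fun B hB hBN =>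
    or_iff_not_imp_left.2 fun h => le_antisymm hBN (hNmin ⟨hB, h⟩ hBN)
  have hpN : ∀ g : G, g ^ p ∈ N := by
    intro g
    obtain ⟨H, hH⟩ := hquo N hNb
    have hmem : ∀ a : G, (a : G ⧸ N) ∈ H ↔ a ^ p ∈ N := fun a => by
      rw [← SetLike.mem_coe, hH]
      show (a : G ⧸ N) ^ p = 1 ↔ _
      rw [← QuotientGroup.mk_pow, QuotientGroup.eq_one_iff]
    have hle : (⊤ : Subgroup G) ≤ H.comap (QuotientGroup.mk' N) := by
      rw [← htop, Subgroup.closure_le]
      intro a ha
      refine (hmem a).2 ?_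
      rcases ha with rfl | rfl
      · rw [hx0]; exact one_mem _
      · rw [hy0]; exact one_mem _
    exact (hmem g).1 (hle (Subgroup.mem_top g))
  -- `N` is a `p'`-group
  have hNcop : ¬ p ∣ Nat.card N := by
    intro hd
    obtain ⟨H, hH⟩ := hsub N hNt
    have hmem : ∀ g : N, g ∈ H ↔ (g : G) ^ p = 1 := fun g => by
      rw [← SetLike.mem_coe, hH]; simp [Subtype.ext_iff]
    have hHn : (H.map N.subtype).Normal := ⟨fun a ha g => by
      obtain ⟨b, hb, rfl⟩ := ha
      refine ⟨⟨g * b * g⁻¹, hNn.conj_mem _ b.2 g⟩, (hmem _).2 ?_, rfl⟩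
      show (g * (b : G) * g⁻¹) ^ p = 1
      rw [conj_pow, (hmem b).1 hb, mul_one, mul_inv_cancel]⟩
    obtain ⟨w, hw⟩ := exists_prime_orderOf_dvd_card' (G := N) p hd
    rcases hmin _ hHn (Subgroup.map_subtype_le _) with h | h
    · have h1 : (w : G) ∈ H.map N.subtype := ⟨w, (hmem w).2 (by rw [← Subgroup.coe_pow, ← hw, pow_orderOf_eq_one]; rfl), rfl⟩
      rw [h, mem_bot] at h1
      rw [show w = 1 from Subtype.ext h1, orderOf_one] at hw
      exact hp.out.one_lt.ne hw
    · refine hnp fun g => ⟨2, ?_⟩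
      have h1 : g ^ p ∈ H.map N.subtype := by rw [h]; exact hpN g
      obtain ⟨b, hb, hbg⟩ := h1
      rw [pow_two, pow_mul, ← show (b : G) = g ^ p from hbg]
      exact (hmem b).1 hb
  have hNone : ∀ n ∈ N, n ^ p = 1 → n = 1 := by
    intro n hn h
    have h4 : orderOf n ∣ Nat.gcd p (Nat.card N) := by
      refine Nat.dvd_gcd (orderOf_dvd_of_pow_eq_one h) ?_
      rw [← Subgroup.orderOf_mk _ hn]; exact orderOf_dvd_natCard _
    rwa [(hp.out.coprime_iff_not_dvd.2 hNcop).gcd_eq_one, Nat.dvd_one, orderOf_eq_one_iff] at h4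
  have hNx : ∀ {z : G}, z ∈ normalizer (N : Set G) := fun {z} => (normalizer_eq_top_iff.mpr hNn) ▸ mem_top z
  -- `N` is not central
  have hncen : ¬ N ≤ center G := by
    intro hc
    let P : Sylow p G := Classical.arbitrary _
    have hPN : (P : Subgroup G) ⊔ N = ⊤ := by
      rw [← index_eq_one]
      have h1 : ((P : Subgroup G) ⊔ N).index ∣ N.index := index_dvd_of_le le_sup_right
      have h2 : ((P : Subgroup G) ⊔ N).index ∣ (P : Subgroup G).index := index_dvd_of_le le_sup_left
      have hQ : IsPGroup p (G ⧸ N) := by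
        intro a
        induction a using QuotientGroup.induction_on with | H a =>
        exact ⟨1, by rw [pow_one, ← QuotientGroup.mk_pow, QuotientGroup.eq_one_iff]; exact hpN a⟩
      obtain ⟨j, hj⟩ := IsPGroup.iff_card.1 hQ
      rw [← index_eq_card] at hj
      rw [hj] at h1
      obtain ⟨i, -, hi⟩ := (Nat.dvd_prime_pow hp.out).1 h1
      rcases Nat.eq_zero_or_pos i with rfl | hpos
      · simpa using hi
      · exfalso
        exact P.not_dvd_index ((dvd_pow_self p hpos.ne').trans (hi ▸ h2))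
    have hPn : (P : Subgroup G).Normal := by
      rw [← normalizer_eq_top_iff, eq_top_iff, ← hPN]
      exact sup_le le_normalizer (hc.trans (center_le_normalizer _))
    haveI := hPn
    have hmemP : ∀ a : G, a ^ p = 1 → a ∈ (P : Subgroup G) := by
      intro a ha
      obtain ⟨Q, hQ⟩ := IsPGroup.exists_le_sylow (p := p) (P := zpowers a) (by
        rintro ⟨g, hg⟩
        obtain ⟨i, rfl⟩ := mem_zpowers_iff.1 hg
        refine ⟨1, Subtype.ext ?_⟩
        show (a ^ i) ^ p ^ 1 = 1
        rw [pow_one, ← zpow_natCast, ← zpow_mul, mul_comm, zpow_mul, zpow_natCast, ha, one_zpow])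
      haveI : Subsingleton (Sylow p G) := P.unique_of_normal hPn |>.instSubsingleton
      exact Subsingleton.elim Q P ▸ hQ (mem_zpowers a)
    have h1 : (x0 * y0) ^ p ∈ (P : Subgroup G) ⊓ N := ⟨pow_mem (mul_mem (hmemP _ hx0) (hmemP _ hy0)) _, hpN _⟩
    have h2 : orderOf ((x0 * y0) ^ p) ∣ Nat.gcd (Nat.card (P : Subgroup G)) (Nat.card N) := by
      refine Nat.dvd_gcd ?_ ?_
      · rw [← Subgroup.orderOf_mk _ h1.1]; exact orderOf_dvd_natCard _
      · rw [← Subgroup.orderOf_mk _ h1.2]; exact orderOf_dvd_natCard _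
    obtain ⟨j, hj⟩ := IsPGroup.iff_card.1 P.isPGroup'
    rw [hj, ((hp.out.coprime_iff_not_dvd.2 hNcop).pow_left j).gcd_eq_one, Nat.dvd_one, orderOf_eq_one_iff] at h2
    exact hxy h2
  -- a generator outside `N`
  obtain ⟨x, hx, hNX⟩ : ∃ x : G, x ^ p = 1 ∧ N ⊔ zpowers x = ⊤ := by
    by_contra hcon
    push Not at hcon
    apply hncen
    have key : ∀ z : G, z ^ p = 1 → z ∈ centralizer (N : Set G) := fun z hz => by
      rw [mem_centralizer_iff]
      exact commute_of_closed hsub (hcon z hz) le_sup_left (mem_sup_right (mem_zpowers z)) hz hNcop hNx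
    have : (⊤ : Subgroup G) ≤ centralizer (N : Set G) := by
      rw [← htop, closure_le]
      intro z hz
      rcases hz with rfl | rfl
      · exact key _ hx0
      · exact key _ hy0
    intro n hn
    rw [mem_center_iff]
    exact fun g => (mem_centralizer_iff.1 (this (mem_top g)) n hn).symm
  have hxN : x ∉ N := fun h => hNt (by rw [← hNX, sup_eq_left.2 (zpowers_le.2 h)])
  have hx1 : x ≠ 1 := fun h => hxN (h ▸ one_mem _)
  have hxo : orderOf x = p := orderOf_eq_prime hx hx1
  have hXN : ∀ z ∈ zpowers x, z ∈ N → z = 1 := fun z hz hzN => hNone z hzN (by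
    obtain ⟨i, rfl⟩ := mem_zpowers_iff.1 hz
    rw [← zpow_natCast, ← zpow_mul, mul_comm, zpow_mul, zpow_natCast, hx, one_zpow])
  have hdecomp : ∀ g : G, ∃ n ∈ N, ∃ i : ℤ, n * x ^ i = g := fun g =>
    (mem_sup_zpowers hNx).1 (hNX ▸ mem_top g)
  have hnfix : ¬ (∀ n ∈ N, n * x = x * n) := by
    intro hc
    refine hnc ⟨zpowers x, ?_⟩
    ext g
    constructor
    · intro hg
      obtain ⟨i, rfl⟩ := mem_zpowers_iff.1 hg
      show (x ^ i) ^ p = 1
      rw [← zpow_natCast, ← zpow_mul, mul_comm, zpow_mul, zpow_natCast, hx, one_zpow]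
    · intro (hg : g ^ p = 1)
      obtain ⟨n, hn, i, rfl⟩ := hdecomp g
      have hxi : (x ^ i) ^ p = 1 := by
        rw [← zpow_natCast, ← zpow_mul, mul_comm, zpow_mul, zpow_natCast, hx, one_zpow]
      rw [((show Commute n x from hc n hn).zpow_right i).mul_pow, hxi, mul_one] at hg
      rw [hNone n hn hg, one_mul]
      exact zpow_mem (mem_zpowers x) i
  have hcardG : Nat.card G = p * Nat.card N := by
    rw [← card_mul_index N, mul_comm]
    congr 1
    rw [← relIndex_top_right, ← hNX, sup_comm, relIndex_sup_right]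
    have h1 := relIndex_mul_relIndex ⊥ (N ⊓ zpowers x) (zpowers x) bot_le inf_le_right
    have h2 : N ⊓ zpowers x = ⊥ := eq_bot_iff.2 fun z hz => mem_bot.2 (hXN z hz.2 hz.1)
    rw [← inf_relIndex_right, h2, relIndex_bot_left, Nat.card_zpowers, hxo]
  -- `N` is a `q`-group
  obtain ⟨q, hq, hNq⟩ : ∃ q : ℕ, q.Prime ∧ IsPGroup q N := by
    by_contra hcon
    push Not at hcon
    apply hnfix
    have hdvd : Nat.card N ∣ Nat.card (N ⊓ centralizer {x} : Subgroup G) := by
      rw [Nat.dvd_iff_prime_pow_dvd_dvd]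
      intro r k hr hrk
      haveI : Fact r.Prime := ⟨hr⟩
      obtain ⟨Q, hQ⟩ := H1.exists_invariant_sylow (A := zpowers x) (K := N) (zpowers_le.2 hNx)
        (by rw [Nat.card_zpowers, hxo]; exact hp.out.coprime_iff_not_dvd.2 hNcop)
        (Or.inl (Group.isSolvable_of_comm fun a b => mul_comm' a b)) r
      set Q' := (Q : Subgroup N).map N.subtype with hQ'
      have hcardQ : Nat.card Q' = r ^ (Nat.card N).factorization r := by
        rw [hQ', card_map_of_injective N.subtype_injective, Sylow.card_eq_multiplicity]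
      have hxQ : x ∈ normalizer (Q' : Set G) := hQ (mem_zpowers x)
      have hne : Q' ⊔ zpowers x ≠ ⊤ := by
        intro h
        refine hcon r hr (IsPGroup.iff_card.2 ⟨(Nat.card N).factorization r, ?_⟩)
        rw [← hcardQ]
        refine le_antisymm (card_le_of_le fun n hn => ?_) (card_le_of_le (map_subtype_le _))
        obtain ⟨a, ha, i, hai⟩ := (mem_sup_zpowers hxQ).1 (show n ∈ Q' ⊔ zpowers x from h ▸ mem_top n)
        have : x ^ i ∈ N := by
          rw [show x ^ i = a⁻¹ * n by rw [← hai, inv_mul_cancel_left]]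
          exact mul_mem (inv_mem (map_subtype_le _ ha)) hn
        rw [← hai, hXN _ (zpow_mem (mem_zpowers x) i) this, mul_one]
        exact ha
      have hfix := commute_of_closed hsub hne le_sup_left (mem_sup_right (mem_zpowers x)) hx
        (fun hd => hNcop (hd.trans (card_dvd_of_le (map_subtype_le _)))) hxQ
      have hle : Q' ≤ N ⊓ centralizer {x} := fun a ha =>
        ⟨map_subtype_le _ ha, mem_centralizer_singleton_iff.2 (hfix a ha)⟩
      refine (dvd_trans ?_ (card_dvd_of_le hle))
      rw [hcardQ]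
      exact pow_dvd_pow r ((hr.pow_dvd_iff_le_factorization Nat.card_pos.ne').1 hrk)
    intro n hn
    have heq := Subgroup.eq_of_le_of_card_ge (inf_le_left : N ⊓ centralizer {x} ≤ N) (Nat.le_of_dvd Nat.card_pos hdvd)
    exact mem_centralizer_singleton_iff.1 (heq.symm ▸ hn : n ∈ N ⊓ centralizer {x}).2
  haveI : Fact q.Prime := ⟨hq⟩
  haveI : Nontrivial N := (nontrivial_iff_ne_bot N).2 hNb
  have hqp : q ≠ p := by
    rintro rfl
    exact hNcop (hNq.card_eq_or_dvd.resolve_left Finite.one_lt_card.ne')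
  -- abelian
  haveI := hNq.center_nontrivial
  have hcomm : ∀ a b : N, a * b = b * a := by
    rcases hmin ((center N).map N.subtype) inferInstance (map_subtype_le _) with h | h
    · exfalso
      rw [map_eq_bot_iff_of_injective _ N.subtype_injective] at h
      exact (nontrivial_iff_ne_bot _).1 inferInstance h
    · intro a b
      obtain ⟨c, hc, hca⟩ : (a : G) ∈ (center N).map N.subtype := h.symm ▸ a.2
      rw [show a = c from Subtype.ext hca.symm]
      exact (mem_center_iff.1 hc b).symm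
  -- exponent `q`
  let Ω : Subgroup G :=
    { carrier := {n | n ∈ N ∧ n ^ q = 1}
      one_mem' := ⟨one_mem _, one_pow _⟩
      mul_mem' := fun {a b} ha hb => ⟨mul_mem ha.1 hb.1, by
        rw [(show Commute a b from congrArg Subtype.val (hcomm ⟨a, ha.1⟩ ⟨b, hb.1⟩)).mul_pow, ha.2, hb.2, one_mul]⟩
      inv_mem' := fun {a} ha => ⟨inv_mem ha.1, by rw [inv_pow, ha.2, inv_one]⟩ }
  have hexp : ∀ n ∈ N, n ^ q = 1 := by
    have hΩn : Ω.Normal := ⟨fun a ha g => ⟨hNn.conj_mem _ ha.1 g, by rw [conj_pow, ha.2, mul_one, mul_inv_cancel]⟩⟩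
    rcases hmin Ω hΩn (fun a ha => ha.1) with h | h
    · exfalso
      obtain ⟨w, hw⟩ := exists_prime_orderOf_dvd_card' (G := N) q (hNq.card_eq_or_dvd.resolve_left Finite.one_lt_card.ne')
      have h1 : (w : G) ∈ Ω := ⟨w.2, by rw [← Subgroup.coe_pow, ← hw, pow_orderOf_eq_one]; rfl⟩
      rw [h, mem_bot] at h1
      rw [show w = 1 from Subtype.ext h1, orderOf_one] at hw
      exact hq.one_lt.ne hw
    · intro n hn
      exact (h.symm ▸ hn : n ∈ Ω).2
  -- the order
  obtain ⟨m, hm⟩ := IsPGroup.iff_card.1 hNq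
  set e := orderOf (q : ZMod p) with he
  have hq0 : (q : ZMod p) ≠ 0 := fun h => hqp
    (((Nat.prime_dvd_prime_iff_eq hp.out hq).1 ((ZMod.natCast_eq_zero_iff _ p).1 h)).symm)
  have he0 : e ≠ 0 := by
    rw [he, ← Nat.pos_iff_ne_zero, orderOf_pos_iff, isOfFinOrder_iff_pow_eq_one]
    exact ⟨p - 1, by have := hp.out.two_le; omega, ZMod.pow_card_sub_one_eq_one hq0⟩
  have hpe : ∀ j, p ∣ q ^ j - 1 ↔ e ∣ j := fun j => by
    rw [← ZMod.natCast_eq_zero_iff, Nat.cast_sub (Nat.one_le_pow _ _ hq.pos), Nat.cast_pow, Nat.cast_one,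
      sub_eq_zero, he, orderOf_dvd_iff_pow_eq_one]
  letI : CommGroup N := { (inferInstance : Group N) with mul_comm := hcomm }
  let T0 : N →* N := (MulAut.conjNormal (H := N) x).toMonoidHom
  let T : AddMonoid.End (Additive N) := MonoidHom.toAdditive T0
  have hTk : ∀ k : ℕ, ∀ v : Additive N, (T ^ k) v = Additive.ofMul (MulAut.conjNormal (x ^ k) v.toMul) := by
    intro k
    induction k with
    | zero => intro v; simp
    | succ k ih =>
      intro v
      rw [pow_succ']
      show T ((T ^ k) v) = _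
      rw [ih, pow_succ', map_mul]
      rfl
  have hup : Nat.card N ≤ q ^ e := by
    have h := card_le_of_root_of_unity (p := p) (V := Additive N) (q := q) he0
      (fun v => by
        show q • v = 0
        apply Additive.toMul.injective
        rw [toMul_nsmul, toMul_zero]
        exact Subtype.ext (by simpa using hexp _ (Additive.toMul v).2))
      ((hpe e).2 dvd_rfl) T
      (AddMonoidHom.ext fun v => by
        show (T ^ p) v = v
        rw [hTk, hx, map_one]
        rfl)
      (fun W hW => by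
        let W' : Subgroup N :=
          { carrier := {n | Additive.ofMul n ∈ W}
            one_mem' := W.zero_mem
            mul_mem' := fun ha hb => W.add_mem ha hb
            inv_mem' := fun ha => W.neg_mem ha }
        have hWn : (W'.map N.subtype).Normal := by
          rw [← normalizer_eq_top_iff, eq_top_iff, ← hNX]
          refine sup_le (fun n hn => ?_) (zpowers_le.2 ?_)
          · apply mem_normalizer_fintype
            rintro _ ⟨w, hw, rfl⟩
            refine ⟨w, hw, ?_⟩
            show (w : G) = n * w * n⁻¹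
            rw [show n * (w : G) = w * n from congrArg Subtype.val (hcomm ⟨n, hn⟩ w), mul_inv_cancel_right]
          · apply mem_normalizer_fintype
            rintro _ ⟨w, hw, rfl⟩
            exact ⟨MulAut.conjNormal x w, hW _ hw, MulAut.conjNormal_apply x w⟩
        rcases hmin _ hWn (map_subtype_le _) with h | h
        · left
          rw [eq_bot_iff]
          intro v hv
          have h1 : ((Additive.toMul v : N) : G) ∈ W'.map N.subtype := ⟨_, hv, rfl⟩
          rw [h, mem_bot] at h1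
          exact AddSubgroup.mem_bot.2 (Additive.toMul.injective (Subtype.ext h1))
        · right
          rw [eq_top_iff]
          intro v _
          obtain ⟨w, hw, hwv⟩ : ((Additive.toMul v : N) : G) ∈ W'.map N.subtype := h.symm ▸ (Additive.toMul v).2
          have : w = Additive.toMul v := Subtype.ext hwv
          rw [← ofMul_toMul v, ← this]
          exact hw)
      (by
        obtain ⟨w, hw⟩ := exists_ne (1 : N)
        exact ⟨Additive.ofMul w, fun h => hw (Additive.ofMul.injective h)⟩)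
    rwa [Nat.card_congr (Additive.toMul (α := N))] at h
  have hlow : p ∣ q ^ m - 1 := by
    letI : MulAction (zpowers x) N := MulAction.compHom N ((MulAut.conjNormal (H := N)).comp (zpowers x).subtype)
    have hfixed : ∀ n ∈ MulAction.fixedPoints (zpowers x) N, n = (1 : N) := by
      intro n hn
      have hnx : MulAut.conjNormal x n = n := hn ⟨x, mem_zpowers x⟩
      have hcx : x * n * x⁻¹ = (n : G) := by
        rw [← MulAut.conjNormal_apply, hnx]
      have hsubn : ((N ⊓ centralizer {x}) : Subgroup G).Normal := by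
        rw [← normalizer_eq_top_iff, eq_top_iff, ← hNX]
        refine sup_le (fun a ha => ?_) (zpowers_le.2 ?_)
        · apply mem_normalizer_fintype
          intro w hw
          rw [show a * w = w * a from congrArg Subtype.val (hcomm ⟨a, ha⟩ ⟨w, hw.1⟩), mul_inv_cancel_right]
          exact hw
        · apply mem_normalizer_fintype
          intro w hw
          rw [show x * w = w * x from (mem_centralizer_singleton_iff.1 hw.2).symm, mul_inv_cancel_right]
          exact hw
      rcases hmin _ hsubn inf_le_left with h | h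
      · have h1 : (n : G) ∈ N ⊓ centralizer {x} :=
          ⟨n.2, mem_centralizer_singleton_iff.2 (mul_inv_eq_iff_eq_mul.1 hcx).symm⟩
        rw [h, mem_bot] at h1
        exact Subtype.ext h1
      · exact absurd (fun a ha => mem_centralizer_singleton_iff.1 (h.symm ▸ ha : a ∈ N ⊓ centralizer {x}).2) hnfix
    have hX : IsPGroup p (zpowers x) := IsPGroup.of_card (n := 1) (by rw [Nat.card_zpowers, hxo, pow_one])
    have hmod := hX.card_modEq_card_fixedPoints N
    haveI : Subsingleton (MulAction.fixedPoints (zpowers x) N) :=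
      ⟨fun a b => Subtype.ext ((hfixed _ a.2).trans (hfixed _ b.2).symm)⟩
    haveI : Nonempty (MulAction.fixedPoints (zpowers x) N) := ⟨⟨1, fun g => by show MulAut.conjNormal (g : G) (1 : N) = 1; exact map_one _⟩⟩
    rw [Nat.card_unique (α := MulAction.fixedPoints (zpowers x) N), hm] at hmod
    exact (Nat.modEq_iff_dvd' (Nat.one_le_pow _ _ hq.pos)).1 hmod.symm
  have hme : m = e := by
    rw [hm] at hup
    have h1 := (Nat.pow_le_pow_iff_right hq.two_le).1 hup
    have h2 := (hpe m).1 hlow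
    have h3 : m ≠ 0 := by
      rintro rfl
      rw [pow_zero] at hm
      exact Finite.one_lt_card.ne' hm
    exact le_antisymm h1 (Nat.le_of_dvd (Nat.pos_of_ne_zero h3) h2)
  subst hme
  exact ⟨q, hq, hqp, by rw [hcardG, hm], N, hNn, hm, ⟨IsMulCommutative.of_comm hcomm, hexp⟩, hmin⟩

end H30
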