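import Mathlib
import Cfsg.Agent.H85.BrauerSuzuki

/-!
A counting argument: if the fixed-point group `C` of a coprime automorphism of prime order
contains the centralizer of an involution `τ`, then `C` meets the class of `τ` in one element
only, unless it contains a non-trivial normal subgroup (helper30).
-/

set_option autoImplicit false
set_option linter.all false

open scoped Pointwise

namespace H30.InvFixer

variable {G : Type*} [Group G] [Finite G]

/-- The subgroup of fixed points of an automorphism. -/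
def fixSub (α : MulAut G) : Subgroup G where
  carrier := {g | α g = g}
  one_mem' := map_one α
  mul_mem' {a b} ha hb := by show α (a * b) = a * b; rw [map_mul, ha, hb]
  inv_mem' {a} ha := by show α a⁻¹ = a⁻¹; rw [map_inv, ha]

/-- Elements mapping `j` to `j` or `j⁻¹`. -/
def extCent (j : G) : Subgroup G where
  carrier := {e | e * j * e⁻¹ = j ∨ e * j * e⁻¹ = j⁻¹}
  one_mem' := Or.inl (by group)
  mul_mem' {a b} ha hb := by
    have key : a * b * j * (a * b)⁻¹ = a * (b * j * b⁻¹) * a⁻¹ := by group
    have key2 : a * j⁻¹ * a⁻¹ = (a * j * a⁻¹)⁻¹ := by group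
    show _ ∨ _
    rw [key]
    rcases hb with hb | hb <;> rw [hb]
    · exact ha
    · rw [key2]
      rcases ha with ha | ha <;> rw [ha]
      · exact Or.inr rfl
      · exact Or.inl (inv_inv j)
  inv_mem' {a} ha := by
    rcases ha with ha | ha
    · left
      conv_lhs => rw [← ha]
      group
    · right
      have : a * j⁻¹ * a⁻¹ = j := by
        rw [show a * j⁻¹ * a⁻¹ = (a * j * a⁻¹)⁻¹ from by group, ha, inv_inv]
      conv_lhs => rw [← this]
      group

variable {r : ℕ} [Fact r.Prime] {α : MulAut G}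

theorem apply_pow (g c : G) (hg : α g = g * c) (hc : α c = c) :
    ∀ k : ℕ, (α ^ k) g = g * c ^ k
  | 0 => by simp
  | k + 1 => by
    rw [pow_succ', MulAut.mul_apply, apply_pow g c hg hc k, map_mul, hg, map_pow, hc, pow_succ',
      mul_assoc]

/-- A coprime automorphism fixing `g⁻¹ α(g)` fixes `g`. -/
theorem mem_of_defect (hr : α ^ r = 1) (hcop : ¬ r ∣ Nat.card G) {g : G}
    (hc : g⁻¹ * α g ∈ fixSub α) : g ∈ fixSub α := by
  have h := apply_pow g (g⁻¹ * α g) (by group) hc r
  rw [hr, MulAut.one_apply] at h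
  have h1 : (g⁻¹ * α g) ^ r = 1 := mul_eq_left.1 h.symm
  have h2 : g⁻¹ * α g = 1 := by
    have hd := orderOf_dvd_of_pow_eq_one h1
    rcases (Fact.out : r.Prime).eq_one_or_self_of_dvd _ hd with h3 | h3
    · exact orderOf_eq_one_iff.1 h3
    · exact absurd (h3 ▸ orderOf_dvd_natCard (g⁻¹ * α g)) hcop
  exact (inv_mul_eq_one.1 h2).symm

variable {τ : G}

theorem mem_of_conj (hr : α ^ r = 1) (hcop : ¬ r ∣ Nat.card G) (hτ : α τ = τ)
    (hfix : Subgroup.centralizer ({τ} : Set G) ≤ fixSub α) {g : G}
    (h : g * τ * g⁻¹ ∈ fixSub α) : g ∈ fixSub α := by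
  refine mem_of_defect hr hcop (hfix ?_)
  rw [Subgroup.mem_centralizer_singleton_iff]
  have h' : α g * τ * (α g)⁻¹ = g * τ * g⁻¹ := by
    have : α (g * τ * g⁻¹) = g * τ * g⁻¹ := h
    rwa [map_mul, map_mul, map_inv, hτ] at this
  calc g⁻¹ * α g * τ = g⁻¹ * (α g * τ * (α g)⁻¹) * α g := by group
    _ = g⁻¹ * (g * τ * g⁻¹) * α g := by rw [h']
    _ = τ * (g⁻¹ * α g) := by group

theorem mem_of_conj_class (hr : α ^ r = 1) (hcop : ¬ r ∣ Nat.card G) (hτ : α τ = τ)
    (hfix : Subgroup.centralizer ({τ} : Set G) ≤ fixSub α) {x : G} (hx : IsConj τ x)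
    (hxC : x ∈ fixSub α) {g : G} (h : g * x * g⁻¹ ∈ fixSub α) : g ∈ fixSub α := by
  obtain ⟨k, rfl⟩ := isConj_iff.1 hx
  have hk := mem_of_conj hr hcop hτ hfix hxC
  have hgk : g * k ∈ fixSub α := mem_of_conj hr hcop hτ hfix (by
    convert h using 1; group)
  simpa using mul_mem hgk (inv_mem hk)

/-- A subgroup invariant under `α` has an invariant Sylow `2`-subgroup. -/
theorem exists_invariant_sylow (hr : α ^ r = 1) (hcop : ¬ r ∣ Nat.card G) (E : Subgroup G)
    (hE : ∀ e ∈ E, α e ∈ E) :
    ∃ T : Sylow 2 E, ∀ t ∈ (T : Subgroup E).map E.subtype,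
      α t ∈ (T : Subgroup E).map E.subtype := by
  haveI : Fact (Nat.Prime 2) := ⟨Nat.prime_two⟩
  have hpow : ∀ (k : ℕ) e, e ∈ E → (α ^ k) e ∈ E := by
    intro k
    induction k with
    | zero => simp
    | succ n ih => intro e he; rw [pow_succ', MulAut.mul_apply]; exact hE _ (ih e he)
  have hr1 : r ≠ 0 := (Fact.out : r.Prime).ne_zero
  let β : MulAut E :=
    { toFun := fun e => ⟨α e, hE e e.2⟩
      invFun := fun e => ⟨(α ^ (r - 1)) e, hpow _ e e.2⟩
      left_inv := fun e => Subtype.ext (by
        show (α ^ (r - 1)) (α e) = e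
        rw [← MulAut.mul_apply, ← pow_succ, Nat.sub_add_cancel (Nat.one_le_iff_ne_zero.2 hr1), hr,
          MulAut.one_apply])
      right_inv := fun e => Subtype.ext (by
        show α ((α ^ (r - 1)) e) = e
        rw [← MulAut.mul_apply, ← pow_succ', Nat.sub_add_cancel (Nat.one_le_iff_ne_zero.2 hr1), hr,
          MulAut.one_apply])
      map_mul' := fun a b => Subtype.ext (map_mul α _ _) }
  have hβ : ∀ (k : ℕ) (e : E), (((β ^ k) e : E) : G) = (α ^ k) e := by
    intro k
    induction k with
    | zero => simp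
    | succ n ih => intro e; rw [pow_succ', pow_succ', MulAut.mul_apply, MulAut.mul_apply, ← ih]; rfl
  have hβr : β ^ r = 1 := by
    refine MulEquiv.ext fun e => Subtype.ext ?_
    rw [hβ, hr, MulAut.one_apply, MulAut.one_apply]
  have hP : IsPGroup r (Subgroup.zpowers β) := by
    rintro ⟨_, k, rfl⟩
    refine ⟨1, Subtype.ext ?_⟩
    show (β ^ k) ^ (r ^ 1) = 1
    rw [pow_one, ← zpow_natCast, ← zpow_mul, mul_comm, zpow_mul, zpow_natCast, hβr, one_zpow]
  have hn : ¬ r ∣ Nat.card (Sylow 2 E) := fun h =>
    hcop ((h.trans (Sylow.card_dvd_index (default : Sylow 2 E))).trans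
      ((Subgroup.index_dvd_card _).trans (Subgroup.card_subgroup_dvd_card E)))
  obtain ⟨T, hT⟩ := hP.nonempty_fixed_point_of_prime_not_dvd_card (Sylow 2 E) hn
  refine ⟨T, ?_⟩
  rintro _ ⟨t, ht, rfl⟩
  have h1 : β • (T : Subgroup E) = (T : Subgroup E) :=
    congrArg Sylow.toSubgroup (hT ⟨β, Subgroup.mem_zpowers β⟩)
  refine ⟨β t, ?_, rfl⟩
  rw [← h1]
  exact Subgroup.smul_mem_pointwise_smul t β _ ht

/-- An invariant `2`-subgroup is fixed elementwise. -/
theorem twoGroup_le (hr : α ^ r = 1) (hcop : ¬ r ∣ Nat.card G) (hτ2 : orderOf τ = 2) (hτ : α τ = τ)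
    (hfix : Subgroup.centralizer ({τ} : Set G) ≤ fixSub α) :
    ∀ (T : Subgroup G), IsPGroup 2 T → (∀ t ∈ T, α t ∈ T) → T ≤ fixSub α := by
  haveI : Fact (Nat.Prime 2) := ⟨Nat.prime_two⟩
  -- a Sylow 2-subgroup containing `τ` inside the fixed points
  obtain ⟨S₁, hS₁⟩ := IsPGroup.exists_le_sylow (p := 2) (P := Subgroup.zpowers (⟨τ, hτ⟩ : fixSub α))
    (IsPGroup.of_card (n := 1) (by
      rw [Nat.card_zpowers, pow_one, ← Subgroup.orderOf_coe]; exact hτ2))
  set S : Subgroup G := (S₁ : Subgroup (fixSub α)).map (fixSub α).subtype with hS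
  have hSC : S ≤ fixSub α := Subgroup.map_subtype_le _
  have hτS : τ ∈ S := ⟨⟨τ, hτ⟩, hS₁ (Subgroup.mem_zpowers _), rfl⟩
  have hSp : IsPGroup 2 S := S₁.isPGroup'.map _
  have hNS : Subgroup.normalizer (S : Set G) ≤ fixSub α := fun n hn =>
    mem_of_conj hr hcop hτ hfix (hSC ((Subgroup.mem_normalizer_iff.1 hn τ).1 hτS))
  obtain ⟨P, hSP⟩ := hSp.exists_le_sylow
  have hPS : (P : Subgroup G) = S := by
    by_contra hne
    haveI : Group.IsNilpotent (P : Subgroup G) := P.isPGroup'.isNilpotent
    have hlt : S.subgroupOf P < ⊤ := lt_top_iff_ne_top.2 fun h =>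
      hne (le_antisymm (Subgroup.subgroupOf_eq_top.1 h) hSP)
    obtain ⟨n, hn, hnS⟩ := SetLike.exists_of_lt
      (Group.normalizerCondition_of_isNilpotent (S.subgroupOf P) hlt)
    have hnN : (n : G) ∈ Subgroup.normalizer (S : Set G) := by
      rw [Subgroup.mem_normalizer_iff]
      intro h
      constructor
      · intro hh
        have := (Subgroup.mem_normalizer_iff.1 hn ⟨h, hSP hh⟩).1 hh
        exact this
      · intro hh
        have hP' : h ∈ (P : Subgroup G) := by
          have := mul_mem (mul_mem (inv_mem n.2) (hSP hh)) n.2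
          simpa [mul_assoc] using this
        exact (Subgroup.mem_normalizer_iff.1 hn ⟨h, hP'⟩).2 hh
    have hnC : (n : G) ∈ fixSub α := hNS hnN
    have hle : S ⊔ Subgroup.zpowers (n : G) ≤ fixSub α ⊓ (P : Subgroup G) :=
      sup_le (le_inf hSC hSP) (le_inf (Subgroup.zpowers_le.2 hnC) (Subgroup.zpowers_le.2 n.2))
    have h2 : IsPGroup 2 ((S ⊔ Subgroup.zpowers (n : G)).subgroupOf (fixSub α)) :=
      (P.isPGroup'.to_le (hle.trans inf_le_right)).comap_subtype
    have h3 : (S₁ : Subgroup (fixSub α)) ≤ (S ⊔ Subgroup.zpowers (n : G)).subgroupOf (fixSub α) :=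
      fun s hs => Subgroup.mem_subgroupOf.2 (Subgroup.mem_sup_left ⟨s, hs, rfl⟩)
    have h4 := S₁.is_maximal' h2 h3
    apply hnS
    have h5 : (⟨(n : G), hnC⟩ : fixSub α) ∈ (S₁ : Subgroup (fixSub α)) := by
      rw [← h4]
      exact Subgroup.mem_subgroupOf.2 (Subgroup.mem_sup_right (Subgroup.mem_zpowers _))
    exact ⟨_, h5, rfl⟩
  -- every invariant Sylow subgroup is fixed
  have hinvP : ∀ Q : Sylow 2 G, (∀ t ∈ (Q : Subgroup G), α t ∈ (Q : Subgroup G)) →
      (Q : Subgroup G) ≤ fixSub α := by
    intro Q hQ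
    obtain ⟨g, hg⟩ := MulAction.exists_smul_eq G P Q
    have hQe : ∀ x, x ∈ (Q : Subgroup G) ↔ g⁻¹ * x * g ∈ S := by
      intro x
      rw [← hg, Sylow.coe_subgroup_smul, Subgroup.mem_pointwise_smul_iff_inv_smul_mem, ← hPS]
      simp [MulAut.smul_def, MulAut.conj_inv_apply]
    have hgC : g ∈ fixSub α := by
      refine mem_of_defect hr hcop (hNS ?_)
      -- `g⁻¹ α(g)` normalizes `S`
      refine Subgroup.mem_normalizer_fintype ?_
      intro s (hs : s ∈ S)
      show _ ∈ S
      have hsC : α s = s := hSC hs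
      have hgs : g * s * g⁻¹ ∈ (Q : Subgroup G) := (hQe _).2 (by convert hs using 1; group)
      have := (hQe _).1 (hQ _ hgs)
      rw [map_mul, map_mul, map_inv, hsC] at this
      convert this using 1
      group
    intro x hx
    have := hSC ((hQe x).1 hx)
    have h2 := mul_mem (mul_mem hgC this) (inv_mem hgC)
    convert h2 using 1
    group
  -- induction
  intro T hT hTi
  induction hk : T.index using Nat.strong_induction_on generalizing T with
  | _ k ih =>
    subst hk
    set N := Subgroup.normalizer (T : Set G) with hN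
    have hNi : ∀ e ∈ N, α e ∈ N := by
      intro e he
      refine Subgroup.mem_normalizer_fintype ?_
      intro t ht
      have hTinv : ∀ k : ℕ, ∀ s ∈ T, (α ^ k) s ∈ T := by
        intro k
        induction k with
        | zero => simp
        | succ n ihn => intro s hs; rw [pow_succ', MulAut.mul_apply]; exact hTi _ (ihn s hs)
      have hts : (α ^ (r - 1)) t ∈ T := hTinv _ t ht
      have h1 := hTi _ ((Subgroup.mem_normalizer_iff.1 he _).1 hts)
      rwa [map_mul, map_mul, map_inv, ← MulAut.mul_apply, ← pow_succ',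
        Nat.sub_add_cancel (Fact.out : r.Prime).one_le, hr, MulAut.one_apply] at h1
    obtain ⟨R, hR⟩ := exists_invariant_sylow hr hcop N hNi
    set T' : Subgroup G := (R : Subgroup N).map N.subtype with hT'
    have hTN : T ≤ N := Subgroup.le_normalizer
    have hTR : T.subgroupOf N ≤ (R : Subgroup N) := by
      haveI : (T.subgroupOf N).Normal := Subgroup.normal_in_normalizer
      have hsup : IsPGroup 2 ((R : Subgroup N) ⊔ T.subgroupOf N : Subgroup N) :=
        R.isPGroup'.to_sup_of_normal_right hT.comap_subtype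
      calc T.subgroupOf N ≤ (R : Subgroup N) ⊔ T.subgroupOf N := le_sup_right
        _ = (R : Subgroup N) := R.is_maximal' hsup le_sup_left
    have hTT : T ≤ T' := fun t ht => ⟨⟨t, hTN ht⟩, hTR ht, rfl⟩
    rcases eq_or_lt_of_le hTT with heq | hlt
    · obtain ⟨Q, hTQ⟩ := hT.exists_le_sylow
      have hQT : (Q : Subgroup G) = T := by
        by_contra hne
        haveI : Group.IsNilpotent (Q : Subgroup G) := Q.isPGroup'.isNilpotent
        have hlt' : T.subgroupOf Q < ⊤ := lt_top_iff_ne_top.2 fun h =>
          hne (le_antisymm (Subgroup.subgroupOf_eq_top.1 h) hTQ)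
        obtain ⟨n, hn, hnT⟩ := SetLike.exists_of_lt
          (Group.normalizerCondition_of_isNilpotent (T.subgroupOf Q) hlt')
        have hnN : (n : G) ∈ N := by
          refine Subgroup.mem_normalizer_fintype ?_
          intro t ht
          exact (Subgroup.mem_normalizer_iff.1 hn ⟨t, hTQ ht⟩).1 ht
        have hle : T ⊔ Subgroup.zpowers (n : G) ≤ N ⊓ (Q : Subgroup G) :=
          sup_le (le_inf hTN hTQ) (le_inf (Subgroup.zpowers_le.2 hnN) (Subgroup.zpowers_le.2 n.2))
        have h3 : (R : Subgroup N) ≤ (T ⊔ Subgroup.zpowers (n : G)).subgroupOf N := by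
          intro s hs
          refine Subgroup.mem_subgroupOf.2 (Subgroup.mem_sup_left ?_)
          rw [heq]
          exact ⟨s, hs, rfl⟩
        have h4 := R.is_maximal' ((Q.isPGroup'.to_le (hle.trans inf_le_right)).comap_subtype) h3
        apply hnT
        show (n : G) ∈ T
        rw [heq]
        refine ⟨⟨n, hnN⟩, ?_, rfl⟩
        rw [← h4]
        exact Subgroup.mem_subgroupOf.2 (Subgroup.mem_sup_right (Subgroup.mem_zpowers _))
      rw [← hQT]
      exact hinvP Q (hQT.symm ▸ hTi)
    · have hidx : T'.index < T.index := Subgroup.index_strictAnti hlt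
      exact hTT.trans (ih _ hidx T' (R.isPGroup'.map _) hR rfl)

/-- The main count: either some non-trivial element of `C` has all conjugates in `C`, or `C`
contains a single conjugate of `τ`. -/
theorem class_subsingleton (hr : α ^ r = 1) (hcop : ¬ r ∣ Nat.card G) (hτ2 : orderOf τ = 2)
    (hτ : α τ = τ) (hfix : Subgroup.centralizer ({τ} : Set G) ≤ fixSub α)
    (hcore : ∀ j ∈ fixSub α, (∀ g : G, g * j * g⁻¹ ∈ fixSub α) → j = 1) :
    ∀ x ∈ fixSub α, IsConj τ x → x = τ := by
  classical
  haveI : Fintype G := Fintype.ofFinite G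
  haveI : Fact (Nat.Prime 2) := ⟨Nat.prime_two⟩
  set C := fixSub α with hC
  set I : Finset G := Finset.univ.filter (fun x => IsConj τ x) with hI
  set J : Finset G := I.filter (fun x => x ∈ C) with hJ
  have hτJ : τ ∈ J := by
    simp only [hJ, hI, Finset.mem_filter, Finset.mem_univ, true_and]
    exact ⟨IsConj.refl τ, hτ⟩
  have memI : ∀ x, x ∈ I ↔ IsConj τ x := by simp [hI]
  have memJ : ∀ x, x ∈ J ↔ IsConj τ x ∧ x ∈ C := by simp [hJ, hI]
  haveI : Fintype (G ⧸ C) := Fintype.ofFinite _
  set N := Fintype.card (G ⧸ C) with hN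
  -- `|I| ≥ N |J|`
  have hIcard : N * J.card ≤ I.card := by
    rw [hN, ← Finset.card_univ, ← Finset.card_product]
    refine Finset.card_le_card_of_injOn (fun q => q.1.out * q.2 * q.1.out⁻¹) ?_ ?_
    · intro q hq
      have h := ((memJ q.2).1 (Finset.mem_product.1 hq).2).1
      exact (memI _).2 (h.trans (isConj_iff.2 ⟨_, rfl⟩))
    · rintro ⟨b, x⟩ hbx ⟨b', y⟩ hby heq
      have hx := (memJ x).1 (Finset.mem_product.1 hbx).2
      have hy := (memJ y).1 (Finset.mem_product.1 hby).2
      have h1 : (b'.out⁻¹ * b.out) * x * (b'.out⁻¹ * b.out)⁻¹ = y := by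
        calc _ = b'.out⁻¹ * (b.out * x * b.out⁻¹) * b'.out := by group
          _ = b'.out⁻¹ * (b'.out * y * b'.out⁻¹) * b'.out := by rw [show b.out * x * b.out⁻¹ = _ from heq]
          _ = y := by group
      have h2 := mem_of_conj_class hr hcop hτ hfix hx.1 hx.2 (g := b'.out⁻¹ * b.out) (h1 ▸ hy.2)
      have hb : b' = b := by
        rw [← QuotientGroup.out_eq' b', ← QuotientGroup.out_eq' b]
        exact QuotientGroup.eq.2 h2
      subst hb
      exact Prod.ext rfl (by simpa using heq)
  -- pairs of `I` in a common coset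
  set f : G → ℕ := fun j => (I.filter (fun x => x * j ∈ I)).card with hf
  set f' : G → ℕ := fun j => (J.filter (fun x => x * j ∈ I)).card with hf'
  set Cs : Finset G := Finset.univ.filter (fun x => x ∈ C) with hCs
  have hsum : ∀ A : Finset G, (∑ j ∈ Cs, (A.filter (fun x => x * j ∈ I)).card) =
      ∑ x ∈ A, (I.filter (fun y => x⁻¹ * y ∈ C)).card := by
    intro A
    simp_rw [Finset.card_filter]
    rw [Finset.sum_comm]
    refine Finset.sum_congr rfl fun x hx => ?_
    rw [← Finset.card_filter, ← Finset.card_filter]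
    refine Finset.card_bij (fun j _ => x * j) ?_ ?_ ?_
    · intro j hj
      simp only [Finset.mem_filter] at hj ⊢
      refine ⟨hj.2, ?_⟩
      simpa [hCs] using hj.1
    · intro a _ b _ hab
      exact mul_left_cancel hab
    · intro y hy
      simp only [Finset.mem_filter] at hy
      exact ⟨x⁻¹ * y, by simp [hCs, hy.2, hy.1], by group⟩
  have hlow : I.card ^ 2 ≤ N * ∑ j ∈ Cs, f j := by
    have hfib : I.card = ∑ b : G ⧸ C, (I.filter (fun y : G => (y : G ⧸ C) = b)).card :=
      Finset.card_eq_sum_card_fiberwise (fun x _ => Finset.mem_univ _)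
    have hsq : ∑ j ∈ Cs, f j = ∑ b : G ⧸ C, (I.filter (fun y : G => (y : G ⧸ C) = b)).card ^ 2 := by
      simp only [hf]
      rw [hsum I, ← Finset.sum_fiberwise I (fun x : G => (x : G ⧸ C))]
      refine Finset.sum_congr rfl fun b _ => ?_
      rw [sq, ← smul_eq_mul, ← Finset.sum_const]
      refine Finset.sum_congr rfl fun x hx => ?_
      simp only [Finset.mem_filter] at hx
      congr 1
      refine Finset.filter_congr fun y _ => ?_
      rw [← hx.2, ← QuotientGroup.eq]
      exact eq_comm
    rw [hsq, hfib, hN, ← Finset.card_univ]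
    exact sq_sum_le_card_mul_sum_sq
  have hsum' : ∑ j ∈ Cs, f' j = J.card ^ 2 := by
    simp only [hf']
    rw [hsum J, sq, ← smul_eq_mul, ← Finset.sum_const]
    refine Finset.sum_congr rfl fun x hx => ?_
    congr 1
    ext y
    simp only [Finset.mem_filter]
    rw [memJ, memI]
    constructor
    · rintro ⟨h1, h2⟩
      exact ⟨h1, by simpa using mul_mem ((memJ x).1 hx).2 h2⟩
    · rintro ⟨h1, h2⟩
      exact ⟨h1, mul_mem (inv_mem ((memJ x).1 hx).2) h2⟩
  -- the key inequality
  have hkey : ∀ j ∈ Cs, j ≠ 1 → f j ≤ (N - 1) * f' j := by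
    intro j hj hj1
    have hjC : j ∈ C := by simpa [hCs] using hj
    set B : Finset (G ⧸ C) :=
      (Finset.univ.filter (fun e : G => e * j = j * e)).image (fun e : G => (e : G ⧸ C)) with hB
    have hBlt : B.card ≤ N - 1 := by
      have : B ≠ Finset.univ := by
        intro hBu
        refine hj1 (hcore j hjC fun g => ?_)
        have hb : ((g⁻¹ : G) : G ⧸ C) ∈ B := hBu ▸ Finset.mem_univ _
        simp only [hB, Finset.mem_image, Finset.mem_filter, Finset.mem_univ, true_and] at hb
        obtain ⟨e, he, heg⟩ := hb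
        have hc : e⁻¹ * g⁻¹ ∈ C := QuotientGroup.eq.1 heg
        have h2 := mul_mem (mul_mem (inv_mem hc) hjC) hc
        convert h2 using 1
        calc g * j * g⁻¹ = g * (j * e) * e⁻¹ * g⁻¹ := by group
          _ = g * (e * j) * e⁻¹ * g⁻¹ := by rw [he]
          _ = _ := by group
      have := Finset.card_lt_univ_of_notMem (s := B)
        (Classical.choose_spec (not_forall.1 fun h => this (Finset.eq_univ_iff_forall.2 h)))
      omega
    -- representatives in the centralizer of `j`
    have hrep : ∀ b ∈ B, ∃ e : G, e * j = j * e ∧ (e : G ⧸ C) = b := by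
      intro b hb
      simp only [hB, Finset.mem_image, Finset.mem_filter, Finset.mem_univ, true_and] at hb
      exact hb
    choose! rep hrep1 hrep2 using hrep
    calc f j ≤ ((B ×ˢ (J.filter (fun x => x * j ∈ I))).image
          (fun q => rep q.1 * q.2 * (rep q.1)⁻¹)).card := by
          refine Finset.card_le_card fun x hx => ?_
          simp only [Finset.mem_filter, memI] at hx
          have h2 : ∀ y, IsConj τ y → y * y = 1 := by
            intro y hy
            obtain ⟨k, rfl⟩ := isConj_iff.1 hy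
            have hττ : τ * τ = 1 := by rw [← sq, ← hτ2, pow_orderOf_eq_one]
            calc k * τ * k⁻¹ * (k * τ * k⁻¹) = k * (τ * τ) * k⁻¹ := by group
              _ = 1 := by rw [hττ]; group
          have hxi : x⁻¹ = x := (eq_inv_of_mul_eq_one_left (h2 x hx.1)).symm
          have hxE : x ∈ extCent j := by
            right
            rw [hxi]
            have h3 := h2 _ hx.2
            calc x * j * x = x * j * (x * j) * j⁻¹ := by group
              _ = j⁻¹ := by rw [h3, one_mul]
          have hEi : ∀ e ∈ extCent j, α e ∈ extCent j := by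
            intro e he
            have hαj : α j = j := hjC
            have h4 : α e * j * (α e)⁻¹ = α (e * j * e⁻¹) := by
              rw [map_mul, map_mul, map_inv, hαj]
            rcases he with he | he
            · left; rw [h4, he, hαj]
            · right; rw [h4, he, map_inv, hαj]
          obtain ⟨T, hT⟩ := exists_invariant_sylow hr hcop (extCent j) hEi
          have hTC : (T : Subgroup (extCent j)).map (extCent j).subtype ≤ C :=
            twoGroup_le hr hcop hτ2 hτ hfix _ (T.isPGroup'.map _) hT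
          obtain ⟨T₁, hT₁⟩ := IsPGroup.exists_le_sylow (p := 2)
            (P := Subgroup.zpowers (⟨x, hxE⟩ : extCent j)) (by
              refine IsPGroup.of_card (n := 1) ?_
              rw [Nat.card_zpowers, Subgroup.orderOf_mk, pow_one]
              refine orderOf_eq_prime (by rw [sq]; exact h2 x hx.1) ?_
              intro h5
              obtain ⟨k, hk⟩ := isConj_iff.1 hx.1
              rw [h5] at hk
              have : τ = 1 := by
                have := congrArg (fun z => k⁻¹ * z * k) hk
                simpa [mul_assoc] using this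
              rw [this, orderOf_one] at hτ2
              omega)
          obtain ⟨e, he⟩ := MulAction.exists_smul_eq (extCent j) T₁ T
          have hxT : (e : G) * x * (e : G)⁻¹ ∈ C := by
            refine hTC ⟨e * ⟨x, hxE⟩ * e⁻¹, ?_, rfl⟩
            rw [← he, Sylow.coe_subgroup_smul]
            exact Subgroup.smul_mem_pointwise_smul _ (MulAut.conj e) _ (hT₁ (Subgroup.mem_zpowers _))
          -- we may take `e` centralizing `j`
          obtain ⟨e', he'j, he'x⟩ : ∃ e' : G, e' * j = j * e' ∧ e' * x * e'⁻¹ ∈ C := by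
            rcases e.2 with h6 | h6
            · exact ⟨e, mul_inv_eq_iff_eq_mul.1 h6, hxT⟩
            · refine ⟨e * x, mul_inv_eq_iff_eq_mul.1 ?_, ?_⟩
              · calc (e : G) * x * j * ((e : G) * x)⁻¹ = e * (x * j * x⁻¹) * (e : G)⁻¹ := by group
                  _ = j := by
                    rcases hxE with h7 | h7
                    · -- `x` centralizes `j`, so `j` has order at most two
                      rw [h7, h6]
                      have h8 : x * j * x⁻¹ = j⁻¹ := by
                        rw [hxi]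
                        calc x * j * x = x * j * (x * j) * j⁻¹ := by group
                          _ = j⁻¹ := by rw [h2 _ hx.2, one_mul]
                      exact h8.symm.trans h7
                    · rw [h7, show (e : G) * j⁻¹ * (e : G)⁻¹ = ((e : G) * j * (e : G)⁻¹)⁻¹ from by
                        group, h6, inv_inv]
              · convert hxT using 1
                group
          set b : G ⧸ C := ((e'⁻¹ : G) : G ⧸ C) with hb
          have hbB : b ∈ B := by
            simp only [hB, Finset.mem_image, Finset.mem_filter, Finset.mem_univ, true_and]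
            exact ⟨e'⁻¹, (Commute.inv_left he'j), rfl⟩
          set c := (rep b)⁻¹ * e'⁻¹ with hc
          have hcC : c ∈ C := QuotientGroup.eq.1 (hrep2 b hbB)
          have hcj : c * j = j * c :=
            (Commute.inv_left (hrep1 b hbB)).mul_left (Commute.inv_left he'j)
          simp only [Finset.mem_image]
          refine ⟨(b, (rep b)⁻¹ * x * rep b), ?_, by group⟩
          rw [Finset.mem_product, Finset.mem_filter, memJ]
          have hy : (rep b)⁻¹ * x * rep b = c * (e' * x * e'⁻¹) * c⁻¹ := by rw [hc]; group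
          refine ⟨hbB, ⟨hx.1.trans (isConj_iff.2 ⟨(rep b)⁻¹, by group⟩), ?_⟩, ?_⟩
          · rw [hy]
            exact mul_mem (mul_mem hcC he'x) (inv_mem hcC)
          · rw [memI, show (rep b)⁻¹ * x * rep b * j = (rep b)⁻¹ * (x * j) * rep b from by
              rw [mul_assoc, hrep1 b hbB]; group]
            exact hx.2.trans (isConj_iff.2 ⟨(rep b)⁻¹, by group⟩)
      _ ≤ (B ×ˢ (J.filter (fun x => x * j ∈ I))).card := Finset.card_image_le
      _ = B.card * f' j := Finset.card_product _ _
      _ ≤ (N - 1) * f' j := Nat.mul_le_mul_right _ hBlt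
  have h1mem : (1 : G) ∈ Cs := by simp [hCs, one_mem]
  have hsplit : ∑ j ∈ Cs, f j + (N - 1) * J.card ≤ I.card + (N - 1) * J.card ^ 2 := by
    have e1 : f 1 = I.card := by simp [hf]
    have e2 : f' 1 = J.card := by
      simp only [hf']
      rw [Finset.filter_true_of_mem]
      intro x hx
      rw [mul_one]
      exact (memI x).2 ((memJ x).1 hx).1
    rw [← hsum', ← Finset.add_sum_erase _ _ h1mem, ← Finset.add_sum_erase _ f' h1mem, e1, e2,
      mul_add, Finset.mul_sum]
    have : ∑ j ∈ Cs.erase 1, f j ≤ ∑ j ∈ Cs.erase 1, (N - 1) * f' j :=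
      Finset.sum_le_sum fun j hj => hkey j (Finset.mem_of_mem_erase hj) (Finset.ne_of_mem_erase hj)
    omega
  intro x hxC hx
  by_contra hne
  have hi2 : 2 ≤ J.card := by
    refine Finset.one_lt_card.2 ⟨x, ?_, τ, hτJ, hne⟩
    exact (memJ x).2 ⟨hx, hxC⟩
  have hN1 : 1 ≤ N := Fintype.card_pos
  obtain ⟨M, hM⟩ : ∃ M, N = M + 1 := ⟨N - 1, by omega⟩
  rw [hM] at hsplit hlow hIcard
  simp only [Nat.add_sub_cancel] at hsplit
  generalize hS : ∑ j ∈ Cs, f j = S at hsplit hlow
  zify at hsplit hlow hIcard hi2
  have hi : (2 : ℤ) ≤ (J.card : ℤ) := hi2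
  have h1 : ((I.card : ℤ)) * (I.card - (M + 1)) ≤ (M + 1) * (M * ((J.card : ℤ) ^ 2 - J.card)) := by
    nlinarith [mul_le_mul_of_nonneg_left hsplit (by positivity : (0 : ℤ) ≤ (M : ℤ) + 1)]
  have h2 : ((M : ℤ) + 1) * J.card * (((M : ℤ) + 1) * J.card - (M + 1)) ≤
      (I.card : ℤ) * (I.card - (M + 1)) := by
    apply mul_le_mul hIcard (by linarith) _ (by positivity)
    nlinarith
  have h3 : (2 : ℤ) * 1 ≤ (J.card : ℤ) * ((J.card : ℤ) - 1) :=
    mul_le_mul hi (by linarith) (by norm_num) (by linarith)
  nlinarith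

end H30.InvFixer
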