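import Mathlib
import Cfsg.Prelude.Def_Local
import Cfsg.Agent.H30.MetacyclicApps
import Cfsg.Agent.H1.Cores
import Cfsg.Agent.H1.CoprimeAction2
import Cfsg.Agent.H5.Frobenius
import Cfsg.Agent.H5.PResidual

set_option autoImplicit false
set_option linter.all false

/-! Metacyclic Sylow subgroups and normal `p`-complements. -/

open Subgroup

namespace H30

variable {p : ℕ} [hp : Fact p.Prime]

theorem isMetacyclic_of_surjective {A B : Type*} [Group A] [Group B] (f : A →* B) (hf : Function.Surjective f)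
    (h : Cfsg.IsMetacyclic A) : Cfsg.IsMetacyclic B := by
  obtain ⟨N, hN, hc, hq⟩ := h
  haveI := hN; haveI := hc; haveI := hq
  haveI hN' : (N.map f).Normal := hN.map f hf
  refine ⟨N.map f, hN', isCyclic_of_surjective (f.subgroupMap N) (f.subgroupMap_surjective N), ?_⟩
  refine isCyclic_of_surjective (QuotientGroup.map N (N.map f) f (le_comap_map f N)) ?_
  intro y
  induction y using QuotientGroup.induction_on with | H b =>
  obtain ⟨a, rfl⟩ := hf b
  exact ⟨QuotientGroup.mk a, rfl⟩

theorem card_quotient_frattini_le {K : Type*} [Group K] [Finite K] (hK : IsPGroup p K)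
    (h : Cfsg.IsMetacyclic K) : Nat.card (K ⧸ frattini K) ≤ p ^ 2 := by
  obtain ⟨a, b, -, -, -, hgen⟩ := exists_generators_of_isMetacyclic h
  have hpow : ∀ (x : K) (i : ℤ), (x : K ⧸ frattini K) ^ i = (x : K ⧸ frattini K) ^ (i % p) := by
    intro x i
    conv_lhs => rw [← Int.mul_ediv_add_emod i p, zpow_add, zpow_mul, zpow_natCast]
    rw [← QuotientGroup.mk_pow, (QuotientGroup.eq_one_iff _).2 (mem_frattini_of_pow hK x), one_zpow, one_mul]
  haveI : NeZero p := ⟨hp.out.ne_zero⟩
  refine le_trans (Nat.card_le_card_of_surjective (fun ut : Fin p × Fin p =>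
    (a : K ⧸ frattini K) ^ ((ut.1 : ℕ) : ℤ) * (b : K ⧸ frattini K) ^ ((ut.2 : ℕ) : ℤ)) ?_) (by simp [pow_two])
  intro q
  induction q using QuotientGroup.induction_on with | H g =>
  obtain ⟨u, t, rfl⟩ := hgen g
  have hp0 : (0 : ℤ) < p := by exact_mod_cast hp.out.pos
  have hu1 := Int.emod_nonneg u hp0.ne'
  have hu2 := Int.emod_lt_of_pos u hp0
  have ht1 := Int.emod_nonneg t hp0.ne'
  have ht2 := Int.emod_lt_of_pos t hp0
  refine ⟨(⟨(u % p).toNat, by omega⟩, ⟨(t % p).toNat, by omega⟩), ?_⟩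
  simp only [Int.toNat_of_nonneg hu1, Int.toNat_of_nonneg ht1, ← hpow]
  rw [QuotientGroup.mk_mul, QuotientGroup.mk_zpow, QuotientGroup.mk_zpow]

/-- An element of order coprime to `p * (p ^ 2 - 1)` centralizes a metacyclic `p`-subgroup it normalizes. -/
theorem centralizes_metacyclic {G : Type*} [Group G] [Finite G] {K : Subgroup G} (hK : IsPGroup p K)
    (hmc : Cfsg.IsMetacyclic K) : ∀ g : G, g ∈ normalizer (K : Set G) → (orderOf g).Coprime p →
      (orderOf g).Coprime (p ^ 2 - 1) → g ∈ centralizer (K : Set G) := by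
  intro g
  induction hn : orderOf g using Nat.strong_induction_on generalizing g with
  | _ n ih =>
    intro hgN hcp hcq
    subst hn
    by_cases h1 : orderOf g = 1
    · rw [orderOf_eq_one_iff.1 h1]; exact one_mem _
    obtain ⟨r, hr, hrd⟩ := Nat.exists_prime_and_dvd h1
    haveI : Fact r.Prime := ⟨hr⟩
    have hgr : g ^ r ∈ centralizer (K : Set G) := by
      have ho : orderOf (g ^ r) = orderOf g / r := by
        rw [orderOf_pow' _ hr.ne_zero, Nat.gcd_eq_right hrd]
      refine ih _ ?_ (g ^ r) rfl (pow_mem hgN r) ?_ ?_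
      · rw [ho]; exact Nat.div_lt_self (orderOf_pos g) hr.one_lt
      · rw [ho]; exact hcp.coprime_dvd_left (Nat.div_dvd_of_dvd hrd)
      · rw [ho]; exact hcq.coprime_dvd_left (Nat.div_dvd_of_dvd hrd)
    -- the action on the Frattini quotient
    let φ : MulAut K := K.normalizerMonoidHom ⟨g, hgN⟩
    haveI : (frattini K).Normal := inferInstance
    have hΦ : (frattini K).map (φ : K →* K) = frattini K :=
      Subgroup.characteristic_iff_map_eq.1 inferInstance φ
    let ψ : (K ⧸ frattini K) ≃* (K ⧸ frattini K) := QuotientGroup.congr _ _ φ hΦ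
    have hφr : φ ^ r = 1 := by
      show (K.normalizerMonoidHom ⟨g, hgN⟩) ^ r = 1
      rw [← map_pow]
      refine MulEquiv.ext fun x => Subtype.ext ?_
      show g ^ r * (x : G) * (g ^ r)⁻¹ = x
      rw [← mem_centralizer_iff.1 hgr x x.2, mul_inv_cancel_right]
    let σ : Equiv.Perm (K ⧸ frattini K) := ψ.toEquiv
    have hσ : ∀ k : ℕ, ∀ x : K, (σ ^ k) (x : K ⧸ frattini K) = ((φ ^ k) x : K) := by
      intro k
      induction k with
      | zero => intro x; rfl
      | succ k ihk =>
        intro x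
        rw [pow_succ', Equiv.Perm.mul_apply, ihk, pow_succ']
        rfl
    have hσr : σ ^ r = 1 := by
      refine Equiv.ext fun q => ?_
      induction q using QuotientGroup.induction_on with | H x =>
      rw [hσ, hφr]
      rfl
    let F : Subgroup (K ⧸ frattini K) :=
      { carrier := {q | ψ q = q}
        one_mem' := map_one ψ
        mul_mem' := fun {a b} (ha : ψ a = a) (hb : ψ b = b) => by show ψ (a * b) = a * b; rw [map_mul, ha, hb]
        inv_mem' := fun {a} (ha : ψ a = a) => by show ψ a⁻¹ = a⁻¹; rw [map_inv, ha] }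
    have hFtop : F = ⊤ := by
      by_contra hne
      letI := Fintype.ofFinite (K ⧸ frattini K)
      classical
      have hmod := Equiv.Perm.card_compl_support_modEq (p := r) (n := 1) (σ := σ) (by rw [pow_one]; exact hσr)
      have hFc : σ.supportᶜ.card = Nat.card F := by
        rw [Nat.card_eq_fintype_card]
        refine (Fintype.card_of_subtype _ fun q => ?_).symm
        simp [σ, F]
      rw [hFc, ← Nat.card_eq_fintype_card] at hmod
      obtain ⟨j, hj⟩ := IsPGroup.iff_card.1 (hK.to_quotient (frattini K))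
      obtain ⟨i, hi⟩ := IsPGroup.iff_card.1 ((hK.to_quotient (frattini K)).to_subgroup F)
      have hj2 : j ≤ 2 := (Nat.pow_le_pow_iff_right hp.out.one_lt).1 (hj ▸ card_quotient_frattini_le hK hmc)
      have hij : i < j := by
        rw [← Nat.pow_lt_pow_iff_right hp.out.one_lt, ← hi, ← hj]
        exact lt_of_le_of_ne (Subgroup.card_le_card_group F) fun h => hne (Subgroup.eq_top_of_card_eq _ h)
      rw [hi, hj] at hmod
      have hdvd : r ∣ p ^ j - p ^ i := (Nat.modEq_iff_dvd' (Nat.pow_le_pow_right hp.out.pos hij.le)).1 hmod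
      have hrp : r ≠ p := fun h => hp.out.ne_one (Nat.dvd_one.1 (hcp ▸ Nat.dvd_gcd (h ▸ hrd) dvd_rfl))
      have hrq : ¬ r ∣ p ^ 2 - 1 := fun h => hr.ne_one (Nat.dvd_one.1 (hcq ▸ Nat.dvd_gcd hrd h))
      have hd1 : p - 1 ∣ p ^ 2 - 1 := ⟨p + 1, by have := Nat.sq_sub_sq p 1; rw [one_pow] at this; rw [this, mul_comm]⟩
      apply hrq
      interval_cases j <;> interval_cases i
      · simpa [pow_one, pow_zero] using (show r ∣ p ^ 1 - p ^ 0 from hdvd).trans (by simpa using hd1)
      · simpa using hdvd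
      · have e : p ^ 2 - p ^ 1 = p * (p - 1) := by rw [Nat.mul_sub_one, pow_two, pow_one]
        rw [e] at hdvd
        rcases (Nat.Prime.dvd_mul hr).1 hdvd with h | h
        · exact absurd ((Nat.prime_dvd_prime_iff_eq hr hp.out).1 h) hrp
        · exact h.trans hd1
    obtain ⟨m, hm⟩ := IsPGroup.iff_card.1 (hK.to_subgroup (frattini K))
    have hres := H1.le_centralizer_of_frattini (A := zpowers g) (K := K) (zpowers_le.2 hgN)
      (by rw [Nat.card_zpowers, hm]; exact hcp.pow_right m) ?_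
    · exact hres (mem_zpowers g)
    · intro a ha k hk
      obtain ⟨c, rfl⟩ := (isOfFinOrder_of_finite g).mem_powers_iff_mem_zpowers.2 ha
      have hfix : ∀ (c : ℕ) (x : K), ((φ ^ c) x : K ⧸ frattini K) = (x : K ⧸ frattini K) := by
        intro c x
        rw [← hσ]
        exact Equiv.Perm.pow_apply_eq_self_of_apply_eq_self
          (show σ (x : K ⧸ frattini K) = x from (show (x : K ⧸ frattini K) ∈ F by rw [hFtop]; trivial)) c
      have hval : (((φ ^ c) (⟨k, hk⟩ : K) : K) : G) = g ^ c * k * (g ^ c)⁻¹ := by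
        show (((K.normalizerMonoidHom ⟨g, hgN⟩) ^ c) (⟨k, hk⟩ : K) : G) = _
        rw [← map_pow]
        rfl
      refine ⟨(φ ^ c) ⟨k, hk⟩ * (⟨k, hk⟩ : K)⁻¹, ?_, ?_⟩
      · show (φ ^ c) ⟨k, hk⟩ * (⟨k, hk⟩ : K)⁻¹ ∈ frattini K
        rw [← QuotientGroup.eq_one_iff, QuotientGroup.mk_mul, QuotientGroup.mk_inv, hfix, mul_inv_cancel]
      · show (((φ ^ c) (⟨k, hk⟩ : K) : K) : G) * k⁻¹ = g ^ c * k * (g ^ c)⁻¹ * k⁻¹
        rw [hval]

theorem hasNormalPComplement_of_metacyclic {G : Type*} [Group G] [Finite G] (S : Sylow p G)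
    (hS : Cfsg.IsMetacyclic ↥(S : Subgroup G))
    (hq : ∀ r : ℕ, r.Prime → r ≠ p → r ∣ Nat.card G → ¬ r ∣ p ^ 2 - 1) : Cfsg.HasNormalPComplement p G := by
  refine H5.hasNormalPComplement_of_frobenius S fun Q hQ g hg hgp => ?_
  have hmc : Cfsg.IsMetacyclic Q :=
    isMetacyclic_of_surjective (subgroupOfEquivOfLe hQ).toMonoidHom (subgroupOfEquivOfLe hQ).surjective
      (isMetacyclic_subgroup hS (Q.subgroupOf S))
  refine centralizes_metacyclic (S.isPGroup'.to_le hQ) hmc g hg hgp ?_
  rw [Nat.coprime_iff_gcd_eq_one]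
  by_contra hne
  obtain ⟨r, hr, hrd⟩ := Nat.exists_prime_and_dvd hne
  have h1 := hrd.trans (Nat.gcd_dvd_left _ _)
  refine hq r hr ?_ (h1.trans (orderOf_dvd_natCard g)) (hrd.trans (Nat.gcd_dvd_right _ _))
  rintro rfl
  exact hr.ne_one (Nat.dvd_one.1 (hgp ▸ Nat.dvd_gcd h1 dvd_rfl))

theorem hasNormalPComplement_iff_coprime {G : Type*} [Group G] [Finite G] (S : Sylow p G)
    (hS : Cfsg.IsMetacyclic ↥(S : Subgroup G)) :
    Cfsg.HasNormalPComplement p G ↔ Nat.Coprime (Nat.card (G ⧸ Cfsg.pPrimePCore p G)) (p ^ 2 - 1) := by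
  haveI := H1.pPrimeCore_normal' p G
  set O := Cfsg.pPrimeCore p G with hO
  have hOcop : ¬ p ∣ Nat.card O := by
    intro hd
    exact hp.out.ne_one (Nat.dvd_one.1 ((H1.card_pPrimeCore_coprime p G) ▸ Nat.dvd_gcd hd dvd_rfl))
  set G1 := G ⧸ O
  set mk := QuotientGroup.mk' O
  have hidx : Nat.card (G ⧸ Cfsg.pPrimePCore p G) = (Cfsg.pCore p G1).index := by
    show (Cfsg.pPrimePCore p G).index = _
    rw [Cfsg.pPrimePCore, index_comap_of_surjective _ (QuotientGroup.mk'_surjective O)]
  -- `G / O` has no normal `p'`-subgroup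
  have hno : ∀ N : Subgroup G1, N.Normal → ¬ p ∣ Nat.card N → N = ⊥ := by
    intro N hN hpN
    have h1 : N.comap mk ≤ O := by
      haveI := hN.comap mk
      apply H1.le_pPrimeCore
      rw [Nat.coprime_comm, hp.out.coprime_iff_not_dvd]
      intro hd
      rw [H1.card_comap_mk'] at hd
      rcases hp.out.dvd_mul.1 hd with h | h
      · first
        | exact hpN h
        | exact hOcop h
      · first
        | exact hpN h
        | exact hOcop h
    rw [eq_bot_iff]
    intro q hq
    obtain ⟨g, rfl⟩ := QuotientGroup.mk'_surjective O q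
    exact mem_bot.2 ((QuotientGroup.eq_one_iff g).2 (h1 hq))
  constructor
  · intro h
    have h1 : Cfsg.HasNormalPComplement p G1 :=
      H5.hasNormalPComplement_of_surjective mk (QuotientGroup.mk'_surjective O) h
    have hb := hno _ inferInstance (H5.hasNormalPComplement_iff_not_dvd.1 h1)
    obtain ⟨k, hk⟩ := H5.exists_index_pResidual_eq (G := G1) (p := p)
    rw [hb, index_bot] at hk
    rw [hidx, H1.pCore_of_isPGroup (IsPGroup.of_card hk), index_top]
    exact Nat.coprime_one_left _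
  · intro h
    rw [hidx] at h
    have hmeta : Cfsg.IsMetacyclic ↥((S.mapSurjective (QuotientGroup.mk'_surjective O) : Sylow p G1) : Subgroup G1) :=
      isMetacyclic_of_surjective (mk.subgroupMap S) (mk.subgroupMap_surjective S) hS
    have h1 : Cfsg.HasNormalPComplement p G1 := by
      refine hasNormalPComplement_of_metacyclic _ hmeta fun r hr hrp hrd hrq => ?_
      rw [← card_mul_index (Cfsg.pCore p G1)] at hrd
      obtain ⟨m, hm⟩ := H1.card_pCore_eq_pow p G1
      rcases hr.dvd_mul.1 hrd with h2 | h2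
      · exact hrp ((Nat.prime_dvd_prime_iff_eq hr hp.out).1 (hr.dvd_of_dvd_pow (hm ▸ h2)))
      · exact hr.ne_one (Nat.dvd_one.1 (h ▸ Nat.dvd_gcd h2 hrq))
    have hb := hno _ inferInstance (H5.hasNormalPComplement_iff_not_dvd.1 h1)
    obtain ⟨k, hk⟩ := H5.exists_index_pResidual_eq (G := G1) (p := p)
    rw [hb, index_bot] at hk
    exact H5.hasNormalPComplement_of_normal O hOcop ⟨k, by rw [Subgroup.index_eq_card]; exact hk⟩

end H30
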