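import Mathlib

set_option autoImplicit false
set_option linter.all false

/-! Odd-order automorphisms of doubly transitive groups: the incidence matrix argument. -/

open Matrix

namespace H30

variable {G Ω : Type*} [Group G] [Finite G] [Fintype Ω] [MulAction G Ω]

/-- The arithmetic at the end of the argument. -/
theorem design_arith {n k c l r : ℕ} {a b : ℤ} (hn : 2 ≤ n) (hk0 : 0 < k) (hkn : k < n) (hcop : k.Coprime n)
    (hr : Odd r) (hc : (k : ℤ) = c + l) (hsum : (k : ℤ) * k = c + l * n) (hrow : a + n * b = (k : ℤ) ^ r)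
    (hsq : a ^ 2 = (c : ℤ) ^ r) : k = 1 ∨ k = n - 1 := by
  obtain ⟨s, rfl⟩ := hr
  have hc0 : c ≠ 0 := by
    rintro rfl
    push_cast at hc hsum
    have hlk : l = k := by omega
    rw [hlk] at hsum
    have : k = n := by
      have h1 : (k : ℤ) * k = k * n := by linarith
      have := mul_left_cancel₀ (by exact_mod_cast hk0.ne' : (k : ℤ) ≠ 0) h1
      exact_mod_cast this
    omega
  obtain ⟨m, hm⟩ : ∃ m, a.natAbs = c ^ s * m := by
    refine (Nat.pow_dvd_pow_iff two_ne_zero).1 ?_
    refine ⟨c, ?_⟩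
    have h1 : (a.natAbs : ℤ) ^ 2 = (c : ℤ) ^ (2 * s + 1) := by rw [Int.natAbs_sq, hsq]
    have h2 : a.natAbs ^ 2 = c ^ (2 * s + 1) := by exact_mod_cast h1
    rw [h2]; ring
  have hmc : m ^ 2 = c := by
    have h1 : (a.natAbs : ℤ) ^ 2 = (c : ℤ) ^ (2 * s + 1) := by rw [Int.natAbs_sq, hsq]
    have h2 : a.natAbs ^ 2 = c ^ (2 * s + 1) := by exact_mod_cast h1
    rw [hm] at h2
    have h3 : (c ^ s) ^ 2 * m ^ 2 = (c ^ s) ^ 2 * c := by rw [← mul_pow, h2]; ring
    exact Nat.eq_of_mul_eq_mul_left (by have := Nat.pos_of_ne_zero hc0; positivity) h3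
  have hkc : (n : ℤ) ∣ (k : ℤ) * k - c := ⟨l, by linarith⟩
  have hccop : IsCoprime (n : ℤ) ((c : ℤ) ^ s) := by
    apply IsCoprime.pow_right
    have h1 : IsCoprime (n : ℤ) ((k : ℤ) * k) :=
      (Int.isCoprime_iff_nat_coprime.2 (by simpa using hcop.symm)).mul_right (Int.isCoprime_iff_nat_coprime.2 (by simpa using hcop.symm))
    rw [hsum, mul_comm (l : ℤ) n] at h1
    exact (IsCoprime.add_mul_left_right_iff).1 h1
  have hmain : (n : ℤ) ∣ (k : ℤ) * (c : ℤ) ^ s - a := by
    have h1 : (n : ℤ) ∣ ((k : ℤ) * k) ^ s - (c : ℤ) ^ s := hkc.trans (sub_dvd_pow_sub_pow _ _ s)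
    have h2 : (k : ℤ) * (c : ℤ) ^ s - a = n * b - k * (((k : ℤ) * k) ^ s - (c : ℤ) ^ s) := by
      have : (k : ℤ) ^ (2 * s + 1) = k * ((k : ℤ) * k) ^ s := by rw [pow_succ, pow_mul, pow_two]; ring
      rw [this] at hrow
      linarith
    rw [h2]
    exact dvd_sub (dvd_mul_right _ _) (dvd_mul_of_dvd_right h1 _)
  have hmk : m * m ≤ k := by nlinarith [hmc, hc]
  have ha : a = (c : ℤ) ^ s * m ∨ a = -((c : ℤ) ^ s * m) := by
    rcases Int.natAbs_eq a with h | h
    · left; rw [h, hm]; push_cast; ring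
    · right; rw [h, hm]; push_cast; ring
  have hmk' : m ≤ k := le_trans (Nat.le_mul_self m) hmk
  rcases ha with ha | ha
  · have h1 : (n : ℤ) ∣ ((k - m : ℕ) : ℤ) := by
      rw [Nat.cast_sub hmk']
      refine hccop.dvd_of_dvd_mul_left ?_
      rw [show (c : ℤ) ^ s * ((k : ℤ) - m) = (k : ℤ) * (c : ℤ) ^ s - a by rw [ha]; ring]
      exact hmain
    have h2 : k - m = 0 := Nat.eq_zero_of_dvd_of_lt (Int.natCast_dvd_natCast.1 h1) (by omega)
    left
    have h3 : m = k := by omega
    subst h3
    nlinarith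
  · have h1 : (n : ℤ) ∣ ((k + m : ℕ) : ℤ) := by
      push_cast
      refine hccop.dvd_of_dvd_mul_left ?_
      rw [show (c : ℤ) ^ s * ((k : ℤ) + m) = (k : ℤ) * (c : ℤ) ^ s - a by rw [ha]; ring]
      exact hmain
    obtain ⟨q, hq⟩ := Int.natCast_dvd_natCast.1 h1
    have hq1 : q = 1 := by
      rcases lt_trichotomy q 1 with h | h | h
      · interval_cases q; omega
      · exact h
      · nlinarith
    right
    rw [hq1, mul_one] at hq
    have hmn : (m : ℤ) = n - k := by omega
    have hcm : (c : ℤ) = (m : ℤ) * m := by rw [← hmc]; push_cast; ring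
    have hl : (l : ℤ) = k - m * m := by linarith
    rw [hcm, hl] at hsum
    have h3 : (n : ℤ) * ((m : ℤ) * m - m) = 0 := by rw [hmn] at hsum ⊢; linear_combination hsum
    rcases mul_eq_zero.1 h3 with h4 | h4
    · omega
    · have : m * m = m := by have : (m : ℤ) * m = m := by linarith
                             exact_mod_cast this
      rcases Nat.eq_zero_or_pos m with rfl | hm0
      · omega
      · have : m = 1 := Nat.eq_of_mul_eq_mul_right hm0 (by rw [this, one_mul])
        omega

/-- An orbit of the image of a point stabilizer of length coprime to the degree is trivial. -/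
theorem orbit_trivial (h2 : MulAction.IsMultiplyPretransitive G Ω 2) (α : MulAut G) (hα : Odd (orderOf α))
    (o : Ω) (Δ : Set Ω) (hinv : ∀ g ∈ MulAction.stabilizer G o, ∀ y ∈ Δ, α g • y ∈ Δ) (hne : Δ.Nonempty)
    (hcop : (Nat.card Δ).Coprime (Fintype.card Ω)) :
    Nat.card Δ = 1 ∨ Nat.card Δ = Fintype.card Ω - 1 := by
  classical
  haveI : MulAction.IsPretransitive G Ω := MulAction.isPretransitive_of_is_two_pretransitive
  set n := Fintype.card Ω with hn
  set k := Nat.card Δ with hk
  haveI : Nonempty Δ := hne.to_subtype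
  have hk0 : 0 < k := Nat.card_pos
  have hkn : k ≤ n := by
    rw [hk, hn, ← Nat.card_eq_fintype_card]
    exact Nat.card_le_card_of_injective Subtype.val Subtype.val_injective
  by_cases hlt : k < n
  swap
  · left
    have : k = n := by omega
    rw [← this] at hcop
    simpa using hcop
  -- the incidence relation
  let R : Ω → Ω → Prop := fun x y => ∃ h : G, h • o = x ∧ (α h)⁻¹ • y ∈ Δ
  have hR : ∀ (h : G) (y : Ω), R (h • o) y ↔ (α h)⁻¹ • y ∈ Δ := by
    intro h y
    refine ⟨?_, fun hy => ⟨h, rfl, hy⟩⟩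
    rintro ⟨h', he, hy⟩
    have hs : h⁻¹ * h' ∈ MulAction.stabilizer G o := by
      rw [MulAction.mem_stabilizer_iff, mul_smul, he, inv_smul_smul]
    have := hinv _ hs _ hy
    rwa [map_mul, map_inv, mul_smul, smul_inv_smul] at this
  have hequiv : ∀ (g : G) (x y : Ω), R (g • x) (α g • y) ↔ R x y := by
    intro g x y
    obtain ⟨h, rfl⟩ := MulAction.exists_smul_eq G o x
    rw [smul_smul, hR, hR, map_mul, _root_.mul_inv_rev, mul_smul, inv_smul_smul]
  let M : Matrix Ω Ω ℤ := Matrix.of fun x y => if R x y then 1 else 0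
  have hM : ∀ (g : G) (x y : Ω), M (g • x) (α g • y) = M x y := by
    intro g x y
    simp only [M, Matrix.of_apply, hequiv g x y]
  let J : Matrix Ω Ω ℤ := Matrix.of fun _ _ => 1
  have hrow : ∀ x, ∑ y, M x y = k := by
    intro x
    obtain ⟨h, rfl⟩ := MulAction.exists_smul_eq G o x
    simp only [M, Matrix.of_apply, hR, Finset.sum_boole]
    rw [hk]
    congr 1
    rw [← Fintype.card_subtype, ← Nat.card_eq_fintype_card]
    exact Nat.card_congr ((MulAction.toPerm (α h)⁻¹).subtypeEquiv fun y => Iff.rfl)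
  have hcol : ∀ y, ∑ x, M x y = k := by
    have hconst : ∀ y y', ∑ x, M x y = ∑ x, M x y' := by
      intro y y'
      obtain ⟨g, rfl⟩ := MulAction.exists_smul_eq G y y'
      rw [← Equiv.sum_comp (MulAction.toPerm (α.symm g)) (fun x => M x (g • y))]
      refine Finset.sum_congr rfl fun x _ => ?_
      have := hM (α.symm g) x y
      rw [MulEquiv.apply_symm_apply] at this
      exact this.symm
    intro y
    have htot : ∑ y', ∑ x, M x y' = n * (k : ℤ) := by
      rw [Finset.sum_comm, Finset.sum_congr rfl fun x _ => hrow x]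
      simp [hn]
    rw [Finset.sum_congr rfl fun y' _ => hconst y' y] at htot
    simp only [Finset.sum_const, Finset.card_univ, nsmul_eq_mul] at htot
    exact mul_left_cancel₀ (by exact_mod_cast (by omega : Fintype.card Ω ≠ 0) : (Fintype.card Ω : ℤ) ≠ 0) htot
  have hMJ : M * J = (k : ℤ) • J := by
    ext x y; simp [J, Matrix.mul_apply, hrow]
  have hJT : J * Mᵀ = (k : ℤ) • J := by
    ext x y; simp [J, Matrix.mul_apply, hrow]
  have hI : ∀ (u v : ℤ) (x y : Ω), (u • (1 : Matrix Ω Ω ℤ) + v • J) x y = (if x = y then u else 0) + v := by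
    intro u v x y
    rw [Matrix.add_apply, Matrix.smul_apply, Matrix.smul_apply, Matrix.one_apply]
    split_ifs <;> simp [J]
  -- invariant matrices are `a I + b J`
  have hcomm : ∀ A : Matrix Ω Ω ℤ, (∀ (g : G) x y, A (g • x) (g • y) = A x y) →
      ∃ a b : ℤ, A = a • (1 : Matrix Ω Ω ℤ) + b • J := by
    intro A hA
    obtain ⟨p, q, hpq⟩ := Fintype.exists_pair_of_one_lt_card (by omega : 1 < Fintype.card Ω)
    refine ⟨A p p - A p q, A p q, ?_⟩
    ext x y
    by_cases hxy : x = y
    · subst hxy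
      obtain ⟨g, rfl⟩ := MulAction.exists_smul_eq G p x
      rw [hI, if_pos rfl, hA]; ring
    · obtain ⟨g, hg1, hg2⟩ := MulAction.is_two_pretransitive_iff.1 h2 hpq hxy
      rw [← hg1, ← hg2, hA]
      have hne : g • p ≠ g • q := fun h => hpq (MulAction.injective g h)
      rw [hI, if_neg hne]; ring
  obtain ⟨c, l, hMM⟩ := hcomm (M * Mᵀ) (fun g x y => by
    simp only [Matrix.mul_apply, Matrix.transpose_apply]
    rw [← Equiv.sum_comp (MulAction.toPerm (α g))]
    simp only [MulAction.toPerm_apply, hM])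
  obtain ⟨p, q, hpq⟩ := Fintype.exists_pair_of_one_lt_card (by omega : 1 < Fintype.card Ω)
  have hsum1 : (k : ℤ) * k = c + l * n := by
    have h1 : ∑ y, (M * Mᵀ) p y = (k : ℤ) * k := by
      simp only [Matrix.mul_apply, Matrix.transpose_apply]
      rw [Finset.sum_comm]
      simp only [← Finset.mul_sum, hcol, ← Finset.sum_mul, hrow]
    rw [hMM] at h1
    rw [← h1, Finset.sum_congr rfl fun y _ => hI c l p y]
    simp [Finset.sum_add_distrib, hn, mul_comm]
  have hdiag : (k : ℤ) = c + l := by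
    have h1 : (M * Mᵀ) p p = k := by
      rw [Matrix.mul_apply, ← hrow p]
      refine Finset.sum_congr rfl fun y _ => ?_
      simp only [Matrix.transpose_apply, M, Matrix.of_apply]
      split_ifs <;> simp
    rw [hMM, hI, if_pos rfl] at h1
    linarith
  have hl : 0 ≤ l ∧ l ≤ k := by
    have h1 : (M * Mᵀ) p q = l := by rw [hMM, hI, if_neg hpq, zero_add]
    rw [← h1, Matrix.mul_apply, ← hrow p]
    constructor
    · refine Finset.sum_nonneg fun y _ => ?_
      simp only [Matrix.transpose_apply, M, Matrix.of_apply]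
      split_ifs <;> simp
    · refine Finset.sum_le_sum fun y _ => ?_
      simp only [Matrix.transpose_apply, M, Matrix.of_apply]
      split_ifs <;> simp
  -- powers
  have hpow : ∀ j : ℕ, ∀ (g : G) x y, (M ^ j) (g • x) ((α ^ j) g • y) = (M ^ j) x y := by
    intro j
    induction j with
    | zero =>
      intro g x y
      simp [Matrix.one_apply]
    | succ j ih =>
      intro g x y
      rw [pow_succ, pow_succ' α, Matrix.mul_apply, Matrix.mul_apply, ← Equiv.sum_comp (MulAction.toPerm ((α ^ j) g))]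
      simp only [MulAction.toPerm_apply, ih, MulAut.mul_apply, hM]
  have hpJ : ∀ j : ℕ, M ^ j * J = ((k : ℤ) ^ j) • J := by
    intro j
    induction j with
    | zero => simp
    | succ j ih => rw [pow_succ, Matrix.mul_assoc, hMJ, Matrix.mul_smul, ih, smul_smul, pow_succ']
  have hJp : ∀ j : ℕ, J * (M ^ j)ᵀ = ((k : ℤ) ^ j) • J := by
    intro j
    induction j with
    | zero => simp
    | succ j ih => rw [pow_succ', Matrix.transpose_mul, ← Matrix.mul_assoc, ih, Matrix.smul_mul, hJT, smul_smul, pow_succ]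
  have hsqj : ∀ j : ℕ, ∃ e : ℤ, M ^ j * (M ^ j)ᵀ = (c ^ j) • (1 : Matrix Ω Ω ℤ) + e • J := by
    intro j
    induction j with
    | zero => exact ⟨0, by simp⟩
    | succ j ih =>
      obtain ⟨e, he⟩ := ih
      refine ⟨c * e + l * (k : ℤ) ^ j * (k : ℤ) ^ j, ?_⟩
      rw [pow_succ, Matrix.transpose_mul, Matrix.mul_assoc, ← Matrix.mul_assoc M, hMM, Matrix.add_mul,
        Matrix.smul_mul, Matrix.smul_mul, Matrix.one_mul, hJp, Matrix.mul_add, Matrix.mul_smul,
        Matrix.mul_smul, Matrix.mul_smul, hpJ, he, smul_add, smul_smul, smul_smul, smul_smul, smul_smul,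
        add_assoc, ← add_smul, pow_succ']
  set r := orderOf α with hr
  obtain ⟨a, b, hP⟩ := hcomm (M ^ r) (fun g x y => by
    have := hpow r g x y
    rwa [pow_orderOf_eq_one, MulAut.one_apply] at this)
  have hPsum : a + n * b = (k : ℤ) ^ r := by
    have h1 : (M ^ r * J) p p = ((k : ℤ) ^ r) := by rw [hpJ]; simp [J]
    rw [hP, Matrix.mul_apply] at h1
    rw [← h1, Finset.sum_congr rfl fun y _ => by rw [hI a b p y]]
    simp [J, Finset.sum_add_distrib, hn, mul_comm]
  have hsq : a ^ 2 = c ^ r := by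
    obtain ⟨e, he⟩ := hsqj r
    have h1 : (M ^ r * (M ^ r)ᵀ) p p - (M ^ r * (M ^ r)ᵀ) p q = c ^ r := by
      rw [he, hI, hI, if_pos rfl, if_neg hpq]; ring
    rw [hP, Matrix.mul_apply, Matrix.mul_apply] at h1
    simp only [Matrix.transpose_apply, hI] at h1
    rw [← h1]
    simp only [add_mul, mul_add, ite_mul, mul_ite, zero_mul, mul_zero, Finset.sum_add_distrib,
      Finset.sum_ite_eq, Finset.mem_univ, if_true, hpq.symm, hpq, if_false]
    ring
  obtain ⟨cn, rfl⟩ := Int.eq_ofNat_of_zero_le (by linarith : 0 ≤ c)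
  obtain ⟨ln, rfl⟩ := Int.eq_ofNat_of_zero_le hl.1
  exact design_arith (by omega) hk0 hlt hcop hα hdiag hsum1 hPsum hsq

omit [Fintype Ω] in
/-- If the image of a point stabilizer is a point stabilizer, the automorphism is induced by a permutation. -/
theorem exists_inducing [Finite Ω] [MulAction.IsPretransitive G Ω] (α : MulAut G) (o ω : Ω)
    (h : ∀ g : G, α g ∈ MulAction.stabilizer G ω ↔ g ∈ MulAction.stabilizer G o) :
    ∃ σ : Equiv.Perm Ω, ∀ (g : G) (x : Ω), σ (g • x) = α g • σ x := by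
  classical
  let f : Ω → Ω := fun x => α (MulAction.exists_smul_eq G o x).choose • ω
  have hf : ∀ g : G, f (g • o) = α g • ω := by
    intro g
    have hs := (MulAction.exists_smul_eq G o (g • o)).choose_spec
    have h1 : g⁻¹ * (MulAction.exists_smul_eq G o (g • o)).choose ∈ MulAction.stabilizer G o := by
      rw [MulAction.mem_stabilizer_iff, mul_smul, hs, inv_smul_smul]
    have h2 := (h _).2 h1
    rw [MulAction.mem_stabilizer_iff, map_mul, map_inv, mul_smul, inv_smul_eq_iff] at h2
    exact h2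
  have hsur : Function.Surjective f := by
    intro y
    obtain ⟨g, rfl⟩ := MulAction.exists_smul_eq G ω y
    exact ⟨α.symm g • o, by rw [hf, MulEquiv.apply_symm_apply]⟩
  refine ⟨Equiv.ofBijective f ⟨Finite.injective_iff_surjective.2 hsur, hsur⟩, fun g x => ?_⟩
  obtain ⟨h', rfl⟩ := MulAction.exists_smul_eq G o x
  show f (g • h' • o) = α g • f (h' • o)
  rw [smul_smul, hf, hf, map_mul, mul_smul]

end H30
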