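import Mathlib
import Cfsg.Prelude.Def_KGroupFacts
import Cfsg.Agent.H58.PrimeDegree
import Cfsg.Agent.S4290

set_option autoImplicit false
set_option linter.all false

/-! Simple groups with a subgroup of prime index have solvable outer automorphism group. -/

namespace H30

universe u

/-- The normalizer of a full cycle of prime length is affine. -/
theorem allAff_normalizer {α : Type*} [Fintype α] [DecidableEq α] {p : ℕ} [Fact p.Prime]
    {e : ZMod p ≃ α} {c : Equiv.Perm α} (hc : ∀ j, e (j + 1) = c (e j)) :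
    H58.AllAff e (Subgroup.normalizer (Subgroup.zpowers c : Set (Equiv.Perm α))) := by
  have hp : p.Prime := Fact.out
  have hpow : ∀ (a : ℕ) (j : ZMod p), e (j + a) = (c ^ a) (e j) := by
    intro a
    induction a with
    | zero => simp
    | succ a ih => intro j; rw [pow_succ', Equiv.Perm.mul_apply, ← ih, Nat.cast_succ, ← add_assoc, hc]
  intro g hg
  have h1 : g * c * g⁻¹ ∈ Subgroup.zpowers c := (Subgroup.mem_normalizer_iff.1 hg c).1 (Subgroup.mem_zpowers c)
  rw [← (isOfFinOrder_of_finite c).mem_powers_iff_mem_zpowers] at h1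
  obtain ⟨a, ha : c ^ a = g * c * g⁻¹⟩ := h1
  have hstep : ∀ j, H58.relabel e g (j + 1) = H58.relabel e g j + a := by
    intro j
    rw [H58.relabel_apply, H58.relabel_apply, hc, show g (c (e j)) = (c ^ a) (g (e j)) by rw [ha]; simp]
    apply e.injective
    rw [hpow, Equiv.apply_symm_apply, Equiv.apply_symm_apply]
  refine ⟨a, H58.relabel e g 0, fun j => ?_⟩
  rw [← ZMod.natCast_zmod_val j]
  generalize j.val = m
  induction m with
  | zero => simp
  | succ m ih => rw [Nat.cast_succ, hstep, ih]; ring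

theorem out_isSolvable_of_prime_index {G : Type u} [Group G] [Finite G] [IsSimpleGroup G] (H : Subgroup G)
    (hH : H.index.Prime) : Group.IsSolvable (Cfsg.Out G) := by
  classical
  by_cases hsol : Group.IsSolvable G
  · have hc := IsSimpleGroup.comm_iff_isSolvable.2 hsol
    letI : CommGroup G := { (inferInstance : Group G) with mul_comm := hc }
    haveI : IsCyclic G := IsSimpleGroup.isCyclic
    haveI : Group.IsSolvable (MulAut G) := Group.isSolvable_of_comm fun a b =>
      (IsCyclic.mulAutMulEquiv G).injective (by rw [map_mul, map_mul, mul_comm])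
    exact Group.isSolvable_of_surjective (QuotientGroup.mk'_surjective (Cfsg.Inn G))
  haveI hpF : Fact H.index.Prime := ⟨hH⟩
  set φ := MulAction.toPermHom G (G ⧸ H) with hφ
  haveI : Fintype (G ⧸ H) := Fintype.ofFinite _
  have hcard : Fintype.card (G ⧸ H) = H.index := by rw [← Nat.card_eq_fintype_card, Subgroup.index]
  have hinj : Function.Injective φ := by
    rw [← MonoidHom.ker_eq_bot_iff]
    refine (IsSimpleGroup.eq_bot_or_eq_top_of_normal φ.ker inferInstance).resolve_right fun htop => ?_
    have hall : ∀ x : G ⧸ H, x = QuotientGroup.mk 1 := by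
      intro x
      induction x using QuotientGroup.induction_on with | H g =>
      have := MonoidHom.mem_ker.1 (show g ∈ φ.ker by rw [htop]; trivial)
      have h1 := Equiv.ext_iff.1 this (QuotientGroup.mk 1)
      simp [hφ] at h1
      exact h1
    haveI : Subsingleton (G ⧸ H) := ⟨fun a b => (hall a).trans (hall b).symm⟩
    exact hH.ne_one (Nat.card_of_subsingleton (α := G ⧸ H) (QuotientGroup.mk 1))
  set Gh := φ.range with hGh
  let eG : G ≃* Gh := MonoidHom.ofInjective hinj
  haveI : MulAction.IsPretransitive Gh (G ⧸ H) := ⟨fun x y => by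
    obtain ⟨g, hg⟩ := MulAction.exists_smul_eq G x y
    exact ⟨eG g, hg⟩⟩
  obtain ⟨e, c, hcG, hco, hc⟩ := H58.exists_numbering hcard Gh
  have h2 : MulAction.IsMultiplyPretransitive Gh (G ⧸ H) 2 :=
    (H58.allAff_or_two_pretransitive Gh hcG hc).resolve_left fun h => hsol (by
      haveI := h.isSolvable
      exact Group.isSolvable_of_isSolvable_injective (f := eG.toMonoidHom) eG.injective)
  -- the index occurs once in the order
  have hone : (Nat.card Gh).factorization H.index = 1 := by
    have h1 : Nat.card Gh ∣ H.index.factorial := by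
      rw [← hcard, ← Fintype.card_perm, ← Nat.card_eq_fintype_card]
      exact Subgroup.card_subgroup_dvd_card Gh
    have h3 : H.index.factorial.factorization H.index = 1 := by
      rw [← Nat.mul_factorial_pred hH.ne_zero, Nat.factorization_mul hH.ne_zero (Nat.factorial_ne_zero _),
        Finsupp.add_apply, hH.factorization_self, Nat.factorization_eq_zero_of_not_dvd]
      rw [hH.dvd_factorial]
      have := hH.two_le
      omega
    have h4 : (Nat.card Gh).factorization H.index ≤ 1 :=
      h3 ▸ (Nat.factorization_le_iff_dvd Nat.card_pos.ne' (Nat.factorial_ne_zero _)).2 h1 H.index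
    have h5 : 1 ≤ (Nat.card Gh).factorization H.index := by
      apply hH.factorization_pos_of_dvd Nat.card_pos.ne'
      rw [← hco, ← Subgroup.orderOf_mk c hcG]
      exact orderOf_dvd_natCard _
    omega
  have hHall : ∀ o : G ⧸ H, (Nat.card (MulAction.stabilizer Gh o)).Coprime (MulAction.stabilizer Gh o).index := by
    intro o
    rw [MulAction.index_stabilizer_of_transitive, Nat.card_eq_fintype_card (α := G ⧸ H), hcard,
      Nat.coprime_comm, hH.coprime_iff_not_dvd]
    intro hd
    have h1 := (MulAction.stabilizer Gh o).card_mul_index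
    rw [MulAction.index_stabilizer_of_transitive, Nat.card_eq_fintype_card (α := G ⧸ H), hcard] at h1
    have h6 : H.index ^ 2 ∣ Nat.card Gh := by rw [← h1, pow_two]; exact Nat.mul_dvd_mul_right hd _
    have := (hH.pow_dvd_iff_le_factorization Nat.card_pos.ne').1 h6
    omega
  -- the automorphisms induced by the normalizer of a Sylow subgroup
  set N := Subgroup.normalizer (Gh : Set (Equiv.Perm (G ⧸ H)))
  set K := N ⊓ Subgroup.normalizer (Subgroup.zpowers c : Set (Equiv.Perm (G ⧸ H))) with hK
  haveI hKs : Group.IsSolvable K :=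
    (show H58.AllAff e K from fun g hg => allAff_normalizer hc g hg.2).isSolvable
  let ψ : K →* MulAut G :=
    ((MulAut.congr eG.symm).toMonoidHom.comp Gh.normalizerMonoidHom).comp (Subgroup.inclusion inf_le_left)
  set π := QuotientGroup.mk' (Cfsg.Inn G) with hπ
  set R := (π.comp ψ).range with hR
  haveI : Group.IsSolvable R := Group.isSolvable_of_surjective (MonoidHom.rangeRestrict_surjective (π.comp ψ))
  have hmemR : ∀ α : MulAut G, Odd (orderOf α) → π α ∈ R := by
    intro α hα
    obtain ⟨o⟩ : Nonempty (G ⧸ H) := ⟨QuotientGroup.mk 1⟩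
    set α' := MulAut.congr eG α with hα'
    obtain ⟨σ, hσN, hσ⟩ := Cfsg.Agent.S4290.result Gh h2 o (hHall o) α' (by
      rwa [hα', MulEquiv.orderOf_eq])
    -- move `σ` into `K`
    have hPcard : Nat.card ((Subgroup.zpowers c).subgroupOf Gh) = H.index ^ (Nat.card Gh).factorization H.index := by
      rw [Nat.card_congr (Subgroup.subgroupOfEquivOfLe (Subgroup.zpowers_le.2 hcG)).toEquiv, Nat.card_zpowers, hco, hone, pow_one]
    have hcσ : σ * c * σ⁻¹ ∈ Gh := (Subgroup.mem_normalizer_iff.1 hσN c).1 hcG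
    have hQcard : Nat.card (Subgroup.zpowers (⟨σ * c * σ⁻¹, hcσ⟩ : Gh)) = H.index ^ (Nat.card Gh).factorization H.index := by
      rw [Nat.card_zpowers, ← Subgroup.orderOf_coe, hone, pow_one]
      show orderOf (MulAut.conj σ c) = H.index
      rw [MulEquiv.orderOf_eq, hco]
    obtain ⟨h, hh⟩ := MulAction.exists_smul_eq Gh (Sylow.ofCard _ hQcard) (Sylow.ofCard _ hPcard)
    set k := (h : Equiv.Perm (G ⧸ H)) * σ with hk
    have hkN : k ∈ N := mul_mem (Subgroup.le_normalizer h.2) hσN
    have hkc : k * c * k⁻¹ ∈ Subgroup.zpowers c := by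
      have h1 : h * ⟨σ * c * σ⁻¹, hcσ⟩ * h⁻¹ ∈ ((Sylow.ofCard _ hPcard : Sylow H.index Gh) : Subgroup Gh) := by
        rw [← hh, Sylow.coe_subgroup_smul, Subgroup.mem_pointwise_smul_iff_inv_smul_mem]
        show (MulAut.conj h)⁻¹ • (h * (⟨σ * c * σ⁻¹, hcσ⟩ : Gh) * h⁻¹) ∈ Subgroup.zpowers (⟨σ * c * σ⁻¹, hcσ⟩ : Gh)
        simp only [MulAut.smul_def, MulAut.inv_apply, MulAut.conj_symm_apply]
        rw [show h⁻¹ * (h * (⟨σ * c * σ⁻¹, hcσ⟩ : Gh) * h⁻¹) * h = ⟨σ * c * σ⁻¹, hcσ⟩ by group]
        exact Subgroup.mem_zpowers _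
      have h2 : (h : Equiv.Perm (G ⧸ H)) * (σ * c * σ⁻¹) * (h : Equiv.Perm (G ⧸ H))⁻¹ ∈ Subgroup.zpowers c :=
        Subgroup.mem_subgroupOf.1 h1
      rw [hk]
      simpa [mul_assoc] using h2
    have hkK : k ∈ K := by
      refine ⟨hkN, Subgroup.mem_normalizer_fintype ?_⟩
      rintro _ ⟨i, rfl⟩
      show k * c ^ i * k⁻¹ ∈ Subgroup.zpowers c
      rw [← conj_zpow]
      exact zpow_mem hkc i
    refine ⟨⟨k, hkK⟩, ?_⟩
    -- `ψ k` differs from `α` by an inner automorphism
    show π (ψ ⟨k, hkK⟩) = π α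
    refine QuotientGroup.eq.2 ?_
    refine ⟨α.symm (eG.symm h⁻¹) , ?_⟩
    have hψ : ψ ⟨k, hkK⟩ = MulAut.conj (eG.symm h) * α := by
      refine MulEquiv.ext fun g => eG.injective ?_
      show eG (eG.symm (Gh.normalizerMonoidHom ⟨k, hkN⟩ (eG g))) = eG (eG.symm h * α g * (eG.symm h)⁻¹)
      rw [MulEquiv.apply_symm_apply, map_mul, map_mul, map_inv, MulEquiv.apply_symm_apply]
      apply Subtype.ext
      show k * (eG g : Equiv.Perm (G ⧸ H)) * k⁻¹ = (h : Equiv.Perm (G ⧸ H)) * (eG (α g) : Equiv.Perm (G ⧸ H)) * (h : Equiv.Perm (G ⧸ H))⁻¹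
      have := hσ (eG g)
      have h5 : α' (eG g) = eG (α g) := by simp [hα', MulAut.congr]
      rw [h5] at this
      rw [this, hk]
      group
    rw [hψ]
    refine MulEquiv.ext fun g => ?_
    simp only [_root_.mul_inv_rev, map_inv, MulAut.mul_apply, MulAut.inv_apply, MulAut.conj_apply,
      MulAut.conj_symm_apply, map_mul, MulEquiv.symm_apply_apply, inv_inv]
  -- the subgroup generated by the elements of odd order
  let O : Subgroup (Cfsg.Out G) := Subgroup.closure {x | Odd (orderOf x)}
  have hsplit : ∀ x : Cfsg.Out G, ∀ t m : ℕ, orderOf x = 2 ^ t * m → ¬ 2 ∣ m → Odd (orderOf (x ^ 2 ^ t)) := by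
    intro x t m he hm
    rw [orderOf_pow' _ (pow_ne_zero _ two_ne_zero), he, Nat.gcd_eq_right (dvd_mul_right _ _),
      Nat.mul_div_cancel_left _ (Nat.two_pow_pos t), Nat.odd_iff]
    omega
  have hO : O ≤ R := by
    rw [Subgroup.closure_le]
    intro x hx
    obtain ⟨β, rfl⟩ := QuotientGroup.mk'_surjective (Cfsg.Inn G) x
    obtain ⟨t, m, hm, hbeta⟩ := Nat.exists_eq_pow_mul_and_not_dvd (orderOf_pos β).ne' 2 (by norm_num)
    have hodd : Odd (orderOf (β ^ 2 ^ t)) := by
      rw [orderOf_pow' _ (pow_ne_zero _ two_ne_zero), hbeta, Nat.gcd_eq_right (dvd_mul_right _ _),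
        Nat.mul_div_cancel_left _ (Nat.two_pow_pos t), Nat.odd_iff]
      omega
    have h1 := hmemR _ hodd
    rw [map_pow] at h1
    have hxo : Odd (orderOf (π β)) := hx
    have hcop : Nat.Coprime (2 ^ t) (orderOf (π β)) :=
      Nat.Coprime.pow_left t (Nat.coprime_two_left.2 hxo)
    obtain ⟨l, hl⟩ := exists_pow_eq_self_of_coprime hcop
    show π β ∈ R
    rw [← hl]
    exact pow_mem h1 l
  haveI : O.Normal := by
    refine ⟨fun x hx g => ?_⟩
    have hle : O ≤ O.comap (MulAut.conj g).toMonoidHom := by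
      rw [Subgroup.closure_le]
      intro y hy
      refine Subgroup.subset_closure ?_
      show Odd (orderOf (MulAut.conj g y))
      rw [MulEquiv.orderOf_eq]
      exact hy
    exact hle hx
  haveI : Group.IsSolvable O := Group.isSolvable_of_isSolvable_injective (Subgroup.inclusion_injective hO)
  rw [Group.isSolvable_iff_subgroup_quotient O]
  refine ⟨inferInstance, ?_⟩
  haveI : Fact (Nat.Prime 2) := ⟨Nat.prime_two⟩
  have h2q : IsPGroup 2 (Cfsg.Out G ⧸ O) := by
    intro x
    induction x using QuotientGroup.induction_on with | H y =>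
    obtain ⟨t, m, hm, hy⟩ := Nat.exists_eq_pow_mul_and_not_dvd (orderOf_pos y).ne' 2 (by norm_num)
    refine ⟨t, ?_⟩
    rw [← QuotientGroup.mk_pow, QuotientGroup.eq_one_iff]
    exact Subgroup.subset_closure (hsplit y t m hy hm)
  haveI := h2q.isNilpotent
  infer_instance

end H30
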