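import Mathlib
import Cfsg.Prelude.Def_OddOrderLocal
import Cfsg.Agent.H30.Basic
import Cfsg.Agent.H30.CyclicDerived
import Cfsg.Agent.H6.Basic
import Cfsg.Agent.H6.OmegaOdd

set_option autoImplicit false
set_option linter.all false

/-!
`p`-groups, `p` odd, whose elements of order `p` lie in an elementary abelian normal subgroup of order at
most `p ^ 2`: they are metacyclic unless some element is self-centralizing of order `p ^ 2`.
-/

open Subgroup

namespace H30

universe u

variable {p : ℕ} [hp : Fact p.Prime]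

theorem pow_choose_two_eq_one {G : Type*} [Group G] (hp2 : p ≠ 2) {z : G} (hz : z ^ p = 1) :
    z ^ p.choose 2 = 1 := by
  obtain ⟨q, hq⟩ : p ∣ p.choose 2 := hp.out.dvd_choose_self two_ne_zero
    (lt_of_le_of_ne hp.out.two_le (Ne.symm hp2))
  rw [hq, pow_mul, hz, one_pow]

/-- If an element killed by `p` has a power prime to `p` in `L`, it is in `L`. -/
theorem mem_of_pow_mem {G : Type*} [Group G] {L : Subgroup G} {x : G} {j : ℤ} (hxp : x ^ p ∈ L)
    (hj : ¬ (p : ℤ) ∣ j) (h : x ^ j ∈ L) : x ∈ L := by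
  obtain ⟨a, b, hab⟩ : IsCoprime (p : ℤ) j := (Nat.prime_iff_prime_int.1 hp.out).coprime_iff_not_dvd.2 hj
  rw [← zpow_one x, ← hab, zpow_add, mul_comm a, zpow_mul, zpow_natCast, mul_comm b, zpow_mul]
  exact mul_mem (zpow_mem hxp a) (zpow_mem h b)

theorem normal_of_commutator_le {G : Type*} [Group G] {N : Subgroup G} (h : _root_.commutator G ≤ N) :
    N.Normal := by
  refine ⟨fun a ha g => ?_⟩
  have h1 : g * a * g⁻¹ * a⁻¹ ∈ N := h (by
    rw [_root_.commutator_def, ← commutatorElement_def]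
    exact commutator_mem_commutator (mem_top g) (mem_top a))
  simpa using mul_mem h1 ha

/-- An odd `p`-group with at most `p` elements killed by `p` is cyclic. -/
theorem isCyclic_of_killed_le {G : Type*} [Group G] [Finite G] (hp2 : p ≠ 2) (hG : IsPGroup p G)
    (E : Subgroup G) (hE : Nat.card E ≤ p) (hall : ∀ g : G, g ^ p = 1 → g ∈ E) : IsCyclic G := by
  by_contra hnc
  obtain ⟨A, -, hA, hAc⟩ := H6.exists_normal_elementary_sq hp2 hG hnc
  have h1 := Subgroup.card_le_of_le (fun a ha => hall a (hA.2 a ha) : A ≤ E)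
  have := Nat.pow_lt_pow_right hp.out.one_lt (show 1 < 2 by norm_num)
  rw [pow_one] at this
  omega

/-- In an odd `p`-group whose elements killed by `p` are central, equal `p`-th powers differ by
an element killed by `p`. -/
theorem pow_injective_of_central (hp2 : p ≠ 2) (n : ℕ) :
    ∀ (K : Type u) [Group K] [Finite K], Nat.card K ≤ n → IsPGroup p K →
      (∀ g : K, g ^ p = 1 → g ∈ center K) → ∀ x y : K, x ^ p = y ^ p → (x⁻¹ * y) ^ p = 1 := by
  induction n with
  | zero => intro K _ _ h; exact absurd h (not_le.2 Nat.card_pos)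
  | succ n ih =>
    intro K _ _ hcard hK hcen x y hxy
    have key : ∀ M : Subgroup K, M ≠ ⊤ → ∀ a ∈ M, ∀ b ∈ M, a ^ p = b ^ p → (a⁻¹ * b) ^ p = 1 := by
      intro M hM a ha b hb hab
      have hlt : Nat.card M < Nat.card K := lt_of_le_of_ne M.card_le_card_group
        fun h => hM (Subgroup.eq_top_of_card_eq M h)
      have := ih M (by omega) (hK.to_subgroup M) (fun g hg => mem_center_iff.2 fun h => Subtype.ext
          (mem_center_iff.1 (hcen g (by rw [← SubgroupClass.coe_pow, hg]; rfl)) h))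
        ⟨a, ha⟩ ⟨b, hb⟩ (Subtype.ext (by simpa using hab))
      simpa using congrArg Subtype.val this
    by_cases hH : zpowers x ⊔ zpowers y = ⊤
    swap
    · exact key _ hH x (mem_sup_left (mem_zpowers x)) y (mem_sup_right (mem_zpowers y)) hxy
    have hxpc : x ^ p ∈ center K := by
      have h1 : zpowers x ⊔ zpowers y ≤ centralizer ({x ^ p} : Set K) :=
        sup_le (zpowers_le.2 (mem_centralizer_singleton_iff.2 (Commute.self_pow x p).eq))
          (zpowers_le.2 (mem_centralizer_singleton_iff.2 (by rw [hxy]; exact (Commute.self_pow y p).eq)))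
      rw [mem_center_iff]
      intro g
      exact mem_centralizer_singleton_iff.1 (h1 (hH.symm ▸ mem_top g))
    by_cases hxtop : zpowers x = ⊤
    · obtain ⟨i, rfl⟩ := mem_zpowers_iff.1 (hxtop ▸ mem_top y)
      rw [(((Commute.refl x).zpow_right i).inv_left).mul_pow, inv_pow, ← hxy, inv_mul_cancel]
    haveI := hK.isNilpotent
    obtain ⟨M, hM, hxM⟩ := (eq_top_or_exists_le_coatom (zpowers x)).resolve_left hxtop
    have hMn := H6.normal_of_isCoatom hK hM
    have hw : (x⁻¹ * (y * x * y⁻¹)) ^ p = 1 := key M hM.1 x (hxM (mem_zpowers x)) _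
      (hMn.conj_mem x (hxM (mem_zpowers x)) y)
      (by rw [conj_pow, mem_center_iff.1 hxpc y, mul_inv_cancel_right])
    set w := x⁻¹ * (y * x * y⁻¹) with hwdef
    have hwc : w ∈ center K := hcen w hw
    have h1 := mul_pow_of_central (x := x⁻¹) (y := y) (z := w⁻¹) (inv_mem hwc) (by rw [hwdef]; group) p
    rw [h1, pow_choose_two_eq_one hp2 (by rw [inv_pow, hw, inv_one]), inv_pow, ← hxy, inv_mul_cancel, one_mul]

/-- The elementary abelian normal subgroup containing the elements of order `p` of its centralizer. -/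
structure OmData (p : ℕ) {K : Type u} [Group K] (E : Subgroup K) : Prop where
  odd : p ≠ 2
  isPGroup : IsPGroup p K
  normal : E.Normal
  card_le : Nat.card E ≤ p ^ 2
  le_cen : E ≤ centralizer (E : Set K)
  killed : ∀ e ∈ E, e ^ p = 1
  mem_of_pow : ∀ g ∈ centralizer (E : Set K), g ^ p = 1 → g ∈ E

/-- `g ^ p ∈ E` forces `g` to centralize `E`. -/
def OmSplit (p : ℕ) {K : Type u} [Group K] (E : Subgroup K) : Prop :=
  ∀ g : K, g ^ p ∈ E → g ∈ centralizer (E : Set K)

namespace OmData

variable {K : Type u} [Group K] [Finite K] {E : Subgroup K}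

theorem cen_normal (d : OmData p E) : (centralizer (E : Set K)).Normal := by
  haveI := d.normal; infer_instance

theorem commutator_card_le (d : OmData p E) : Nat.card ↥⁅E, (⊤ : Subgroup K)⁆ ≤ p := by
  haveI := d.normal
  by_cases h : E = ⊥
  · rw [h, commutator_bot_left, card_bot]; exact hp.out.one_le
  have hlt : ⁅E, (⊤ : Subgroup K)⁆ < E := by
    refine lt_of_le_of_ne (commutator_le_left E ⊤) fun he => h ?_
    haveI := d.isPGroup.isNilpotent
    have hall : ∀ j, E ≤ (⊤ : Subgroup K).lowerCentralSeries j := by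
      intro j
      induction j with
      | zero => simp
      | succ j ih =>
        calc E = ⁅E, (⊤ : Subgroup K)⁆ := he.symm
          _ ≤ _ := commutator_mono ih le_rfl
    exact le_bot_iff.1 ((hall _).trans_eq (Subgroup.lowerCentralSeries_nilpotencyClass (G := K)))
  have h1 := (card_mul_le_of_lt d.isPGroup hlt).trans d.card_le
  rw [sq] at h1
  exact Nat.le_of_mul_le_mul_left h1 hp.out.pos

theorem commutator_le (d : OmData p E) : ⁅E, (⊤ : Subgroup K)⁆ ≤ E ⊓ center K := by
  haveI := d.normal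
  exact le_inf (commutator_le_left E ⊤) (le_center_of_card_le d.isPGroup inferInstance d.commutator_card_le)

theorem comm_mem (d : OmData p E) (g : K) {e : K} (he : e ∈ E) :
    g * e * g⁻¹ * e⁻¹ ∈ ⁅E, (⊤ : Subgroup K)⁆ := by
  rw [commutator_comm, ← commutatorElement_def]
  exact commutator_mem_commutator (mem_top g) he

/-- Equal `p`-th powers in the centralizer of `E` differ by an element of `E`. -/
theorem inj (d : OmData p E) {x y : K} (hx : x ∈ centralizer (E : Set K)) (hy : y ∈ centralizer (E : Set K))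
    (h : x ^ p = y ^ p) : x⁻¹ * y ∈ E := by
  refine d.mem_of_pow _ (mul_mem (inv_mem hx) hy) ?_
  have := pow_injective_of_central d.odd _ (centralizer (E : Set K)) le_rfl (d.isPGroup.to_subgroup _)
    (fun g hg => mem_center_iff.2 fun a => Subtype.ext
      (mem_centralizer_iff.1 a.2 _ (d.mem_of_pow g g.2 (by rw [← SubgroupClass.coe_pow, hg]; rfl))).symm)
    ⟨x, hx⟩ ⟨y, hy⟩ (Subtype.ext (by simpa using h))
  simpa using congrArg Subtype.val this

/-- Commutators with an element whose `p`-th power is in `E`. -/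
theorem comm_mem_of_pow (d : OmData p E) {x y : K} (hx : x ∈ centralizer (E : Set K))
    (hy : y ∈ centralizer (E : Set K)) (hxp : x ^ p ∈ E) : y * x * y⁻¹ * x⁻¹ ∈ E := by
  have h1 : x ^ p = (y * x * y⁻¹) ^ p := by
    rw [conj_pow, ← mem_centralizer_iff.1 hy _ hxp, mul_inv_cancel_right]
  have h2 := d.normal.conj_mem _ (d.inj hx (d.cen_normal.conj_mem x hx y) h1) x
  rwa [mul_inv_cancel_left] at h2

theorem mulpow (d : OmData p E) {g h : K} (hg : g ∈ centralizer (E : Set K)) (hh : h ∈ centralizer (E : Set K))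
    (hc : h * g * h⁻¹ * g⁻¹ ∈ E) : (g * h) ^ p = g ^ p * h ^ p := by
  set f := h * g * h⁻¹ * g⁻¹ with hf
  have hfC : f ∈ centralizer (E : Set K) := d.le_cen hc
  have hfc : (⟨f, hfC⟩ : centralizer (E : Set K)) ∈ center (centralizer (E : Set K)) :=
    mem_center_iff.2 fun a => Subtype.ext (mem_centralizer_iff.1 a.2 f hc).symm
  have h1 := congrArg Subtype.val (mul_pow_of_central (G := centralizer (E : Set K))
    (x := ⟨g, hg⟩) (y := ⟨h, hh⟩) hfc (Subtype.ext (by simp [hf, mul_assoc])) p)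
  simp only [Subgroup.coe_mul, SubgroupClass.coe_pow] at h1
  rw [h1, pow_choose_two_eq_one d.odd (d.killed f hc), mul_one]

/-- The elements of the centralizer of `E` whose `p`-th power is in `E`. -/
def om2 (d : OmData p E) : Subgroup K where
  carrier := {g | g ∈ centralizer (E : Set K) ∧ g ^ p ∈ E}
  one_mem' := ⟨one_mem _, by rw [one_pow]; exact one_mem _⟩
  mul_mem' := by
    rintro a b ⟨ha, ha'⟩ ⟨hb, hb'⟩
    refine ⟨mul_mem ha hb, ?_⟩
    rw [d.mulpow ha hb (d.comm_mem_of_pow ha hb ha')]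
    exact mul_mem ha' hb'
  inv_mem' := by
    rintro a ⟨ha, ha'⟩
    exact ⟨inv_mem ha, by rw [inv_pow]; exact inv_mem ha'⟩

theorem mem_om2 (d : OmData p E) {g : K} : g ∈ d.om2 ↔ g ∈ centralizer (E : Set K) ∧ g ^ p ∈ E := Iff.rfl

theorem le_om2 (d : OmData p E) : E ≤ d.om2 := fun e he =>
  ⟨d.le_cen he, by rw [d.killed e he]; exact one_mem _⟩

theorem om2_normal (d : OmData p E) : d.om2.Normal :=
  ⟨fun a ha g => ⟨d.cen_normal.conj_mem a ha.1 g, by rw [conj_pow]; exact d.normal.conj_mem _ ha.2 g⟩⟩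

theorem om2_mul_pow (d : OmData p E) {a b : K} (ha : a ∈ d.om2) (hb : b ∈ d.om2) :
    (a * b) ^ p = a ^ p * b ^ p :=
  d.mulpow ha.1 hb.1 (d.comm_mem_of_pow ha.1 hb.1 ha.2)

/-- The `p`-th power map on `om2`. -/
def powHom (d : OmData p E) : d.om2 →* E :=
  MonoidHom.mk' (fun g => ⟨(g : K) ^ p, g.2.2⟩) fun a b => Subtype.ext (d.om2_mul_pow a.2 b.2)

theorem powHom_ker (d : OmData p E) : d.powHom.ker = E.subgroupOf d.om2 := by
  ext a
  rw [MonoidHom.mem_ker, mem_subgroupOf]
  constructor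
  · intro h
    exact d.mem_of_pow _ a.2.1 (congrArg Subtype.val h)
  · intro h
    exact Subtype.ext (d.killed _ h)

theorem relIndex_eq (d : OmData p E) : E.relIndex d.om2 = Nat.card d.powHom.range := by
  rw [relIndex, ← d.powHom_ker, Subgroup.index_ker]

theorem relIndex_le (d : OmData p E) : E.relIndex d.om2 ≤ p ^ 2 := by
  rw [d.relIndex_eq]
  exact (card_le_card_group _).trans d.card_le

theorem exists_pow_eq (d : OmData p E) (h : p ^ 2 ≤ E.relIndex d.om2) {e : K} (he : e ∈ E) :
    ∃ v ∈ d.om2, v ^ p = e := by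
  rw [d.relIndex_eq] at h
  have htop : d.powHom.range = ⊤ := Subgroup.eq_top_of_le_card _ (d.card_le.trans h)
  obtain ⟨v, hv⟩ := (htop.symm ▸ mem_top (⟨e, he⟩ : E) : (⟨e, he⟩ : E) ∈ d.powHom.range)
  exact ⟨v, v.2, congrArg Subtype.val hv⟩

theorem card_eq_of_not_le_center (d : OmData p E) (h : ¬ E ≤ center K) :
    Nat.card E = p ^ 2 ∧ Nat.card ↥(E ⊓ center K) = p := by
  haveI := d.normal
  have hne : E ≠ ⊥ := fun he => h (by rw [he]; exact bot_le)
  obtain ⟨i, hi⟩ := IsPGroup.iff_card.1 (d.isPGroup.to_subgroup E)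
  have h1 : 2 ≤ i := by
    by_contra hlt
    refine h (le_center_of_card_le d.isPGroup d.normal ?_)
    rw [hi]
    calc p ^ i ≤ p ^ 1 := Nat.pow_le_pow_right hp.out.pos (by omega)
      _ = p := pow_one p
  have h2 : i ≤ 2 := (Nat.pow_le_pow_iff_right hp.out.one_lt).1 (hi ▸ d.card_le)
  obtain rfl : i = 2 := le_antisymm h2 h1
  refine ⟨hi, le_antisymm ?_ ?_⟩
  · have h3 := card_mul_le_of_lt d.isPGroup (lt_of_le_of_ne (inf_le_left : E ⊓ center K ≤ E)
      fun he => h (he ▸ inf_le_right))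
    rw [hi, sq] at h3
    exact Nat.le_of_mul_le_mul_left h3 hp.out.pos
  · exact Nat.le_of_dvd Nat.card_pos
      ((d.isPGroup.to_subgroup _).card_eq_or_dvd.resolve_left fun h4 =>
        inf_center_ne_bot d.isPGroup d.normal hne (Subgroup.card_eq_one.1 h4))

theorem fixed_mem (d : OmData p E) {g e : K} (hg : g ∉ centralizer (E : Set K)) (he : e ∈ E)
    (hc : Commute g e) : e ∈ center K := by
  by_contra hne
  have hEn : ¬ E ≤ center K := fun h => hne (h he)
  obtain ⟨hcard, hZ⟩ := d.card_eq_of_not_le_center hEn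
  have hlt : E ⊓ center K < (E ⊓ center K) ⊔ zpowers e :=
    left_lt_sup.2 fun h => hne (h (mem_zpowers e)).2
  have h1 := card_mul_le_of_lt d.isPGroup hlt
  rw [hZ, ← sq, ← hcard] at h1
  have heq : (E ⊓ center K) ⊔ zpowers e = E := eq_of_le_of_card_ge (sup_le inf_le_left (zpowers_le.2 he)) h1
  apply hg
  rw [← heq, mem_centralizer_iff]
  have h2 : (E ⊓ center K) ⊔ zpowers e ≤ centralizer ({g} : Set K) :=
    sup_le (inf_le_right.trans (center_le_centralizer _))
      (zpowers_le.2 (mem_centralizer_singleton_iff.2 hc.symm.eq))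
  exact fun a ha => mem_centralizer_singleton_iff.1 (h2 ha)

/-- A nontrivial element of `E ⊓ center` generates it, when `E` is not central. -/
theorem zpowers_eq_inf_center (d : OmData p E) (h : ¬ E ≤ center K) {z : K} (hz : z ∈ E ⊓ center K)
    (hz1 : z ≠ 1) : zpowers z = E ⊓ center K := by
  refine eq_of_le_of_card_ge (zpowers_le.2 hz) ?_
  rw [(d.card_eq_of_not_le_center h).2, Nat.card_zpowers]
  exact (orderOf_eq_prime (d.killed z hz.1) hz1).ge

/-- Elements with `p`-th power in `E ⊓ center` are central modulo `E ⊓ center`. -/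
theorem comm_mem_inf (d : OmData p E) (ns : OmSplit p E) (g : K) {l : K} (hl : l ^ p ∈ E ⊓ center K) :
    g * l * g⁻¹ * l⁻¹ ∈ E ⊓ center K := by
  haveI := d.normal
  have hlC : l ∈ centralizer (E : Set K) := ns l hl.1
  by_cases hEc : E ≤ center K
  · have hgC : g ∈ centralizer (E : Set K) := by
      rw [centralizer_eq_top_iff_subset.2 hEc]; trivial
    exact ⟨d.comm_mem_of_pow hlC hgC hl.1, hEc (d.comm_mem_of_pow hlC hgC hl.1)⟩
  have key : ∀ g : K, g ∉ centralizer (E : Set K) → g * l * g⁻¹ * l⁻¹ ∈ E ⊓ center K := by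
    intro g hg
    have hgo : g ∉ d.om2 := fun h => hg h.1
    obtain ⟨k, hk, hk'⟩ := exists_last_pow d.isPGroup (P := fun w => w ∉ d.om2)
      (not_not.2 (one_mem _)) (x := g) hgo
    rw [not_not] at hk'
    set u := (g ^ p ^ k) ^ p with hu
    have hgu : Commute g u := (Commute.self_pow g (p ^ k)).pow_right p
    have huE : u ∉ E := fun h => hk ⟨ns _ h, h⟩
    have hup : u ^ p ∈ E ⊓ center K := ⟨hk'.2, d.fixed_mem hg hk'.2 (hgu.pow_right p)⟩
    have hup1 : u ^ p ≠ 1 := fun h => huE (d.mem_of_pow u hk'.1 h)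
    obtain ⟨i, hi⟩ := mem_zpowers_iff.1 (d.zpowers_eq_inf_center hEc hup hup1 ▸ hl)
    have hpow : (u ^ i) ^ p = l ^ p := by
      rw [← hi, ← zpow_natCast, ← zpow_mul, mul_comm, zpow_mul, zpow_natCast]
    have he := d.inj (zpow_mem hk'.1 i) hlC hpow
    set e := (u ^ i)⁻¹ * l with hedef
    have hl' : l = u ^ i * e := by rw [hedef, mul_inv_cancel_left]
    have h1 : g * l * g⁻¹ * l⁻¹ = u ^ i * (g * e * g⁻¹ * e⁻¹) * (u ^ i)⁻¹ := by
      have h2 : g * u ^ i = u ^ i * g := (hgu.zpow_right i).eq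
      calc g * l * g⁻¹ * l⁻¹ = g * u ^ i * e * g⁻¹ * (e⁻¹ * (u ^ i)⁻¹) := by rw [hl']; group
        _ = _ := by rw [h2]; group
    rw [h1]
    exact Normal.conj_mem inferInstance _ (d.commutator_le (d.comm_mem g he)) _
  by_cases hg : g ∈ centralizer (E : Set K)
  swap
  · exact key g hg
  obtain ⟨g', hg'⟩ : ∃ g', g' ∉ centralizer (E : Set K) := by
    by_contra! hall
    exact hEc fun e he => mem_center_iff.2 fun a => (mem_centralizer_iff.1 (hall a) e he).symm
  have hgg : g * g' ∉ centralizer (E : Set K) := fun h => hg' (by simpa using mul_mem (inv_mem hg) h)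
  have h1 := key _ hgg
  have h2 := key _ hg'
  have h3 : g * g' * l * (g * g')⁻¹ * l⁻¹ =
      g * (g' * l * g'⁻¹ * l⁻¹) * g⁻¹ * (g * l * g⁻¹ * l⁻¹) := by group
  rw [h3, mem_center_iff.1 h2.2 g, mul_inv_cancel_right] at h1
  have h4 := mul_mem (inv_mem h2) h1
  rwa [inv_mul_cancel_left] at h4

/-- `(g l) ^ p = g ^ p l ^ p` when `l ^ p ∈ E ⊓ center`. -/
theorem mul_pow_exact (d : OmData p E) (ns : OmSplit p E) (g : K) {l : K} (hl : l ^ p ∈ E ⊓ center K) :
    (g * l) ^ p = g ^ p * l ^ p := by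
  have h1 := d.comm_mem_inf ns g hl
  have hz : l * g * l⁻¹ * g⁻¹ ∈ E ⊓ center K := by
    rw [show l * g * l⁻¹ * g⁻¹ = (g * l * g⁻¹ * l⁻¹)⁻¹ by group]; exact inv_mem h1
  rw [mul_pow_of_central hz.2 (by group : l * g = (l * g * l⁻¹ * g⁻¹) * (g * l)) p,
    pow_choose_two_eq_one d.odd (d.killed _ hz.1), mul_one]

/-- `(g v) ^ p ≡ g ^ p v ^ p` modulo `E ⊓ center` for `v ∈ om2`. -/
theorem mul_pow_mod (d : OmData p E) (ns : OmSplit p E) (g : K) {v : K} (hv : v ∈ d.om2) :
    (g ^ p * v ^ p)⁻¹ * (g * v) ^ p ∈ E ⊓ center K := by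
  haveI := d.normal
  haveI := d.om2_normal
  have hgv : g * v⁻¹ * g⁻¹ ∈ d.om2 := Normal.conj_mem inferInstance _ (inv_mem hv) g
  have hdp : (v * (g * v⁻¹ * g⁻¹)) ^ p ∈ E ⊓ center K := by
    rw [d.om2_mul_pow hv hgv, conj_pow, inv_pow]
    refine d.commutator_le ?_
    have h1 := d.comm_mem g hv.2
    rw [show v ^ p * (g * (v ^ p)⁻¹ * g⁻¹) = (g * v ^ p * g⁻¹ * (v ^ p)⁻¹)⁻¹ by group]
    exact inv_mem h1
  set w := v * (g * v⁻¹ * g⁻¹) with hw
  set f := QuotientGroup.mk' (E ⊓ center K) with hf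
  have hwc : f w ∈ center (K ⧸ (E ⊓ center K)) := by
    rw [mem_center_iff]
    intro q
    obtain ⟨a, rfl⟩ := QuotientGroup.mk'_surjective _ q
    have h1 := d.comm_mem_inf ns a hdp
    have h2 : f (a * w * a⁻¹ * w⁻¹) = 1 := (QuotientGroup.eq_one_iff _).2 h1
    rw [map_mul, map_mul, map_mul, map_inv, map_inv, mul_inv_eq_one, mul_inv_eq_iff_eq_mul] at h2
    exact h2
  have hwp : f w ^ p = 1 := by rw [← map_pow]; exact (QuotientGroup.eq_one_iff _).2 hdp
  have h3 := mul_pow_of_central (x := f g) (y := f v) hwc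
    (by rw [← map_mul, ← map_mul, ← map_mul, hw]; congr 1; group) p
  rw [pow_choose_two_eq_one d.odd hwp, mul_one, ← map_mul, ← map_pow, ← map_pow, ← map_pow, ← map_mul] at h3
  exact QuotientGroup.eq.1 h3.symm

/-- The data passes to the quotient by `E`. -/
theorem quotient (d : OmData p E) (ns : OmSplit p E) [E.Normal] :
    OmData p (d.om2.map (QuotientGroup.mk' E)) := by
  refine ⟨d.odd, d.isPGroup.to_quotient E, Subgroup.Normal.map d.om2_normal _ (QuotientGroup.mk'_surjective E),
    ?_, ?_, ?_, ?_⟩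
  · refine le_trans (le_of_eq ?_) d.relIndex_le
    rw [← relIndex_ker, QuotientGroup.ker_mk']
  · rintro _ ⟨a, ha, rfl⟩
    rw [mem_centralizer_iff]
    rintro _ ⟨b, hb, rfl⟩
    have h2 : QuotientGroup.mk' E (b * a * b⁻¹ * a⁻¹) = 1 :=
      (QuotientGroup.eq_one_iff _).2 (d.comm_mem_of_pow ha.1 hb.1 ha.2)
    rw [map_mul, map_mul, map_mul, map_inv, map_inv, mul_inv_eq_one, mul_inv_eq_iff_eq_mul] at h2
    exact h2
  · rintro _ ⟨a, ha, rfl⟩
    rw [← map_pow]
    exact (QuotientGroup.eq_one_iff _).2 ha.2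
  · intro q _ hq
    obtain ⟨g, rfl⟩ := QuotientGroup.mk'_surjective E q
    rw [← map_pow, QuotientGroup.mk'_apply, QuotientGroup.eq_one_iff] at hq
    exact mem_map_of_mem _ ⟨ns g hq, hq⟩

end OmData

section

variable {K : Type u} [Group K] [Finite K]

/-- Metacyclic together with: the Frattini subgroup consists of `p`-th powers. -/
def MetaPow (p : ℕ) (K : Type u) [Group K] : Prop :=
  Cfsg.IsMetacyclic K ∧ ∀ c ∈ frattini K, ∃ g : K, g ^ p = c

theorem pow_mem_of_frattini_le_zpowers {b c : K} (hb : b ∉ frattini K) (hle : frattini K ≤ zpowers b)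
    (hbp : b ^ p ∈ frattini K) (hc : c ∈ frattini K) : ∃ g : K, g ^ p = c := by
  obtain ⟨i, rfl⟩ := mem_zpowers_iff.1 (hle hc)
  by_cases hi : (p : ℤ) ∣ i
  · obtain ⟨j, rfl⟩ := hi
    exact ⟨b ^ j, by rw [← zpow_natCast, ← zpow_mul, mul_comm]⟩
  · exact absurd (mem_of_pow_mem hbp hi hc) hb

theorem metaPow_of_isCyclic (hK : IsPGroup p K) (h : IsCyclic K) : MetaPow p K := by
  haveI := h
  refine ⟨⟨⊤, inferInstance, inferInstance, isCyclic_of_surjective _ (QuotientGroup.mk'_surjective _)⟩, ?_⟩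
  intro c hc
  obtain ⟨b, hb⟩ := (isCyclic_iff_exists_zpowers_eq_top).1 h
  by_cases hbf : b ∈ frattini K
  · have : Subsingleton K := by
      have hbot : (⊥ : Subgroup K) = ⊤ := (H6.eq_top_of_sup_frattini (by
        rw [bot_sup_eq, eq_top_iff, ← hb]; exact zpowers_le.2 hbf))
      exact Subgroup.subsingleton_iff.1 (subsingleton_of_bot_eq_top hbot)
    exact ⟨1, Subsingleton.elim _ _⟩
  exact pow_mem_of_frattini_le_zpowers hbf (hb ▸ le_top) (H6.pow_prime_mem_frattini hK b) hc

theorem metaPow_of_index_prime (hK : IsPGroup p K) (hnc : ¬ IsCyclic K) {b : K}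
    (hb : (zpowers b).index = p) : MetaPow p K := by
  have hn := H6.normal_of_index_eq_prime hK hb
  haveI := hn
  refine ⟨⟨zpowers b, hn, inferInstance, isCyclic_of_prime_card (p := p) hb⟩, ?_⟩
  intro c hc
  refine pow_mem_of_frattini_le_zpowers ?_ ?_ (H6.pow_prime_mem_frattini hK b) hc
  · intro hbf
    obtain ⟨v, hv⟩ := SetLike.exists_of_lt (lt_top_iff_ne_top.2 (fun h : zpowers b = ⊤ => by
      rw [h, index_top] at hb; exact hp.out.one_lt.ne hb))
    have h1 : zpowers v ⊔ frattini K = ⊤ := by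
      have h2 : zpowers b < zpowers v ⊔ zpowers b := right_lt_sup.2 fun h => hv.2 (h (mem_zpowers v))
      have h3 : zpowers v ⊔ zpowers b = ⊤ := by
        refine Subgroup.eq_top_of_le_card _ ?_
        have := card_mul_le_of_lt hK h2
        rwa [← hb, mul_comm, card_mul_index] at this
      rw [eq_top_iff, ← h3]
      exact sup_le le_sup_left ((zpowers_le.2 hbf).trans le_sup_right)
    exact hnc (isCyclic_iff_exists_zpowers_eq_top.2 ⟨v, H6.eq_top_of_sup_frattini h1⟩)
  · refine frattini_le_coatom ?_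
    refine ⟨fun h => by rw [h, index_top] at hb; exact hp.out.one_lt.ne hb, fun M hM => ?_⟩
    refine Subgroup.eq_top_of_le_card _ ?_
    have := card_mul_le_of_lt hK hM
    rwa [← hb, mul_comm, card_mul_index] at this

theorem metaPow_small {E : Subgroup K} (d : OmData p E) (hc : Nat.card K ≤ p ^ 3)
    (hall : ∀ g : K, g ^ p = 1 → g ∈ E) : MetaPow p K := by
  by_cases hcyc : IsCyclic K
  · exact metaPow_of_isCyclic d.isPGroup hcyc
  by_cases hexp : ∀ g : K, g ^ p = 1
  · have htop : E = ⊤ := eq_top_iff.2 fun g _ => hall g (hexp g)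
    have hcard : Nat.card K ≤ p ^ 2 := by
      have := d.card_le
      rwa [htop, card_top] at this
    obtain ⟨e, he⟩ : ∃ e : K, e ≠ 1 := by
      by_contra! hall'
      haveI : Subsingleton K := ⟨fun a b => by rw [hall' a, hall' b]⟩
      exact hcyc isCyclic_of_subsingleton
    have hen : (zpowers e).Normal := by
      refine ⟨fun a ha g => ?_⟩
      rw [mem_centralizer_iff.1 (d.le_cen (htop ▸ mem_top a)) g (htop ▸ mem_top g), mul_inv_cancel_right]
      exact ha
    haveI := hen
    refine ⟨⟨zpowers e, hen, inferInstance, ?_⟩, fun c hc' => ⟨1, ?_⟩⟩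
    · obtain ⟨i, hi⟩ := IsPGroup.iff_card.1 (d.isPGroup.to_quotient (zpowers e))
      have h1 := (zpowers e).card_mul_index
      rw [Nat.card_zpowers, orderOf_eq_prime (hexp e) he, index_eq_card, hi] at h1
      rw [← h1, ← pow_succ', Nat.pow_le_pow_iff_right hp.out.one_lt] at hcard
      rcases (show i = 0 ∨ i = 1 by omega) with rfl | rfl
      · haveI : Subsingleton (K ⧸ zpowers e) := (Nat.card_eq_one_iff_unique.1 (by simpa using hi)).1
        exact isCyclic_of_subsingleton
      · exact isCyclic_of_prime_card (by simpa using hi)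
    · have hle : frattini K ≤ ⊥ := by
        refine H6.frattini_le_of_quotient (p := p) ⊥ ?_ (fun g => by rw [hexp g]; exact one_mem _)
        rw [_root_.commutator_def, Subgroup.commutator_le]
        intro a _ b _
        rw [Subgroup.mem_bot, commutatorElement_eq_one_iff_mul_comm]
        exact mem_centralizer_iff.1 (d.le_cen (htop ▸ mem_top b)) a (htop ▸ mem_top a)
      rw [Subgroup.mem_bot.1 (hle hc'), one_pow]
  push Not at hexp
  obtain ⟨b, hb⟩ := hexp
  obtain ⟨k, hk⟩ := IsPGroup.iff_orderOf.1 d.isPGroup b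
  obtain ⟨n, hn⟩ := IsPGroup.iff_card.1 d.isPGroup
  have hk2 : 2 ≤ k := by
    by_contra hlt
    apply hb
    rw [← orderOf_dvd_iff_pow_eq_one, hk]
    exact (Nat.pow_dvd_pow p (show k ≤ 1 by omega)).trans (dvd_of_eq (pow_one p))
  have hkn : k < n := by
    have h1 : k ≤ n := (Nat.pow_dvd_pow_iff_le_right hp.out.one_lt).1 (hk ▸ hn ▸ orderOf_dvd_natCard b)
    refine lt_of_le_of_ne h1 fun he => hcyc ?_
    exact isCyclic_of_orderOf_eq_card b (by rw [hk, hn, he])
  have hn3 : n ≤ 3 := (Nat.pow_le_pow_iff_right hp.out.one_lt).1 (hn ▸ hc)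
  obtain rfl : k = 2 := by omega
  obtain rfl : n = 3 := by omega
  refine metaPow_of_index_prime d.isPGroup hcyc (b := b) ?_
  have h1 := (zpowers b).card_mul_index
  rw [Nat.card_zpowers, hk, hn, show p ^ 3 = p ^ 2 * p by ring] at h1
  exact Nat.eq_of_mul_eq_mul_left (pow_pos hp.out.pos 2) h1

/-- When the quotient lacks the splitting property, it is small. -/
theorem card_quotient_le_of_not_split {E : Subgroup K} (d : OmData p E) (ns : OmSplit p E) [E.Normal]
    (hE : Nat.card E = p ^ 2) (h : ¬ OmSplit p (d.om2.map (QuotientGroup.mk' E))) :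
    Nat.card (K ⧸ E) ≤ p ^ 3 := by
  set f := QuotientGroup.mk' E with hf
  haveI := d.om2_normal
  haveI := d.cen_normal
  simp only [OmSplit, not_forall] at h
  obtain ⟨q, hq, hqc⟩ := h
  obtain ⟨g, rfl⟩ := QuotientGroup.mk'_surjective E q
  rw [mem_centralizer_iff] at hqc
  simp only [not_forall] at hqc
  obtain ⟨_, ⟨v₀, hv₀, rfl⟩, hne⟩ := hqc
  have hfeq : ∀ a b : K, f a = f b ↔ a⁻¹ * b ∈ E := fun a b => QuotientGroup.eq
  have hu : g ^ p ∈ d.om2 := by
    obtain ⟨v, hv, hve⟩ := hq
    rw [← map_pow, hfeq] at hve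
    simpa using mul_mem hv (d.le_om2 hve)
  -- `v₁ = [g, v₀]` is outside `E`
  set v₁ := g * v₀ * g⁻¹ * v₀⁻¹ with hv₁
  have hv₁E : v₁ ∉ E := by
    intro h1
    apply hne
    have : f v₁ = 1 := (QuotientGroup.eq_one_iff _).2 h1
    rw [hv₁, map_mul, map_mul, map_mul, map_inv, map_inv, mul_inv_eq_one, mul_inv_eq_iff_eq_mul] at this
    exact this.symm
  have hgC : g ∉ centralizer (E : Set K) := fun h1 => hv₁E (d.comm_mem_of_pow hv₀.1 h1 hv₀.2)
  have hEc : ¬ E ≤ center K := fun h1 => hgC (by rw [centralizer_eq_top_iff_subset.2 h1]; trivial)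
  set u := g ^ p with hudef
  have huE : u ∉ E := fun h1 => hgC (ns g h1)
  have hup : u ^ p ∈ E ⊓ center K := ⟨hu.2, d.fixed_mem hgC hu.2 ((Commute.self_pow g p).pow_right p)⟩
  have hup1 : u ^ p ≠ 1 := fun h1 => huE (d.mem_of_pow u hu.1 h1)
  have hv₁o : v₁ ∈ d.om2 := mul_mem (Normal.conj_mem inferInstance _ hv₀ g) (inv_mem hv₀)
  have hv₁p : v₁ ^ p ∈ E ⊓ center K := by
    rw [hv₁, d.om2_mul_pow (Normal.conj_mem inferInstance _ hv₀ g) (inv_mem hv₀), conj_pow, inv_pow]
    exact d.commutator_le (d.comm_mem g hv₀.2)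
  have hv₁p1 : v₁ ^ p ≠ 1 := fun h1 => hv₁E (d.mem_of_pow _ hv₁o.1 h1)
  -- elements of `om2` fixed modulo `E`
  have hfix : ∀ l ∈ d.om2, g * l * g⁻¹ * l⁻¹ ∈ E → l ^ p ∈ E ⊓ center K := by
    intro l hl hle
    refine ⟨hl.2, d.fixed_mem hgC hl.2 ?_⟩
    have h1 : g * l ^ p * g⁻¹ = l ^ p := by
      rw [← conj_pow, show g * l * g⁻¹ = (g * l * g⁻¹ * l⁻¹) * l by group,
        d.om2_mul_pow (d.le_om2 hle) hl, d.killed _ hle, one_mul]
    rwa [commute_iff_eq, ← mul_inv_eq_iff_eq_mul]
  -- the centralizer of `E` is `om2`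
  have hCle : centralizer (E : Set K) ≤ d.om2 := by
    by_contra hlt
    obtain ⟨N, hNn, hoN, hNC, hNc⟩ := H6.exists_normal_between d.isPGroup
      (lt_of_le_of_ne (fun a ha => ha.1) (fun he => hlt he.ge) : d.om2 < centralizer (E : Set K))
    haveI := hNn
    obtain ⟨w, hwN, hwo⟩ := SetLike.exists_of_lt (lt_of_le_of_ne hoN fun he => by
      rw [← he] at hNc
      have := Nat.card_pos (α := d.om2)
      nlinarith [hp.out.two_le])
    set f2 := QuotientGroup.mk' d.om2 with hf2
    have hcardN : Nat.card (N.map f2) = p := by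
      have h1 := H6.card_map_mk d.om2 hoN
      have h2 : 0 < Nat.card d.om2 := Nat.card_pos
      rw [hf2]
      nlinarith
    have hNcen : N.map f2 ≤ center _ := le_center_of_card_le (d.isPGroup.to_quotient _)
      (Subgroup.Normal.map inferInstance _ (QuotientGroup.mk'_surjective _)) hcardN.le
    have hNpow : ∀ a ∈ N, a ^ p ∈ d.om2 := by
      intro a ha
      have h1 := orderOf_dvd_iff_pow_eq_one.1 ((N.map f2).orderOf_dvd_natCard (mem_map_of_mem f2 ha))
      rw [hcardN, ← map_pow] at h1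
      exact (QuotientGroup.eq_one_iff _).1 h1
    have hgw : g * w * g⁻¹ * w⁻¹ ∈ d.om2 := by
      rw [← QuotientGroup.eq_one_iff, ← QuotientGroup.mk'_apply, map_mul, map_mul, map_mul, map_inv, map_inv,
        mem_center_iff.1 (hNcen (mem_map_of_mem _ hwN)), mul_inv_cancel_right, mul_inv_cancel]
    set v := g * w * g⁻¹ * w⁻¹ with hv
    have hwC : w ∈ centralizer (E : Set K) := hNC hwN
    have hconj : g * w ^ p * g⁻¹ = v ^ p * w ^ p := by
      rw [← conj_pow, show g * w * g⁻¹ = v * w by rw [hv]; group,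
        d.mulpow hgw.1 hwC (d.comm_mem_of_pow hgw.1 hwC hgw.2)]
    have hwp := hNpow w hwN
    have hvp : v ^ p ∈ E ⊓ center K := by
      have h1 : g * w ^ p * g⁻¹ * (w ^ p)⁻¹ = v ^ p := by rw [hconj, mul_inv_cancel_right]
      have h2 := hfix _ hwp (by rw [h1]; exact hgw.2)
      have h3 := d.comm_mem_inf ns g h2
      rwa [h1] at h3
    obtain ⟨i, hi⟩ := mem_zpowers_iff.1 (d.zpowers_eq_inf_center hEc hv₁p hv₁p1 ▸ hvp)
    have hvi : (v₁ ^ i)⁻¹ * v ∈ E := d.inj (zpow_mem hv₁o.1 i) hgw.1 (by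
      rw [← hi, ← zpow_natCast, ← zpow_mul, mul_comm, zpow_mul, zpow_natCast])
    set w' := w * (v₀ ^ i)⁻¹ with hw'
    have hw'C : w' ∈ centralizer (E : Set K) := mul_mem hwC (inv_mem (zpow_mem hv₀.1 i))
    have hw'o : w' ∉ d.om2 := fun h1 => hwo (by simpa [hw'] using mul_mem h1 (zpow_mem hv₀ i))
    have hw'N : w' ∈ N := mul_mem hwN (inv_mem (zpow_mem (hoN hv₀) i))
    have hcw : Commute (f g) (f w') := by
      have e1 : f v = f v₁ ^ i := by rw [← map_zpow]; exact ((hfeq _ _).2 hvi).symm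
      have e2 : f g * f w * (f g)⁻¹ = f v * f w := by
        rw [← map_inv, ← map_mul, ← map_mul, ← map_mul, hv]; congr 1; group
      have e3 : f g * f v₀ * (f g)⁻¹ = f v₁ * f v₀ := by
        rw [← map_inv, ← map_mul, ← map_mul, ← map_mul, hv₁]; congr 1; group
      have hcomm : ∀ a ∈ centralizer (E : Set K), ∀ b ∈ d.om2, Commute (f a) (f b) := by
        intro a ha b hb
        have h2 : f (a * b * a⁻¹ * b⁻¹) = 1 := (QuotientGroup.eq_one_iff _).2 (d.comm_mem_of_pow hb.1 ha hb.2)
        rw [map_mul, map_mul, map_mul, map_inv, map_inv, mul_inv_eq_one, mul_inv_eq_iff_eq_mul] at h2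
        exact h2
      have e4 : Commute (f v₁) (f v₀) := hcomm _ hv₁o.1 _ hv₀
      have e5 : Commute (f v₁) (f w) := (hcomm _ hwC _ hv₁o).symm
      rw [commute_iff_eq, ← mul_inv_eq_iff_eq_mul, hw', map_mul, map_inv, map_zpow]
      calc f g * (f w * (f v₀ ^ i)⁻¹) * (f g)⁻¹
          = (f g * f w * (f g)⁻¹) * (f g * f v₀ ^ i * (f g)⁻¹)⁻¹ := by group
        _ = f v₁ ^ i * f w * ((f v₁ * f v₀) ^ i)⁻¹ := by rw [e2, e1, ← conj_zpow, e3]
        _ = f w * f v₁ ^ i * ((f v₁ ^ i)⁻¹ * (f v₀ ^ i)⁻¹) := by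
          rw [(e5.zpow_left i).eq, e4.mul_zpow, ← _root_.mul_inv_rev, (e4.zpow_zpow i i).eq]
        _ = _ := by group
    have he : g * w' * g⁻¹ * w'⁻¹ ∈ E := by
      rw [← QuotientGroup.eq_one_iff, ← QuotientGroup.mk'_apply, map_mul, map_mul, map_mul, map_inv, map_inv,
        hcw.eq, mul_inv_cancel_right, mul_inv_cancel]
    have hw'p := hNpow w' hw'N
    have hfixp : Commute g (w' ^ p) := by
      rw [commute_iff_eq, ← mul_inv_eq_iff_eq_mul, ← conj_pow,
        show g * w' * g⁻¹ = (g * w' * g⁻¹ * w'⁻¹) * w' by group,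
        d.mulpow (d.le_cen he) hw'C (by
          rw [show w' * (g * w' * g⁻¹ * w'⁻¹) * w'⁻¹ * (g * w' * g⁻¹ * w'⁻¹)⁻¹ = 1 by
            rw [← mem_centralizer_iff.1 hw'C _ he, mul_inv_cancel_right, mul_inv_cancel]]
          exact one_mem _),
        d.killed _ he, one_mul]
    have hL := hfix _ hw'p (by rw [hfixp.eq, mul_inv_cancel_right, mul_inv_cancel]; exact one_mem _)
    obtain ⟨j, hj⟩ := mem_zpowers_iff.1 (d.zpowers_eq_inf_center hEc hup hup1 ▸ hL)
    have hje : (u ^ j)⁻¹ * w' ^ p ∈ E := d.inj (zpow_mem hu.1 j) hw'p.1 (by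
      rw [← hj, ← zpow_natCast, ← zpow_mul, mul_comm, zpow_mul, zpow_natCast])
    have hh : (w' * g ^ (-j)) ^ p ∈ E := by
      rw [← QuotientGroup.eq_one_iff, ← QuotientGroup.mk'_apply, map_pow, map_mul, map_zpow,
        (hcw.symm.zpow_right _).mul_pow, ← map_pow, ← (hfeq _ _).2 hje, map_zpow, hudef, map_pow,
        ← zpow_natCast, ← zpow_natCast, ← zpow_mul, ← zpow_mul, ← zpow_add]
      rw [show (p : ℤ) * j + -j * (p : ℤ) = 0 by ring, zpow_zero]
    have hgj : g ^ (-j) ∈ centralizer (E : Set K) := by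
      have := mul_mem (inv_mem hw'C) (ns _ hh)
      rwa [inv_mul_cancel_left] at this
    have hgp : g ^ p ∈ centralizer (E : Set K) := hu.1
    by_cases hpj : (p : ℤ) ∣ j
    · obtain ⟨l, rfl⟩ := hpj
      have h1 : g ^ (-((p : ℤ) * l)) = u ^ (-l) := by
        rw [hudef, ← zpow_natCast g p, ← zpow_mul]; ring_nf
      rw [h1] at hh
      have h2 := mul_mem (⟨mul_mem hw'C (zpow_mem hu.1 _), hh⟩ : w' * u ^ (-l) ∈ d.om2) (zpow_mem hu l)
      rw [mul_assoc, ← zpow_add, neg_add_cancel, zpow_zero, mul_one] at h2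
      exact hw'o h2
    · exact hgC (mem_of_pow_mem hgp (fun h1 => hpj ((dvd_neg).1 h1)) hgj)
  -- count
  have h1 : E.index = E.relIndex (centralizer (E : Set K)) * (centralizer (E : Set K)).index :=
    (relIndex_mul_index d.le_cen).symm
  have h2 : E.relIndex (centralizer (E : Set K)) ≤ p ^ 2 := by
    rw [le_antisymm hCle (fun a ha => ha.1)]
    exact d.relIndex_le
  rw [← index_eq_card, h1, pow_succ]
  exact Nat.mul_le_mul h2 (index_centralizer_le_of_card_le d.isPGroup d.normal d.card_le)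

end

/-- An odd `p`-group with the split `Ω₁` data is metacyclic and its Frattini elements are `p`-th powers. -/
theorem metaPow_of_split (n : ℕ) : ∀ (K : Type u) [Group K] [Finite K], Nat.card K ≤ n →
    ∀ E : Subgroup K, OmData p E → OmSplit p E → MetaPow p K := by
  induction n with
  | zero => intro K _ _ h; exact absurd h (not_le.2 Nat.card_pos)
  | succ n ih =>
    intro K _ _ hcard E d ns
    have hK := d.isPGroup
    have hp2 := d.odd
    have hall : ∀ g : K, g ^ p = 1 → g ∈ E := fun g hg => d.mem_of_pow g (ns g (hg ▸ one_mem E)) hg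
    by_cases hcyc : IsCyclic K
    · exact metaPow_of_isCyclic hK hcyc
    have hE2 : Nat.card E = p ^ 2 := by
      obtain ⟨i, hi⟩ := IsPGroup.iff_card.1 (hK.to_subgroup E)
      have h2 : i ≤ 2 := (Nat.pow_le_pow_iff_right hp.out.one_lt).1 (hi ▸ d.card_le)
      rcases (show i ≤ 1 ∨ i = 2 by omega) with h | rfl
      · refine absurd (isCyclic_of_killed_le hp2 hK E ?_ hall) hcyc
        rw [hi]
        calc p ^ i ≤ p ^ 1 := Nat.pow_le_pow_right hp.out.pos h
          _ = p := pow_one p
      · exact hi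
    haveI := d.normal
    set f := QuotientGroup.mk' E with hf
    have hfs := QuotientGroup.mk'_surjective E
    have dQ := d.quotient ns
    have hallQ : ∀ q : K ⧸ E, q ^ p = 1 → q ∈ d.om2.map f := by
      intro q hq
      obtain ⟨g, rfl⟩ := hfs q
      rw [← map_pow, QuotientGroup.mk'_apply, QuotientGroup.eq_one_iff] at hq
      exact mem_map_of_mem _ ⟨ns g hq, hq⟩
    have hQlt : Nat.card (K ⧸ E) ≤ n := by
      have h1 := Subgroup.card_eq_card_quotient_mul_card_subgroup E
      rw [hE2] at h1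
      have h2 : 4 ≤ p ^ 2 := by nlinarith [hp.out.two_le]
      have h3 : 0 < Nat.card (K ⧸ E) := Nat.card_pos
      nlinarith
    have hrel : Nat.card (d.om2.map f) = E.relIndex d.om2 := by rw [← relIndex_ker, QuotientGroup.ker_mk']
    by_cases hsmall : Nat.card (d.om2.map f) ≤ p
    · have hQc := isCyclic_of_killed_le hp2 (hK.to_quotient E) _ hsmall hallQ
      obtain ⟨q, hq⟩ := isCyclic_iff_exists_zpowers_eq_top.1 hQc
      obtain ⟨b, rfl⟩ := hfs q
      obtain ⟨m, hm⟩ := IsPGroup.iff_orderOf.1 (hK.to_quotient E) (f b)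
      have hQcard : Nat.card (K ⧸ E) = p ^ m := by
        rw [← card_top (G := K ⧸ E), ← hq, Nat.card_zpowers, hm]
      have hKcard := Subgroup.card_eq_card_quotient_mul_card_subgroup E
      rw [hQcard, hE2] at hKcard
      rcases m with _ | m
      · refine metaPow_small d ?_ hall
        rw [hKcard, pow_zero, one_mul]
        exact Nat.pow_le_pow_right hp.out.pos (by omega)
      have hbo : orderOf b = p ^ (m + 2) := by
        refine orderOf_eq_prime_pow ?_ ?_
        · intro h1
          have h2 : b ^ p ^ m ∈ E := hall _ (by rw [← pow_mul, ← pow_succ]; exact h1)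
          have h3 : f b ^ p ^ m = 1 := by rw [← map_pow]; exact (QuotientGroup.eq_one_iff _).2 h2
          rw [← orderOf_dvd_iff_pow_eq_one, hm, Nat.pow_dvd_pow_iff_le_right hp.out.one_lt] at h3
          omega
        · rw [show m + 1 + 1 = (m + 1) + 1 from rfl, pow_succ, pow_mul]
          refine d.killed _ ?_
          rw [← QuotientGroup.eq_one_iff, ← QuotientGroup.mk'_apply, map_pow, ← hm, pow_orderOf_eq_one]
      refine metaPow_of_index_prime hK hcyc (b := b) ?_
      have h1 := (zpowers b).card_mul_index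
      rw [Nat.card_zpowers, hbo, hKcard, show p ^ (m + 1) * p ^ 2 = p ^ (m + 2) * p by ring] at h1
      exact Nat.eq_of_mul_eq_mul_left (pow_pos hp.out.pos _) h1
    have hrel2 : p ^ 2 ≤ E.relIndex d.om2 := by
      obtain ⟨i, hi⟩ := IsPGroup.iff_card.1 ((hK.to_quotient E).to_subgroup (d.om2.map f))
      rw [← hrel, hi]
      refine Nat.pow_le_pow_right hp.out.pos ?_
      by_contra hlt
      apply hsmall
      rw [hi]
      calc p ^ i ≤ p ^ 1 := Nat.pow_le_pow_right hp.out.pos (by omega)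
        _ = p := pow_one p
    have hQ : MetaPow p (K ⧸ E) := by
      by_cases hns : OmSplit p (d.om2.map f)
      · exact ih _ hQlt _ dQ hns
      · exact metaPow_small dQ (card_quotient_le_of_not_split d ns hE2 hns) hallQ
    have hEF : E ≤ frattini K := by
      intro e he
      obtain ⟨v, -, rfl⟩ := d.exists_pow_eq hrel2 he
      exact H6.pow_prime_mem_frattini hK v
    -- Frattini elements are `p`-th powers
    have hpow : ∀ c ∈ frattini K, ∃ g : K, g ^ p = c := by
      intro c hc
      obtain ⟨q, hq⟩ := hQ.2 (f c) (frattini_le_comap_frattini_of_surjective (φ := f) hfs hc)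
      obtain ⟨g, rfl⟩ := hfs q
      rw [← map_pow, hf, QuotientGroup.mk'_apply, QuotientGroup.mk'_apply, QuotientGroup.eq] at hq
      obtain ⟨v, hv, hve⟩ := d.exists_pow_eq hrel2 hq
      have h1 := d.mul_pow_mod ns g hv
      rw [hve, mul_inv_cancel_left] at h1
      set z := c⁻¹ * (g * v) ^ p with hz
      obtain ⟨l, hl, hle⟩ := d.exists_pow_eq hrel2 (inv_mem h1.1)
      refine ⟨g * v * l, ?_⟩
      rw [d.mul_pow_exact ns (g * v) (hle ▸ inv_mem h1), hle, hz]
      group
    refine ⟨?_, hpow⟩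
    -- generators
    obtain ⟨Nb, hNb, hNc, hNq⟩ := hQ.1
    obtain ⟨q, rfl⟩ := Nb.isCyclic_iff_exists_zpowers_eq_top.1 hNc
    obtain ⟨a, rfl⟩ := hfs q
    haveI := hNb
    obtain ⟨q, hq⟩ := isCyclic_iff_exists_zpowers_eq_top.1 hNq
    obtain ⟨q, rfl⟩ := QuotientGroup.mk'_surjective (zpowers (f a)) q
    obtain ⟨b, rfl⟩ := hfs q
    have hgen : zpowers a ⊔ zpowers b = ⊤ := by
      refine H6.eq_top_of_sup_frattini (top_le_iff.1 ?_)
      intro k _
      obtain ⟨i, hi⟩ := mem_zpowers_iff.1 (hq.symm ▸ mem_top (QuotientGroup.mk' (zpowers (f a)) (f k)))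
      rw [← map_zpow] at hi
      obtain ⟨j, hj⟩ := mem_zpowers_iff.1 (QuotientGroup.eq.1 hi)
      rw [← map_zpow, ← map_zpow, ← map_inv, ← map_mul, hf, QuotientGroup.mk'_apply, QuotientGroup.mk'_apply,
        QuotientGroup.eq] at hj
      have h1 : k = b ^ i * a ^ j * ((a ^ j)⁻¹ * ((b ^ i)⁻¹ * k)) := by group
      rw [h1]
      exact mul_mem (mem_sup_left (mul_mem (mem_sup_right (zpow_mem (mem_zpowers b) i))
        (mem_sup_left (zpow_mem (mem_zpowers a) j)))) (mem_sup_right (hEF hj))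
    obtain ⟨r, hr⟩ := mem_zpowers_iff.1 (hNb.conj_mem _ (mem_zpowers (f a)) (f b))
    rw [← map_zpow, ← map_inv, ← map_mul, ← map_mul, hf, QuotientGroup.mk'_apply, QuotientGroup.mk'_apply,
      QuotientGroup.eq] at hr
    set e := (a ^ r)⁻¹ * (b * a * b⁻¹) with he
    have hconj : b * a * b⁻¹ = a ^ r * e := by rw [he, mul_inv_cancel_left]
    set j := r - 1 with hj
    set c := b * a * b⁻¹ * a⁻¹ with hc
    have hceq : c = a ^ j * (a * e * a⁻¹) := by
      rw [hc, hconj, show r = j + 1 by rw [hj]; ring, zpow_add_one]; group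
    set T := ⁅E, (⊤ : Subgroup K)⁆ with hT
    have hTn : T.Normal := by rw [hT]; infer_instance
    haveI := hTn
    have hTZ := d.commutator_le
    set F := QuotientGroup.mk' T with hF
    have hEcen : ∀ x ∈ E, F x ∈ center (K ⧸ T) := by
      intro x hx
      rw [mem_center_iff]
      intro q
      obtain ⟨k, rfl⟩ := QuotientGroup.mk'_surjective _ q
      have h2 : F (k * x * k⁻¹ * x⁻¹) = 1 := (QuotientGroup.eq_one_iff _).2 (d.comm_mem k hx)
      rw [map_mul, map_mul, map_mul, map_inv, map_inv, mul_inv_eq_one, mul_inv_eq_iff_eq_mul] at h2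
      exact h2
    have hec : ∀ q : K ⧸ T, Commute (F e) q := fun q => (mem_center_iff.1 (hEcen e hr) q).symm
    have hFc : F c = F a ^ j * F e := by
      rw [hceq, map_mul, map_zpow, map_mul, map_mul, map_inv, ← (hec (F a)).eq, mul_inv_cancel_right]
    have hFb : F b * F a * (F b)⁻¹ = F a ^ r * F e := by
      rw [← map_inv, ← map_mul, ← map_mul, hconj, map_mul, map_zpow]
    have hFcb : F b * F c * (F b)⁻¹ = F c ^ r := by
      rw [hFc, ((hec (F a ^ j)).symm).mul_zpow]
      calc F b * (F a ^ j * F e) * (F b)⁻¹ = (F b * F a ^ j * (F b)⁻¹) * (F b * F e * (F b)⁻¹) := by group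
        _ = (F a ^ r * F e) ^ j * F e := by
          rw [← conj_zpow, hFb, ← (hec (F b)).eq, mul_inv_cancel_right]
        _ = _ := by
          rw [((hec (F a ^ r)).symm).mul_zpow, mul_assoc, ← zpow_add_one, ← zpow_mul, ← zpow_mul, hj,
            sub_add_cancel, mul_comm r]
    have hcn : (zpowers (F c)).Normal := by
      rw [← normalizer_eq_top_iff, eq_top_iff, ← Subgroup.map_top_of_surjective F (QuotientGroup.mk'_surjective _),
        ← hgen, Subgroup.map_sup, MonoidHom.map_zpowers, MonoidHom.map_zpowers, sup_le_iff, zpowers_le, zpowers_le]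
      constructor
      · apply Subgroup.mem_normalizer_fintype
        rintro _ ⟨i, rfl⟩
        show F a * F c ^ i * (F a)⁻¹ ∈ zpowers (F c)
        rw [← conj_zpow, hFc, ((Commute.self_zpow (F a) j).mul_right (hec (F a)).symm).eq, mul_inv_cancel_right]
        exact zpow_mem (mem_zpowers _) i
      · apply Subgroup.mem_normalizer_fintype
        rintro _ ⟨i, rfl⟩
        show F b * F c ^ i * (F b)⁻¹ ∈ zpowers (F c)
        rw [← conj_zpow, hFcb]
        exact zpow_mem (zpow_mem (mem_zpowers _) r) i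
    set M := (zpowers (F c)).comap F with hM
    haveI hMn : M.Normal := hcn.comap F
    have hKM : _root_.commutator K ≤ M := by
      set P := QuotientGroup.mk' M with hP
      have hab : Commute (P b) (P a) := by
        have h2 : P c = 1 := (QuotientGroup.eq_one_iff _).2 (mem_zpowers (F c))
        rw [hc, map_mul, map_mul, map_mul, map_inv, map_inv, mul_inv_eq_one, mul_inv_eq_iff_eq_mul] at h2
        exact h2
      have hcen : ∀ k : K, P k ∈ center (K ⧸ M) := by
        intro k
        have h1 : zpowers a ⊔ zpowers b ≤ (center (K ⧸ M)).comap P := by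
          have hx : ∀ x : K, Commute (P x) (P a) → Commute (P x) (P b) → x ∈ (center (K ⧸ M)).comap P := by
            intro x hxa hxb
            rw [Subgroup.mem_comap, mem_center_iff]
            intro q
            obtain ⟨y, rfl⟩ := QuotientGroup.mk'_surjective _ q
            have h2 : zpowers a ⊔ zpowers b ≤ (centralizer ({P x} : Set (K ⧸ M))).comap P :=
              sup_le (zpowers_le.2 (mem_centralizer_singleton_iff.2 hxa.symm.eq))
                (zpowers_le.2 (mem_centralizer_singleton_iff.2 hxb.symm.eq))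
            exact mem_centralizer_singleton_iff.1 (h2 (hgen.symm ▸ mem_top y))
          exact sup_le (zpowers_le.2 (hx a (Commute.refl _) hab.symm))
            (zpowers_le.2 (hx b hab (Commute.refl _)))
        exact h1 (hgen.symm ▸ mem_top k)
      rw [_root_.commutator_def, Subgroup.commutator_le]
      intro x _ y _
      rw [← QuotientGroup.eq_one_iff, ← QuotientGroup.mk'_apply, map_commutatorElement,
        commutatorElement_eq_one_iff_mul_comm]
      exact mem_center_iff.1 (hcen y) (P x)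
    have hKcT : _root_.commutator K ≤ zpowers c ⊔ T := by
      refine hKM.trans fun k hk => ?_
      obtain ⟨i, hi⟩ := mem_zpowers_iff.1 hk
      rw [← map_zpow, hF, QuotientGroup.mk'_apply, QuotientGroup.mk'_apply, QuotientGroup.eq] at hi
      rw [show k = c ^ i * ((c ^ i)⁻¹ * k) by group]
      exact mul_mem (mem_sup_left (zpow_mem (mem_zpowers c) i)) (mem_sup_right hi)
    have hKc : _root_.commutator K ≤ zpowers c := by
      by_cases hT1 : T = ⊥
      · rwa [hT1, sup_bot_eq] at hKcT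
      refine hKcT.trans (sup_le le_rfl ?_)
      have hEc : ¬ E ≤ center K := by
        intro h1
        apply hT1
        rw [hT, eq_bot_iff, Subgroup.commutator_le]
        intro x hx y _
        rw [Subgroup.mem_bot, commutatorElement_eq_one_iff_mul_comm]
        exact (mem_center_iff.1 (h1 hx) y).symm
      have hae : a * e * a⁻¹ ∈ E := d.normal.conj_mem e hr a
      by_cases hcp : c ^ p = 1
      · exfalso
        have hle : _root_.commutator K ≤ E :=
          hKcT.trans (sup_le (zpowers_le.2 (hall c hcp)) (hTZ.trans inf_le_left))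
        refine hEc fun x hx => ?_
        obtain ⟨v, -, rfl⟩ := d.exists_pow_eq hrel2 hx
        rw [mem_center_iff]
        intro h
        set x' := h * v * h⁻¹ * v⁻¹ with hx'
        have hx'E : x' ∈ E := hle (by
          rw [hx', _root_.commutator_def, ← commutatorElement_def]
          exact commutator_mem_commutator (mem_top h) (mem_top v))
        have hz : v * x' * v⁻¹ * x'⁻¹ ∈ E ⊓ center K := hTZ (d.comm_mem v hx'E)
        have h3 := mul_pow_of_central hz.2 (by group : v * x' = (v * x' * v⁻¹ * x'⁻¹) * (x' * v)) p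
        rw [d.killed x' hx'E, pow_choose_two_eq_one hp2 (d.killed _ hz.1), one_mul, mul_one, hx',
          show h * v * h⁻¹ * v⁻¹ * v = h * v * h⁻¹ by group, conj_pow] at h3
        rwa [mul_inv_eq_iff_eq_mul] at h3
      -- `T` is in `⟨c ^ p⟩`
      have hcpe : c ^ p = (a ^ p) ^ j := by
        have hz : (a * e * a⁻¹) * a ^ j * (a * e * a⁻¹)⁻¹ * (a ^ j)⁻¹ ∈ E ⊓ center K := by
          have h1 := hTZ (d.comm_mem (a ^ j) hae)
          rw [show (a * e * a⁻¹) * a ^ j * (a * e * a⁻¹)⁻¹ * (a ^ j)⁻¹ =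
            (a ^ j * (a * e * a⁻¹) * (a ^ j)⁻¹ * (a * e * a⁻¹)⁻¹)⁻¹ by group]
          exact inv_mem h1
        rw [hceq, mul_pow_of_central (x := a ^ j) (y := a * e * a⁻¹) hz.2 (by group) p,
          d.killed _ hae, pow_choose_two_eq_one hp2 (d.killed _ hz.1), mul_one, mul_one, ← zpow_natCast,
          ← zpow_mul, mul_comm, zpow_mul, zpow_natCast]
      have hapn : (zpowers (a ^ p)).Normal := by
        rw [← normalizer_eq_top_iff, eq_top_iff, ← hgen, sup_le_iff, zpowers_le, zpowers_le]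
        constructor
        · apply Subgroup.mem_normalizer_fintype
          rintro _ ⟨i, rfl⟩
          show a * (a ^ p) ^ i * a⁻¹ ∈ zpowers (a ^ p)
          rw [(((Commute.refl a).pow_right p).zpow_right i).eq, mul_inv_cancel_right]
          exact zpow_mem (mem_zpowers _) i
        · apply Subgroup.mem_normalizer_fintype
          rintro _ ⟨i, rfl⟩
          show b * (a ^ p) ^ i * b⁻¹ ∈ zpowers (a ^ p)
          have hz : e * a ^ r * e⁻¹ * (a ^ r)⁻¹ ∈ E ⊓ center K := by
            have h1 := hTZ (d.comm_mem (a ^ r) hr)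
            rw [show e * a ^ r * e⁻¹ * (a ^ r)⁻¹ = (a ^ r * e * (a ^ r)⁻¹ * e⁻¹)⁻¹ by group]
            exact inv_mem h1
          have h2 : b * a ^ p * b⁻¹ = (a ^ p) ^ r := by
            rw [← conj_pow, hconj, mul_pow_of_central (x := a ^ r) (y := e) hz.2 (by group) p,
              d.killed _ hr, pow_choose_two_eq_one hp2 (d.killed _ hz.1), mul_one, mul_one, ← zpow_natCast,
              ← zpow_mul, mul_comm, zpow_mul, zpow_natCast]
          rw [← conj_zpow, h2]
          exact zpow_mem (zpow_mem (mem_zpowers _) r) i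
      haveI := hapn
      obtain ⟨k, hk⟩ := IsPGroup.iff_orderOf.1 hK (c ^ p)
      obtain ⟨k, rfl⟩ : ∃ k', k = k' + 1 := by
        rcases k with _ | k
        · exact absurd (orderOf_eq_one_iff.1 (by simpa using hk)) hcp
        · exact ⟨k, rfl⟩
      set t := (c ^ p) ^ p ^ k with ht
      have htp : t ^ p = 1 := by rw [ht, ← pow_mul, ← pow_succ, ← hk, pow_orderOf_eq_one]
      have ht1 : t ≠ 1 := by
        intro h1
        rw [ht, ← orderOf_dvd_iff_pow_eq_one, hk, Nat.pow_dvd_pow_iff_le_right hp.out.one_lt] at h1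
        omega
      have htn : (zpowers t).Normal := normal_of_le_cyclic (A := zpowers (a ^ p))
        (zpowers_le.2 (pow_mem (hcpe ▸ zpow_mem (mem_zpowers _) j) _))
      have htZ : t ∈ E ⊓ center K := ⟨hall t htp, le_center_of_card_le hK htn
        (by rw [Nat.card_zpowers, orderOf_eq_prime htp ht1]) (mem_zpowers t)⟩
      calc T ≤ E ⊓ center K := hTZ
        _ = zpowers t := (d.zpowers_eq_inf_center hEc htZ ht1).symm
        _ ≤ zpowers c := zpowers_le.2 (pow_mem (pow_mem (mem_zpowers c) p) _)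
    have hcF : c ∈ frattini K := H6.commutator_le_frattini hK (by
      rw [hc, ← commutatorElement_def, _root_.commutator_def]
      exact commutator_mem_commutator (mem_top b) (mem_top a))
    -- a root of `c` outside the Frattini subgroup
    obtain ⟨w, hwF, hw⟩ : ∃ w : K, w ∉ frattini K ∧ c ∈ zpowers w := by
      rcases eq_or_ne c 1 with h1 | h1
      · obtain ⟨w, -, hw⟩ := SetLike.exists_of_lt (lt_top_iff_ne_top.2 (fun h : frattini K = ⊤ => by
          apply hcyc
          have hbot : (⊥ : Subgroup K) = ⊤ := H6.eq_top_of_sup_frattini (by rw [bot_sup_eq, h])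
          haveI : Subsingleton K := Subgroup.subsingleton_iff.1 (subsingleton_of_bot_eq_top hbot)
          exact isCyclic_of_subsingleton))
        exact ⟨w, hw, by rw [h1]; exact one_mem _⟩
      obtain ⟨w, hw, hwmax⟩ := Set.exists_max_image {w : K | c ∈ zpowers w} orderOf (Set.toFinite _)
        ⟨c, mem_zpowers c⟩
      refine ⟨w, fun hwF => ?_, hw⟩
      obtain ⟨v, hv⟩ := hpow w hwF
      have hcv : c ∈ zpowers v := zpowers_le.2 (hv ▸ pow_mem (mem_zpowers v) p) hw
      have h2 := hwmax v hcv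
      obtain ⟨k, hk⟩ := IsPGroup.iff_orderOf.1 hK v
      have hk0 : k ≠ 0 := by
        rintro rfl
        have hv1 : v = 1 := orderOf_eq_one_iff.1 (by simpa using hk)
        rw [hv1, zpowers_one_eq_bot, Subgroup.mem_bot] at hcv
        exact h1 hcv
      rw [← hv, orderOf_pow' _ hp.out.ne_zero, hk, Nat.gcd_eq_right (dvd_pow_self p hk0)] at h2
      have h3 : p ^ k / p < p ^ k := Nat.div_lt_self (pow_pos hp.out.pos k) hp.out.one_lt
      omega
    have hwn : (zpowers w).Normal := normal_of_commutator_le (hKc.trans (zpowers_le.2 hw))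
    refine ⟨zpowers w, hwn, inferInstance, ?_⟩
    haveI := hwn
    suffices h : ∃ v : K, zpowers w ⊔ zpowers v = ⊤ by
      obtain ⟨v, hv⟩ := h
      rw [isCyclic_iff_exists_zpowers_eq_top]
      refine ⟨QuotientGroup.mk' (zpowers w) v, ?_⟩
      rw [← MonoidHom.map_zpowers, ← map_top_of_surjective _ (QuotientGroup.mk'_surjective (zpowers w)),
        ← hv, Subgroup.map_sup, (Subgroup.map_eq_bot_iff (zpowers w)).2 (QuotientGroup.ker_mk' (zpowers w)).ge,
        bot_sup_eq]
    haveI hFn : (frattini K).Normal := inferInstance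
    by_cases ha' : a ∈ (zpowers w ⊔ zpowers b) ⊔ frattini K
    · refine ⟨b, H6.eq_top_of_sup_frattini (top_le_iff.1 ?_)⟩
      rw [← hgen]
      exact sup_le (zpowers_le.2 ha') (zpowers_le.2 (mem_sup_left (mem_sup_right (mem_zpowers b))))
    refine ⟨a, H6.eq_top_of_sup_frattini (top_le_iff.1 ?_)⟩
    rw [← hgen]
    refine sup_le (zpowers_le.2 (mem_sup_left (mem_sup_right (mem_zpowers a)))) (zpowers_le.2 ?_)
    -- `w = k b ^ i` with `k ∈ Φ ⟨a⟩`
    have hbn : b ∈ normalizer ((frattini K ⊔ zpowers a : Subgroup K) : Set K) := by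
      rw [normalizer_eq_top_iff.2 (normal_of_commutator_le
        ((H6.commutator_le_frattini hK).trans le_sup_left))]
      trivial
    have hwtop : w ∈ (frattini K ⊔ zpowers a) ⊔ zpowers b := by
      rw [sup_assoc, hgen, sup_top_eq]; trivial
    obtain ⟨k, hk, i, hki⟩ := (mem_sup_zpowers hbn).1 hwtop
    have hkle : frattini K ⊔ zpowers a ≤ (zpowers w ⊔ zpowers a) ⊔ frattini K :=
      sup_le le_sup_right (le_sup_right.trans le_sup_left)
    have hbi : b ^ i ∈ (zpowers w ⊔ zpowers a) ⊔ frattini K := by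
      have := mul_mem (inv_mem (hkle hk)) (mem_sup_left (mem_sup_left (mem_zpowers w)) :
        w ∈ (zpowers w ⊔ zpowers a) ⊔ frattini K)
      have h' : k⁻¹ * w = b ^ i := by rw [← hki, inv_mul_cancel_left]
      rwa [h'] at this
    have hbp : b ^ p ∈ (zpowers w ⊔ zpowers a) ⊔ frattini K := mem_sup_right (H6.pow_prime_mem_frattini hK b)
    by_cases hpi : (p : ℤ) ∣ i
    · exfalso
      obtain ⟨l, rfl⟩ := hpi
      have hwk : w ∈ frattini K ⊔ zpowers a := by
        rw [← hki]
        refine mul_mem hk (mem_sup_left ?_)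
        rw [zpow_mul, zpow_natCast]
        exact zpow_mem (H6.pow_prime_mem_frattini hK b) l
      have han : a ∈ normalizer ((frattini K : Subgroup K) : Set K) := by
        rw [normalizer_eq_top_iff.2 hFn]; trivial
      obtain ⟨φ, hφ, i', hi'⟩ := (mem_sup_zpowers han).1 hwk
      by_cases hpi' : (p : ℤ) ∣ i'
      · obtain ⟨l', rfl⟩ := hpi'
        apply hwF
        rw [← hi']
        refine mul_mem hφ ?_
        rw [zpow_mul, zpow_natCast]
        exact zpow_mem (H6.pow_prime_mem_frattini hK a) l'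
      · apply ha'
        refine mem_of_pow_mem (mem_sup_right (H6.pow_prime_mem_frattini hK a)) hpi' ?_
        have := mul_mem (mem_sup_right (inv_mem hφ) : φ⁻¹ ∈ (zpowers w ⊔ zpowers b) ⊔ frattini K)
          (mem_sup_left (mem_sup_left (mem_zpowers w)))
        have h' : φ⁻¹ * w = a ^ i' := by rw [← hi', inv_mul_cancel_left]
        rwa [h'] at this
    · exact mem_of_pow_mem hbp hpi hbi

end H30
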