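import Mathlib
import Cfsg.Prelude.Def_OddOrderLocal
import Cfsg.Prelude.Def_CaseTheorems
import Cfsg.Agent.H30.SmallOmegaOdd
import Cfsg.Agent.H11.SmallOmega
import Cfsg.Agent.H31.MaxClassCrit

set_option autoImplicit false
set_option linter.all false

/-! Blackburn: `p`-groups of odd order and rank at most two. -/

open Subgroup

namespace H30

universe u

variable {G : Type u} [Group G] [Finite G] {p : ℕ} [hp : Fact p.Prime] {E : Subgroup G}

theorem exists_nat_pow {u a : G} (h : a ∈ zpowers u) : ∃ i : ℕ, u ^ i = a := by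
  rwa [← mem_powers_iff_mem_zpowers, Submonoid.mem_powers_iff] at h

theorem OmData.comm' (d : OmData p E) {e : G} (he : e ∈ E) (g : G) :
    e⁻¹ * (g⁻¹ * e * g) ∈ E ⊓ center G := by
  have h1 := d.commutator_le (d.comm_mem g⁻¹ he)
  rw [inv_inv] at h1
  have h2 : e⁻¹ * (g⁻¹ * e * g) = e⁻¹ * (g⁻¹ * e * g * e⁻¹) * e := by group
  rw [h2, mem_center_iff.1 h1.2 e⁻¹, inv_mul_cancel_right]
  exact h1

theorem OmData.sup_zpowers_eq_top (d : OmData p E) (hcard : Nat.card E = p ^ 2) {x : G}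
    (hx : x ∉ centralizer (E : Set G)) :
    (centralizer (E : Set G)).index = p ∧ centralizer (E : Set G) ⊔ zpowers x = ⊤ := by
  haveI := d.cen_normal
  have hle := index_centralizer_le_of_card_le d.isPGroup d.normal d.card_le
  have hlt : centralizer (E : Set G) < centralizer (E : Set G) ⊔ zpowers x :=
    left_lt_sup.2 fun h => hx (h (mem_zpowers x))
  have h1 := card_mul_le_of_lt d.isPGroup hlt
  have h2 := (centralizer (E : Set G)).card_mul_index
  have h3 : 0 < Nat.card ↥(centralizer (E : Set G)) := Nat.card_pos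
  have h4 := (centralizer (E : Set G) ⊔ zpowers x).card_le_card_group
  refine ⟨le_antisymm hle (Nat.le_of_mul_le_mul_left ?_ h3), Subgroup.eq_top_of_le_card _ ?_⟩
  · rw [h2, mul_comm]; exact h1.trans h4
  · refine le_trans ?_ h1
    rw [← h2, mul_comm p]
    exact Nat.mul_le_mul_left _ hle

/-- An element outside `C(E)` with small centralizer forces maximal class. -/
theorem OmData.maxClass (d : OmData p E) (hcard : Nat.card E = p ^ 2) {n : ℕ} (hn : Nat.card G = p ^ n)
    {x : G} (hx : x ∉ centralizer (E : Set G))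
    (hW : ∀ c ∈ centralizer (E : Set G), Commute c x → c ∈ E) :
    2 ≤ n ∧ (⊤ : Subgroup G).lowerCentralSeries (n - 2) ≠ ⊥ := by
  haveI := d.normal
  haveI := d.cen_normal
  have hEc : ¬ E ≤ center G := fun h => hx (by rw [centralizer_eq_top_iff_subset.2 h]; trivial)
  obtain ⟨hidx, htop⟩ := d.sup_zpowers_eq_top hcard hx
  set Z0 := E ⊓ center G with hZ0
  have hZn : Z0.Normal := inferInstance
  have hxp : x ^ p ∈ Z0 := by
    have h1 : x ^ p ∈ centralizer (E : Set G) := by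
      rw [← hidx]; exact pow_index_mem _ x
    have h2 : Commute (x ^ p) x := Commute.pow_self x p
    exact ⟨hW _ h1 h2, d.fixed_mem hx (hW _ h1 h2) h2.symm⟩
  set A := Z0 ⊔ zpowers x with hA
  set f := QuotientGroup.mk' Z0 with hf
  have hAmap : Nat.card (A.map f) ≤ p := by
    rw [hA, Subgroup.map_sup, (Subgroup.map_eq_bot_iff Z0).2 (QuotientGroup.ker_mk' Z0).ge, bot_sup_eq,
      MonoidHom.map_zpowers, Nat.card_zpowers]
    refine Nat.le_of_dvd hp.out.pos (orderOf_dvd_of_pow_eq_one ?_)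
    rw [← map_pow]
    exact (QuotientGroup.eq_one_iff _).2 hxp
  have hAcard : Nat.card A = p ^ 2 := by
    have h1 := relIndex_mul_relIndex ⊥ Z0 A bot_le le_sup_left
    rw [relIndex_bot_left, relIndex_bot_left, (d.card_eq_of_not_le_center hEc).2] at h1
    have h2 : Z0.relIndex A = Nat.card (A.map f) := by rw [← relIndex_ker, QuotientGroup.ker_mk']
    have h3 := card_mul_le_of_lt d.isPGroup (left_lt_sup.2 (fun h => hx (d.le_cen (h (mem_zpowers x)).1)) :
      Z0 < A)
    rw [(d.card_eq_of_not_le_center hEc).2, ← sq] at h3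
    refine le_antisymm ?_ h3
    rw [← h1, h2, sq]
    exact Nat.mul_le_mul_left p hAmap
  have hcen : centralizer (A : Set G) ≤ A := by
    intro g hg
    have hgx : Commute g x := (mem_centralizer_iff.1 hg x (mem_sup_right (mem_zpowers x))).symm
    have hxn : x ∈ normalizer ((centralizer (E : Set G) : Subgroup G) : Set G) := by
      rw [normalizer_eq_top_iff.2 d.cen_normal]; trivial
    obtain ⟨c, hc, i, hci⟩ := (mem_sup_zpowers hxn).1 (htop.symm ▸ mem_top g)
    have hcx : Commute c x := by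
      have h1 := hgx.mul_left ((Commute.refl x).zpow_left i).inv_left
      rwa [← hci, mul_inv_cancel_right] at h1
    rw [← hci]
    refine mul_mem (mem_sup_left ⟨hW c hc hcx, d.fixed_mem hx (hW c hc hcx) hcx.symm⟩)
      (mem_sup_right (zpow_mem (mem_zpowers x) i))
  have h2n : 2 ≤ n := by
    have := A.card_le_card_group
    rw [hAcard, hn] at this
    exact (Nat.pow_le_pow_iff_right hp.out.one_lt).1 this
  refine ⟨h2n, fun hbot => ?_⟩
  have hcl := H31.nilpotencyClass_of_self_centralizing_sq (p := p) (n - 2) (X := G)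
    (by rw [hn]; congr 1; omega) A hAcard hcen
  haveI := d.isPGroup.isNilpotent
  have := Subgroup.lowerCentralSeries_eq_bot_iff_nilpotencyClass_le.1 hbot
  omega

/-- The two non-metacyclic families, when `C(E) / E` is cyclic. -/
theorem OmData.families (d : OmData p E) (hcard : Nat.card E = p ^ 2) {n : ℕ} (hn : Nat.card G = p ^ n)
    {x : G} (hx : x ∉ centralizer (E : Set G)) (hxp : x ^ p = 1) [E.Normal] {c : G}
    (hc : c ∈ centralizer (E : Set G))
    (hgenC : (centralizer (E : Set G)).map (QuotientGroup.mk' E) ≤ zpowers (QuotientGroup.mk' E c)) :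
    (3 ≤ n ∧ ∃ x y z : G, Subgroup.closure ({x, y, z} : Set G) = ⊤ ∧ x ^ p = 1 ∧ y ^ p = 1 ∧ z ^ p ^ (n - 2) = 1 ∧
        x * z = z * x ∧ y * z = z * y ∧ x⁻¹ * y * x = y * z ^ p ^ (n - 3)) ∨
    (4 ≤ n ∧ ∃ (s : ℕ) (x y z : G), (s = 1 ∨ ¬ IsSquare (s : ZMod p)) ∧ Subgroup.closure ({x, y, z} : Set G) = ⊤ ∧
        x ^ p = 1 ∧ y ^ p = 1 ∧ z ^ p ^ (n - 2) = 1 ∧ y * z = z * y ∧ x⁻¹ * y * x = y * z ^ (s * p ^ (n - 3)) ∧
        x⁻¹ * z * x = y * z) := by
  classical
  have hp2 := d.odd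
  haveI := d.cen_normal
  set C := centralizer (E : Set G) with hC
  set f := QuotientGroup.mk' E with hf
  obtain ⟨hidx, htop⟩ := d.sup_zpowers_eq_top hcard hx
  have hEc : ¬ E ≤ center G := fun h => hx (by rw [hC, centralizer_eq_top_iff_subset.2 h]; trivial)
  have hcE : ∀ e ∈ E, Commute e c := fun e he => mem_centralizer_iff.1 hc e he
  have hCgen : C ≤ E ⊔ zpowers c := by
    intro g hg
    obtain ⟨i, hi⟩ := mem_zpowers_iff.1 (hgenC (mem_map_of_mem f hg))
    rw [← map_zpow, hf, QuotientGroup.mk'_apply, QuotientGroup.mk'_apply, QuotientGroup.eq] at hi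
    rw [show g = c ^ i * ((c ^ i)⁻¹ * g) by group]
    exact mul_mem (mem_sup_right (zpow_mem (mem_zpowers c) i)) (mem_sup_left hi)
  have hCdec : ∀ g ∈ C, ∃ e ∈ E, ∃ i : ℕ, e * c ^ i = g := by
    intro g hg
    obtain ⟨e, he, i, hi⟩ := (mem_sup_zpowers (by rw [normalizer_eq_top_iff.2 d.normal]; trivial)).1 (hCgen hg)
    obtain ⟨i', hi'⟩ := exists_nat_pow (zpow_mem (mem_zpowers c) i)
    exact ⟨e, he, i', by rw [hi']; exact hi⟩
  obtain ⟨m, hm⟩ := IsPGroup.iff_orderOf.1 (d.isPGroup.to_quotient E) (f c)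
  have hCcard : Nat.card C = p ^ (m + 2) := by
    have hmap : C.map f = zpowers (f c) := le_antisymm hgenC (zpowers_le.2 (mem_map_of_mem f hc))
    have h1 := relIndex_mul_relIndex ⊥ E C bot_le d.le_cen
    rw [relIndex_bot_left, relIndex_bot_left, hcard,
      show E.relIndex C = Nat.card (C.map f) by rw [← relIndex_ker, QuotientGroup.ker_mk'], hmap,
      Nat.card_zpowers, hm] at h1
    rw [← h1, ← pow_add, add_comm]
  have hnm : n = m + 3 := by
    have h1 := C.card_mul_index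
    rw [hCcard, hidx, hn, ← pow_succ] at h1
    exact (Nat.pow_right_injective hp.out.two_le h1).symm
  subst hnm
  have hx' : ∀ L : Subgroup G, C ≤ L → x ∈ L → L = ⊤ := fun L h1 h2 =>
    top_le_iff.1 (htop ▸ sup_le h1 (zpowers_le.2 h2))
  -- a non-central element of `E`
  obtain ⟨y₀, hy₀, hy₀c⟩ : ∃ y ∈ E, y ∉ center G := SetLike.not_le_iff_exists.1 hEc
  set z₁ := y₀⁻¹ * (x⁻¹ * y₀ * x) with hz₁
  have hz₁Z := d.comm' hy₀ x
  have hz₁1 : z₁ ≠ 1 := by
    intro h
    apply hy₀c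
    refine d.fixed_mem hx hy₀ ?_
    rw [hz₁, inv_mul_eq_one] at h
    rw [commute_iff_eq]
    calc x * y₀ = x * (x⁻¹ * y₀ * x) := by rw [← h]
      _ = y₀ * x := by group
  -- `E = ⟨t⟩ ⟨y⟩` for central `t` and non-central `y`
  have hEgen : ∀ t ∈ E ⊓ center G, t ≠ 1 → ∀ y ∈ E, y ∉ center G → E ≤ zpowers t ⊔ zpowers y := by
    intro t ht ht1 y hy hyc
    have heq := d.zpowers_eq_inf_center hEc ht ht1
    rw [heq]
    have hlt : E ⊓ center G < E ⊓ center G ⊔ zpowers y := left_lt_sup.2 fun h => hyc (h (mem_zpowers y)).2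
    have h1 := card_mul_le_of_lt d.isPGroup hlt
    rw [(d.card_eq_of_not_le_center hEc).2, ← sq, ← hcard] at h1
    exact (eq_of_le_of_card_ge (sup_le inf_le_left (zpowers_le.2 hy)) h1).ge
  rcases m with _ | m
  · -- `C(E) = E`
    have hCE : C ≤ E := (eq_of_le_of_card_ge d.le_cen (by rw [hCcard, hcard])).ge
    refine Or.inl ⟨le_rfl, x, y₀, z₁, ?_, hxp, d.killed _ hy₀, ?_, ?_, ?_, ?_⟩
    · refine hx' _ (hCE.trans ?_) (subset_closure (by simp))
      exact (hEgen z₁ hz₁Z hz₁1 y₀ hy₀ hy₀c).trans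
        (sup_le (zpowers_le.2 (subset_closure (by simp))) (zpowers_le.2 (subset_closure (by simp))))
    · rw [show 0 + 3 - 2 = 1 from rfl, pow_one]; exact d.killed _ hz₁Z.1
    · exact mem_center_iff.1 hz₁Z.2 x
    · exact mem_center_iff.1 hz₁Z.2 y₀
    · rw [show 0 + 3 - 3 = 0 from rfl, pow_zero, pow_one, hz₁, mul_inv_cancel_left]
  -- `c` has order `p ^ (m + 2)`
  have hco : orderOf c = p ^ (m + 2) := by
    refine orderOf_eq_prime_pow ?_ ?_
    · intro h1
      have h2 : c ^ p ^ m ∈ E := d.mem_of_pow _ (pow_mem hc _) (by rw [← pow_mul, ← pow_succ]; exact h1)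
      have h3 : f c ^ p ^ m = 1 := by rw [← map_pow]; exact (QuotientGroup.eq_one_iff _).2 h2
      rw [← orderOf_dvd_iff_pow_eq_one, hm, Nat.pow_dvd_pow_iff_le_right hp.out.one_lt] at h3
      omega
    · rw [show m + 1 + 1 = (m + 1) + 1 from rfl, pow_succ, pow_mul]
      refine d.killed _ ?_
      rw [← QuotientGroup.eq_one_iff, ← QuotientGroup.mk'_apply, map_pow, ← hm, pow_orderOf_eq_one]
  set P := p ^ (m + 1) with hP
  set t := c ^ P with ht
  have htE : t ∈ E := by
    rw [← QuotientGroup.eq_one_iff, ← QuotientGroup.mk'_apply, map_pow, ← hm, pow_orderOf_eq_one]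
  have htp : t ^ p = 1 := d.killed t htE
  have ht1 : t ≠ 1 := by
    rw [ht, Ne, ← orderOf_dvd_iff_pow_eq_one, hco, hP, Nat.pow_dvd_pow_iff_le_right hp.out.one_lt]
    omega
  have hto : orderOf t = p := orderOf_eq_prime htp ht1
  have hpP : p ∣ P := dvd_pow_self p (Nat.succ_ne_zero m)
  have hPkill : ∀ e ∈ E, e ^ P = 1 := by
    intro e he
    obtain ⟨q, hq⟩ := hpP
    rw [hq, pow_mul, d.killed e he, one_pow]
  have htc : t ∈ E ⊓ center G := by
    refine ⟨htE, le_center_of_card_le d.isPGroup ⟨fun a ha g => ?_⟩ (by rw [Nat.card_zpowers, hto]) (mem_zpowers t)⟩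
    obtain ⟨k, rfl⟩ := mem_zpowers_iff.1 ha
    obtain ⟨e, he, r, hr⟩ := hCdec _ (d.cen_normal.conj_mem c hc g)
    have h1 : g * t * g⁻¹ = t ^ r := by
      rw [ht, ← conj_pow, ← hr, (show Commute e (c ^ r) from (hcE e he).pow_right r).mul_pow, hPkill e he, one_mul,
        ← pow_mul, ← pow_mul, mul_comm]
    rw [← conj_zpow, h1]
    exact zpow_mem (pow_mem (mem_zpowers t) r) k
  -- normalise `y`
  obtain ⟨k, hk⟩ := mem_zpowers_iff.1 (d.zpowers_eq_inf_center hEc htc ht1 ▸ hz₁Z : z₁ ∈ zpowers t)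
  have hpk : ¬ (p : ℤ) ∣ k := by
    rintro ⟨k', rfl⟩
    apply hz₁1
    rw [← hk, zpow_mul, zpow_natCast, htp, one_zpow]
  obtain ⟨α, β, hαβ⟩ : IsCoprime (p : ℤ) k := (Nat.prime_iff_prime_int.1 hp.out).coprime_iff_not_dvd.2 hpk
  set y := y₀ ^ β with hy
  have hyE : y ∈ E := zpow_mem hy₀ β
  have hτy : x⁻¹ * y * x = y * t := by
    have h1 : x⁻¹ * y₀ * x = y₀ * z₁ := by rw [hz₁, mul_inv_cancel_left]
    have h2 : x⁻¹ * y * x = (x⁻¹ * y₀ * x) ^ β := by
      rw [hy]
      simpa using (conj_zpow (a := x⁻¹) (b := y₀) (i := β)).symm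
    rw [h2, h1, (show Commute y₀ z₁ from mem_center_iff.1 hz₁Z.2 y₀).mul_zpow, ← hk, ← zpow_mul]
    congr 1
    conv_rhs => rw [← zpow_one t, ← hαβ, zpow_add, mul_comm α, zpow_mul, zpow_natCast, htp, one_zpow, one_mul]
    rw [mul_comm k]
  have hyc : y ∉ center G := by
    intro h
    apply ht1
    rw [mul_assoc, ← mem_center_iff.1 h x] at hτy
    rw [inv_mul_cancel_left] at hτy
    exact mul_left_cancel (a := y) (by rw [mul_one]; exact hτy.symm)
  have hyp : y ^ p = 1 := d.killed y hyE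
  have hyo : orderOf y = p := orderOf_eq_prime hyp fun h => hyc (h ▸ one_mem _)
  have hyt : Commute y t := mem_center_iff.1 htc.2 y
  have hyc' : Commute y c := hcE y hyE
  have htx : x⁻¹ * t * x = t := by rw [mul_assoc, ← mem_center_iff.1 htc.2 x, inv_mul_cancel_left]
  -- the action on `c`
  obtain ⟨R, a, hτc⟩ : ∃ R a : ℕ, x⁻¹ * c * x = c ^ R * y ^ a := by
    have hmem : x⁻¹ * c * x ∈ C := by simpa using d.cen_normal.conj_mem c hc x⁻¹
    obtain ⟨e, he, r, hr⟩ := hCdec _ hmem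
    obtain ⟨e', he', a, ha⟩ := (mem_sup_zpowers (by
      rw [normalizer_eq_top_iff.2 (H6.normal_of_le_center (zpowers_le.2 htc.2))]; trivial)).1
      (hEgen t htc ht1 y hyE hyc he)
    obtain ⟨i, rfl⟩ := exists_nat_pow he'
    obtain ⟨a', ha'⟩ := exists_nat_pow (zpow_mem (mem_zpowers y) a)
    refine ⟨P * i + r, a', ?_⟩
    rw [← hr, ← ha, ← ha', pow_add, pow_mul, ← ht, mul_assoc (t ^ i), (hyc'.pow_pow a' r).eq, ← mul_assoc]
  have hconjpow : ∀ (g : G) (N : ℕ), x⁻¹ * g ^ N * x = (x⁻¹ * g * x) ^ N := fun g N => by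
    simpa using (conj_pow (a := x⁻¹) (b := g) (i := N)).symm
  have hconjmul : ∀ g h : G, x⁻¹ * (g * h) * x = (x⁻¹ * g * x) * (x⁻¹ * h * x) := fun g h => by group
  have hR : R % p = 1 := by
    have h1 : t ^ 1 = t ^ R := by
      rw [pow_one]
      conv_lhs => rw [← htx, ht, hconjpow, hτc, (show Commute (c ^ R) (y ^ a) from (hyc'.symm.pow_pow R a)).mul_pow,
        hPkill _ (pow_mem hyE a), mul_one, ← pow_mul, mul_comm, pow_mul, ← ht]
    rw [pow_eq_pow_iff_modEq, hto] at h1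
    rw [← h1, Nat.one_mod_eq_one.2 hp.out.one_lt.ne']
  have hypow : ∀ N : ℕ, N % p = 1 → y ^ (a * N) = y ^ a := by
    intro N hN
    rw [pow_eq_pow_iff_modEq, hyo]
    calc a * N ≡ a * 1 [MOD p] := Nat.ModEq.mul_left a (by
          rw [Nat.ModEq, hN, Nat.one_mod_eq_one.2 hp.out.one_lt.ne'])
      _ = a := mul_one a
  have hform : ∀ k : ℕ, (x ^ k)⁻¹ * c * x ^ k = c ^ R ^ k * y ^ (a * k) * t ^ (a * k.choose 2) := by
    intro k
    induction k with
    | zero => simp
    | succ k ih =>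
      have hN : R ^ k % p = 1 := by rw [Nat.pow_mod, hR, one_pow, Nat.one_mod_eq_one.2 hp.out.one_lt.ne']
      calc (x ^ (k + 1))⁻¹ * c * x ^ (k + 1) = x⁻¹ * ((x ^ k)⁻¹ * c * x ^ k) * x := by rw [pow_succ]; group
        _ = (c ^ R * y ^ a) ^ R ^ k * (y * t) ^ (a * k) * t ^ (a * k.choose 2) := by
          rw [ih, hconjmul, hconjmul, hconjpow, hconjpow, hconjpow, hτc, hτy, htx]
        _ = c ^ (R * R ^ k) * (y ^ a * y ^ (a * k)) * (t ^ (a * k) * t ^ (a * k.choose 2)) := by
          rw [(show Commute (c ^ R) (y ^ a) from (hyc'.symm.pow_pow R a)).mul_pow, hyt.mul_pow, ← pow_mul,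
            ← pow_mul, hypow _ hN]
          group
        _ = _ := by
          rw [← pow_succ', ← pow_add, ← pow_add]
          congr 2
          · ring_nf
          · rw [Nat.choose_succ_succ, Nat.choose_one_right]; ring
  have hfin := hform p
  rw [hxp, inv_one, one_mul, mul_one, mul_comm a p, pow_mul, hyp, one_pow, mul_one, mul_comm a, pow_mul,
    pow_choose_two_eq_one hp2 htp, one_pow, mul_one] at hfin
  obtain ⟨w, hw⟩ : ∃ w, R = w + 1 := ⟨R - 1, by
    have : R ≠ 0 := fun h => by rw [h, Nat.zero_mod] at hR; exact zero_ne_one hR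
    omega⟩
  obtain ⟨b, hb⟩ : P ∣ w := by
    obtain ⟨u, hu, hsum⟩ := geom_sum_prime (p := p) hp2 hR
    have h1 : c ^ ((∑ i ∈ Finset.range p, R ^ i) * w) = 1 := by
      have h2 := geom_sum_mul_add w p
      rw [← hw] at h2
      have h3 : c ^ ((∑ i ∈ Finset.range p, R ^ i) * w + 1) = c := by rw [h2]; exact hfin.symm
      rwa [pow_succ, mul_eq_right] at h3
    rw [← orderOf_dvd_iff_pow_eq_one, hco, hsum, pow_succ', mul_assoc] at h1
    have h4 := Nat.dvd_of_mul_dvd_mul_left hp.out.pos h1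
    exact (Nat.Coprime.pow_left _ ((Nat.Prime.coprime_iff_not_dvd hp.out).2 hu)).dvd_of_dvd_mul_left h4
  have hτc' : x⁻¹ * c * x = c * t ^ b * y ^ a := by
    rw [hτc, hw, hb, pow_succ', pow_mul, ← ht]
  have hne3 : m + 1 + 3 - 3 = m + 1 := by omega
  have hne2 : m + 1 + 3 - 2 = m + 2 := by omega
  by_cases hpa : p ∣ a
  · obtain ⟨a', rfl⟩ := hpa
    have hya : y ^ (p * a') = 1 := by rw [pow_mul, hyp, one_pow]
    rw [hya, mul_one] at hτc'
    set k' := (p - 1) * b with hk'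
    refine Or.inl ⟨by omega, x, y, c * y ^ k', ?_, hxp, hyp, ?_, ?_, ?_, ?_⟩
    · have hyL : y ∈ closure ({x, y, c * y ^ k'} : Set G) := subset_closure (by simp)
      have hcL : c ∈ closure ({x, y, c * y ^ k'} : Set G) := by
        have := mul_mem (subset_closure (by simp) : c * y ^ k' ∈ closure ({x, y, c * y ^ k'} : Set G))
          (inv_mem (pow_mem hyL k'))
        rwa [mul_inv_cancel_right] at this
      refine hx' _ (hCgen.trans (sup_le ((hEgen t htc ht1 y hyE hyc).trans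
        (sup_le (zpowers_le.2 (pow_mem hcL _)) (zpowers_le.2 hyL))) (zpowers_le.2 hcL))) (subset_closure (by simp))
    · rw [hne2, (hyc'.symm.pow_right k').mul_pow, ← hco, pow_orderOf_eq_one, one_mul, hco, pow_succ' p (m + 1),
        pow_mul, d.killed _ (pow_mem hyE k'), one_pow]
    · have h1 : x⁻¹ * (c * y ^ k') * x = c * y ^ k' := by
        rw [hconjmul, hconjpow, hτc', hτy, hyt.mul_pow, mul_assoc, ← mul_assoc (t ^ b),
          ← (hyt.pow_pow k' b).eq, mul_assoc (y ^ k'), ← pow_add,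
          show b + k' = p * b by
            rw [hk']; conv_lhs => rw [add_comm, ← Nat.succ_mul]
            congr 1; have := hp.out.pos; omega,
          pow_mul t, htp, one_pow, mul_one]
      conv_lhs => rw [← h1]
      group
    · exact (hyc'.mul_right ((Commute.refl y).pow_right k')).eq
    · rw [hne3, (hyc'.symm.pow_right k').mul_pow, ← hP, ← ht, hPkill _ (pow_mem hyE k'), mul_one, hτy]
  -- second family
  have hform2 : ∀ j : ℕ, (x ^ j)⁻¹ * c * x ^ j = c * (y ^ (a * j) * t ^ (b * j + a * j.choose 2)) := by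
    intro j
    induction j with
    | zero => simp
    | succ j ih =>
      calc (x ^ (j + 1))⁻¹ * c * x ^ (j + 1) = x⁻¹ * ((x ^ j)⁻¹ * c * x ^ j) * x := by rw [pow_succ]; group
        _ = c * t ^ b * y ^ a * ((y ^ (a * j) * t ^ (a * j)) * t ^ (b * j + a * j.choose 2)) := by
          rw [ih, hconjmul, hconjmul, hconjpow, hconjpow, hτc', hτy, htx, hyt.mul_pow]
        _ = c * ((y ^ a * y ^ (a * j)) * (t ^ b * (t ^ (a * j) * t ^ (b * j + a * j.choose 2)))) := by
          have e1 : t ^ b * y ^ a = y ^ a * t ^ b := (hyt.pow_pow a b).eq.symm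
          have e2 : t ^ b * y ^ (a * j) = y ^ (a * j) * t ^ b := (hyt.pow_pow (a * j) b).eq.symm
          calc c * t ^ b * y ^ a * ((y ^ (a * j) * t ^ (a * j)) * t ^ (b * j + a * j.choose 2))
              = c * (t ^ b * y ^ a) * y ^ (a * j) * (t ^ (a * j) * t ^ (b * j + a * j.choose 2)) := by group
            _ = c * y ^ a * (t ^ b * y ^ (a * j)) * (t ^ (a * j) * t ^ (b * j + a * j.choose 2)) := by
              rw [e1]; group
            _ = _ := by rw [e2]; group
        _ = _ := by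
          rw [← pow_add, ← pow_add, ← pow_add]
          congr 3
          · ring
          · rw [Nat.choose_succ_succ, Nat.choose_one_right]; ring
  have hyform : ∀ j : ℕ, (x ^ j)⁻¹ * y * x ^ j = y * t ^ j := by
    intro j
    induction j with
    | zero => simp
    | succ j ih =>
      calc (x ^ (j + 1))⁻¹ * y * x ^ (j + 1) = x⁻¹ * ((x ^ j)⁻¹ * y * x ^ j) * x := by rw [pow_succ]; group
        _ = y * t * t ^ j := by rw [ih, hconjmul, hconjpow, hτy, htx]
        _ = _ := by rw [mul_assoc, ← pow_succ']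
  have hpa' : (a : ZMod p) ≠ 0 := fun h => hpa ((ZMod.natCast_eq_zero_iff _ _).1 h)
  obtain ⟨j, s, hpj, hs, hsj⟩ : ∃ j s : ℕ, ¬ p ∣ j ∧ (s = 1 ∨ ¬ IsSquare (s : ZMod p)) ∧
      (s : ZMod p) = (a : ZMod p) * (j : ZMod p) * (j : ZMod p) := by
    by_cases hsq : IsSquare (a : ZMod p)
    · obtain ⟨q, hq⟩ := hsq
      have hq0 : q ≠ 0 := fun h => hpa' (by rw [hq, h, mul_zero])
      refine ⟨(q⁻¹).val, 1, fun hd => ?_, Or.inl rfl, ?_⟩
      · have := (ZMod.natCast_eq_zero_iff _ _).2 hd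
        rw [ZMod.natCast_zmod_val] at this
        exact inv_ne_zero hq0 this
      · rw [ZMod.natCast_zmod_val, Nat.cast_one, hq]
        field_simp
    · exact ⟨1, a, hp.out.not_dvd_one, Or.inr hsq, by simp⟩
  set B := b * j + a * j.choose 2 with hB
  set y' := y ^ (a * j) * t ^ B with hy'
  have hy'E : y' ∈ E := mul_mem (pow_mem hyE _) (pow_mem htE _)
  refine Or.inr ⟨by omega, s, x ^ j, y', c, hs, ?_, ?_, d.killed _ hy'E, ?_, (hcE _ hy'E).eq, ?_, ?_⟩
  · set L := closure ({x ^ j, y', c} : Set G) with hL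
    have hcL : c ∈ L := subset_closure (by simp)
    have hy'L : y' ∈ L := subset_closure (by simp)
    have hyL : y ∈ L := by
      refine mem_of_pow_mem (p := p) (j := ((a * j : ℕ) : ℤ)) (by rw [hyp]; exact one_mem _) ?_ ?_
      · rw [Int.natCast_dvd_natCast, hp.out.dvd_mul]
        exact fun h => h.elim hpa hpj
      · rw [zpow_natCast]
        have := mul_mem hy'L (inv_mem (pow_mem (pow_mem hcL P) B))
        rwa [← ht, hy', mul_inv_cancel_right] at this
    have hxL : x ∈ L := by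
      refine mem_of_pow_mem (p := p) (j := (j : ℤ)) (by rw [hxp]; exact one_mem _) ?_ ?_
      · rw [Int.natCast_dvd_natCast]; exact hpj
      · rw [zpow_natCast]; exact subset_closure (by simp)
    exact hx' _ (hCgen.trans (sup_le ((hEgen t htc ht1 y hyE hyc).trans
      (sup_le (zpowers_le.2 (pow_mem hcL _)) (zpowers_le.2 hyL))) (zpowers_le.2 hcL))) hxL
  · rw [← pow_mul, mul_comm, pow_mul, hxp, one_pow]
  · rw [hne2, ← hco, pow_orderOf_eq_one]
  · rw [hne3, mul_comm s, pow_mul, ← hP, ← ht]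
    have htj : (x ^ j)⁻¹ * t ^ B * x ^ j = t ^ B := by
      rw [mul_assoc, ← mem_center_iff.1 (pow_mem htc.2 B) (x ^ j), inv_mul_cancel_left]
    have h1 : (x ^ j)⁻¹ * y ^ (a * j) * x ^ j = y ^ (a * j) * t ^ (j * (a * j)) := by
      have h2 := (conj_pow (a := (x ^ j)⁻¹) (b := y) (i := a * j)).symm
      rw [inv_inv, hyform] at h2
      rw [h2, (hyt.pow_right j).mul_pow, ← pow_mul]
    calc (x ^ j)⁻¹ * y' * x ^ j = ((x ^ j)⁻¹ * y ^ (a * j) * x ^ j) * ((x ^ j)⁻¹ * t ^ B * x ^ j) := by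
          rw [hy']; group
      _ = y ^ (a * j) * (t ^ (j * (a * j)) * t ^ B) := by rw [h1, htj, mul_assoc]
      _ = y' * t ^ (j * (a * j)) := by rw [hy', ← pow_add, add_comm, pow_add, ← mul_assoc]
      _ = _ := by
        congr 1
        rw [pow_eq_pow_iff_modEq, hto, ← ZMod.natCast_eq_natCast_iff]
        push_cast
        rw [hsj]; ring
  · rw [hform2, ← hB, ← hy', (hcE _ hy'E).eq]

/-- Blackburn's classification of the `p`-groups of rank at most two, `p` odd. -/
theorem rank_two_classification (hp2 : p ≠ 2) (n : ℕ) (hn : Nat.card G = p ^ n) (hrk : Cfsg.PRankLE p 2 G) :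
    Cfsg.IsMetacyclic G ∨
    (3 ≤ n ∧ ∃ x y z : G, Subgroup.closure ({x, y, z} : Set G) = ⊤ ∧ x ^ p = 1 ∧ y ^ p = 1 ∧ z ^ p ^ (n - 2) = 1 ∧
        x * z = z * x ∧ y * z = z * y ∧ x⁻¹ * y * x = y * z ^ p ^ (n - 3)) ∨
    (4 ≤ n ∧ ∃ (s : ℕ) (x y z : G), (s = 1 ∨ ¬ IsSquare (s : ZMod p)) ∧ Subgroup.closure ({x, y, z} : Set G) = ⊤ ∧
        x ^ p = 1 ∧ y ^ p = 1 ∧ z ^ p ^ (n - 2) = 1 ∧ y * z = z * y ∧ x⁻¹ * y * x = y * z ^ (s * p ^ (n - 3)) ∧
        x⁻¹ * z * x = y * z) ∨
    (p = 3 ∧ 2 ≤ n ∧ (⊤ : Subgroup G).lowerCentralSeries (n - 2) ≠ ⊥) := by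
  classical
  have hG : IsPGroup p G := IsPGroup.of_card hn
  by_cases hcyc : IsCyclic G
  · exact Or.inl (metaPow_of_isCyclic hG hcyc).1
  obtain ⟨E, hEn, hE, hEcard⟩ := H6.exists_normal_elementary_sq hp2 hG hcyc
  haveI := hEn
  have hEC : E ≤ centralizer (E : Set G) := le_centralizer_self_of_isMulCommutative hE.1
  have hallC : ∀ g ∈ centralizer (E : Set G), g ^ p = 1 → g ∈ E := by
    intro g hg hgp
    by_contra hgE
    have hsup : E ⊔ zpowers g ≤ centralizer ((E ⊔ zpowers g : Subgroup G) : Set G) := by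
      rw [sup_le_iff]
      have hgg : g ∈ centralizer ((E ⊔ zpowers g : Subgroup G) : Set G) := by
        rw [mem_centralizer_iff]
        intro a ha
        have : E ⊔ zpowers g ≤ centralizer ({g} : Set G) :=
          sup_le (fun e he => mem_centralizer_singleton_iff.2 (mem_centralizer_iff.1 hg e he))
            (zpowers_le.2 (mem_centralizer_singleton_iff.2 rfl))
        exact mem_centralizer_singleton_iff.1 (this ha)
      refine ⟨?_, zpowers_le.2 hgg⟩
      rw [le_centralizer_iff]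
      exact sup_le hEC (zpowers_le.2 hg)
    have hcomm : IsMulCommutative ↥(E ⊔ zpowers g) :=
      ⟨⟨fun a b => Subtype.ext (mem_centralizer_iff.1 (hsup b.2) a a.2)⟩⟩
    have hkill : ∀ a ∈ E ⊔ zpowers g, a ^ p = 1 := by
      intro a ha
      obtain ⟨e, he, i, rfl⟩ := (mem_sup_zpowers (by rw [normalizer_eq_top_iff.2 hEn]; trivial)).1 ha
      rw [(show Commute e (g ^ i) from (Commute.zpow_right (mem_centralizer_iff.1 hg e he) i)).mul_pow, hE.2 e he,
        one_mul, ← zpow_natCast, ← zpow_mul, mul_comm, zpow_mul, zpow_natCast, hgp, one_zpow]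
    have h1 := hrk _ hcomm hkill
    have h2 := card_mul_le_of_lt hG (left_lt_sup.2 (fun h => hgE (h (mem_zpowers g))) : E < E ⊔ zpowers g)
    rw [hEcard] at h2
    have h3 : 0 < p ^ 2 := pow_pos hp.out.pos 2
    have := hp.out.two_le
    nlinarith
  have d : OmData p E := ⟨hp2, hG, hEn, hEcard.le, hEC, hE.2, hallC⟩
  by_cases hall : ∀ g : G, g ^ p = 1 → g ∈ E
  · -- all elements of order `p` are in `E`
    by_cases ns : OmSplit p E
    · exact Or.inl (metaPow_of_split _ G le_rfl E d ns).1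
    by_cases hp3 : p = 3
    swap
    · refine Or.inl (H11.metacyclic_of_small_omega ?_ hG ?_)
      · have h2 := hp.out.two_le
        by_contra hlt
        interval_cases p <;> simp_all
      · refine le_trans (Subgroup.card_le_of_le ?_) hEcard.le
        rw [Cfsg.omegaOne, closure_le]
        exact fun g hg => hall g hg.2
    refine Or.inr (Or.inr (Or.inr ⟨hp3, ?_⟩))
    simp only [OmSplit, not_forall] at ns
    obtain ⟨x, hxE, hx⟩ := ns
    have hEc : ¬ E ≤ center G := fun h => hx (by rw [centralizer_eq_top_iff_subset.2 h]; trivial)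
    have hxp : x ^ p ∈ E ⊓ center G := ⟨hxE, d.fixed_mem hx hxE (Commute.self_pow x p)⟩
    have hxp1 : x ^ p ≠ 1 := fun h => hx (hEC (hall x h))
    refine d.maxClass hEcard hn hx fun c hc hcx => ?_
    by_contra hcE
    obtain ⟨k, hk, hk'⟩ := exists_last_pow hG (P := fun w => w ∉ E) (not_not.2 (one_mem _)) (x := c) hcE
    rw [not_not] at hk'
    set c' := c ^ p ^ k with hc'
    have hc'x : Commute c' x := hcx.pow_left _
    have h1 : c' ^ p ∈ E ⊓ center G := ⟨hk', d.fixed_mem hx hk' (hc'x.pow_left p).symm⟩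
    obtain ⟨i, hi⟩ := mem_zpowers_iff.1 (d.zpowers_eq_inf_center hEc hxp hxp1 ▸ h1)
    have h2 : (c' * (x ^ i)⁻¹) ^ p = 1 := by
      rw [((hc'x.zpow_right i).inv_right).mul_pow, ← hi, inv_pow, ← zpow_natCast, ← zpow_natCast, ← zpow_mul,
        ← zpow_mul, mul_comm, mul_inv_cancel]
    have h3 := hall _ h2
    have h4 : x ^ i ∈ centralizer (E : Set G) := by
      have := mul_mem (inv_mem (hEC h3)) (pow_mem hc (p ^ k))
      rw [← hc', _root_.mul_inv_rev, inv_inv, inv_mul_cancel_right] at this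
      exact this
    by_cases hpi : (p : ℤ) ∣ i
    · obtain ⟨l, rfl⟩ := hpi
      apply hk
      have := mul_mem h3 (zpow_mem hxE l : (x ^ p) ^ l ∈ E)
      rwa [zpow_mul, zpow_natCast, inv_mul_cancel_right] at this
    · exact hx (mem_of_pow_mem (hEC hxE) hpi h4)
  -- an element of order `p` outside `E`
  push Not at hall
  obtain ⟨x, hxp, hxE⟩ := hall
  have hx : x ∉ centralizer (E : Set G) := fun h => hxE (hallC x h hxp)
  have hEc : ¬ E ≤ center G := fun h => hx (by rw [centralizer_eq_top_iff_subset.2 h]; trivial)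
  set C := centralizer (E : Set G) with hC
  set f := QuotientGroup.mk' E with hf
  by_cases hcycQ : IsCyclic ↥(C.map f)
  · obtain ⟨q, hq⟩ := (C.map f).isCyclic_iff_exists_zpowers_eq_top.1 hcycQ
    have hqm : q ∈ C.map f := hq ▸ mem_zpowers q
    obtain ⟨c, hc, rfl⟩ := hqm
    rcases d.families hEcard hn hx hxp hc hq.ge with h | h
    · exact Or.inr (Or.inl h)
    · exact Or.inr (Or.inr (Or.inl h))
  haveI := d.cen_normal
  have hrel : p ^ 2 ≤ E.relIndex d.om2 := by
    have hle : d.om2.map f ≤ C.map f := Subgroup.map_mono fun a ha => ha.1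
    have hmap : E.relIndex d.om2 = Nat.card (d.om2.map f) := by rw [← relIndex_ker, QuotientGroup.ker_mk']
    rw [hmap]
    by_contra hlt
    apply hcycQ
    refine isCyclic_of_killed_le hp2 ((hG.to_quotient E).to_subgroup _) ((d.om2.map f).subgroupOf (C.map f)) ?_ ?_
    · rw [Nat.card_congr (subgroupOfEquivOfLe hle).toEquiv]
      obtain ⟨i, hi⟩ := IsPGroup.iff_card.1 ((hG.to_quotient E).to_subgroup (d.om2.map f))
      rw [hi] at hlt ⊢
      calc p ^ i ≤ p ^ 1 := Nat.pow_le_pow_right hp.out.pos (by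
            by_contra h
            exact hlt (Nat.pow_le_pow_right hp.out.pos (by omega)))
        _ = p := pow_one p
    · intro q hq
      obtain ⟨g, hg, hgq⟩ := q.2
      rw [mem_subgroupOf, ← hgq]
      refine mem_map_of_mem _ ⟨hg, ?_⟩
      have h1 : (q : G ⧸ E) ^ p = 1 := by rw [← SubgroupClass.coe_pow, hq]; rfl
      rw [← hgq, ← map_pow] at h1
      exact (QuotientGroup.eq_one_iff _).1 h1
  obtain ⟨y, hy, hyc⟩ : ∃ y ∈ E, y ∉ center G := SetLike.not_le_iff_exists.1 hEc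
  set z₀ := y⁻¹ * (x⁻¹ * y * x) with hz₀
  have hz₀Z := d.comm' hy x
  have hz₀1 : z₀ ≠ 1 := by
    intro h
    apply hyc
    refine d.fixed_mem hx hy ?_
    rw [hz₀, inv_mul_eq_one] at h
    rw [commute_iff_eq]
    calc x * y = x * (x⁻¹ * y * x) := by rw [← h]
      _ = y * x := by group
  obtain ⟨c, hc, hcy⟩ := d.exists_pow_eq hrel hy
  haveI := d.om2_normal
  have hτ : ∀ w ∈ d.om2, x⁻¹ * w * x ∈ d.om2 := fun w hw => by
    simpa using Normal.conj_mem inferInstance w hw x⁻¹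
  have hτpow : ∀ (w : G) (N : ℕ), x⁻¹ * w ^ N * x = (x⁻¹ * w * x) ^ N := fun w N => by
    simpa using (conj_pow (a := x⁻¹) (b := w) (i := N)).symm
  set g := c⁻¹ * (x⁻¹ * c * x) with hg
  have hgo : g ∈ d.om2 := mul_mem (inv_mem hc) (hτ c hc)
  have hgp : g ^ p = z₀ := by
    rw [hg, d.om2_mul_pow (inv_mem hc) (hτ c hc), inv_pow, ← hτpow, hcy]
  have hz₀x : x⁻¹ * z₀ * x = z₀ := by rw [mul_assoc, ← mem_center_iff.1 hz₀Z.2 x, inv_mul_cancel_left]
  set e₂ := g⁻¹ * (x⁻¹ * g * x) with he₂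
  have he₂E : e₂ ∈ E := by
    refine hallC _ (mul_mem (inv_mem hgo.1) (hτ g hgo).1) ?_
    rw [d.om2_mul_pow (inv_mem hgo) (hτ g hgo), inv_pow, ← hτpow, hgp, hz₀x, inv_mul_cancel]
  set z := e₂⁻¹ * (x⁻¹ * e₂ * x) with hz
  have hzZ := d.comm' he₂E x
  have hzx : x⁻¹ * z * x = z := by rw [mul_assoc, ← mem_center_iff.1 hzZ.2 x, inv_mul_cancel_left]
  have hge : Commute g e₂ := (mem_centralizer_iff.1 hgo.1 e₂ he₂E).symm
  have hez : Commute e₂ z := mem_center_iff.1 hzZ.2 e₂
  have hconjmul : ∀ a b : G, x⁻¹ * (a * b) * x = (x⁻¹ * a * x) * (x⁻¹ * b * x) := fun a b => by group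
  have hform : ∀ k : ℕ, (x ^ k)⁻¹ * c * x ^ k = c * g ^ k * e₂ ^ k.choose 2 * z ^ k.choose 3 := by
    intro k
    induction k with
    | zero => simp
    | succ k ih =>
      calc (x ^ (k + 1))⁻¹ * c * x ^ (k + 1) = x⁻¹ * ((x ^ k)⁻¹ * c * x ^ k) * x := by rw [pow_succ]; group
        _ = c * g * (g * e₂) ^ k * (e₂ * z) ^ k.choose 2 * z ^ k.choose 3 := by
          rw [ih, hconjmul, hconjmul, hconjmul, hτpow, hτpow, hτpow, hzx,
            show x⁻¹ * c * x = c * g by rw [hg, mul_inv_cancel_left],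
            show x⁻¹ * g * x = g * e₂ by rw [he₂, mul_inv_cancel_left],
            show x⁻¹ * e₂ * x = e₂ * z by rw [hz, mul_inv_cancel_left]]
        _ = c * (g * g ^ k) * (e₂ ^ k * e₂ ^ k.choose 2) * (z ^ k.choose 2 * z ^ k.choose 3) := by
          rw [hge.mul_pow, hez.mul_pow]; group
        _ = _ := by
          rw [← pow_succ', ← pow_add, ← pow_add]
          congr 2
          · rw [Nat.choose_succ_succ, Nat.choose_one_right]
  have hfin := hform p
  rw [hxp, inv_one, one_mul, mul_one, hgp, pow_choose_two_eq_one hp2 (d.killed _ he₂E), mul_one, mul_assoc,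
    eq_comm, mul_eq_left] at hfin
  have hp3 : p = 3 := by
    by_contra hne
    obtain ⟨q, hq⟩ : p ∣ p.choose 3 := hp.out.dvd_choose_self (by norm_num) (by
      have h2 := hp.out.two_le; omega)
    rw [hq, pow_mul, d.killed _ hzZ.1, one_pow, mul_one] at hfin
    exact hz₀1 hfin
  refine Or.inr (Or.inr (Or.inr ⟨hp3, ?_⟩))
  have he₂Z : e₂ ∉ center G := by
    intro h
    apply hz₀1
    have hz1 : z = 1 := by
      rw [hz, show x⁻¹ * e₂ * x = e₂ by rw [mul_assoc, ← mem_center_iff.1 h x, inv_mul_cancel_left],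
        inv_mul_cancel]
    rwa [hz1, one_pow, mul_one] at hfin
  refine d.maxClass hEcard hn hx fun w hw hwx => ?_
  by_contra hwE
  obtain ⟨k, hk, hk'⟩ := exists_last_pow hG (P := fun v => v ∉ E) (not_not.2 (one_mem _)) (x := w) hwE
  rw [not_not] at hk'
  set w' := w ^ p ^ k with hw'
  have hw'x : Commute w' x := hwx.pow_left _
  have hw'C : w' ∈ C := pow_mem hw _
  have h1 : w' ^ p ∈ E ⊓ center G := ⟨hk', d.fixed_mem hx hk' (hw'x.pow_left p).symm⟩
  obtain ⟨i, hi⟩ := mem_zpowers_iff.1 (d.zpowers_eq_inf_center hEc hz₀Z hz₀1 ▸ h1)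
  have he := d.inj (zpow_mem hgo.1 i) hw'C (by
    rw [← hi, ← zpow_natCast, ← zpow_mul, mul_comm, zpow_mul, zpow_natCast, hgp])
  set e := (g ^ i)⁻¹ * w' with hedef
  have hcomm' := d.comm' he x
  have hτg : x⁻¹ * g ^ i * x = g ^ i * e₂ ^ i := by
    rw [← hge.mul_zpow, he₂, mul_inv_cancel_left]
    simpa using (conj_zpow (a := x⁻¹) (b := g) (i := i)).symm
  have h3 : e = e₂ ^ i * (x⁻¹ * e * x) := by
    have h4 : x⁻¹ * w' * x = w' := by rw [mul_assoc, hw'x.eq, inv_mul_cancel_left]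
    rw [show w' = g ^ i * e by rw [hedef, mul_inv_cancel_left], hconjmul, hτg, mul_assoc] at h4
    exact (mul_left_cancel h4).symm
  have h5 : e₂ ^ i ∈ center G := by
    have h6 : e₂ ^ i = e * (e⁻¹ * (x⁻¹ * e * x))⁻¹ * e⁻¹ := by
      rw [eq_comm, ← mul_right_cancel_iff (a := x⁻¹ * e * x), ← h3]; group
    rw [h6, mem_center_iff.1 (inv_mem hcomm'.2) e, mul_inv_cancel_right]
    exact inv_mem hcomm'.2
  by_cases hpi : (p : ℤ) ∣ i
  · obtain ⟨l, rfl⟩ := hpi
    apply hk
    have h7 : g ^ ((p : ℤ) * l) ∈ E := by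
      rw [zpow_mul, zpow_natCast]; exact zpow_mem hgo.2 l
    have := mul_mem h7 he
    rwa [hedef, mul_inv_cancel_left] at this
  · exact he₂Z (mem_of_pow_mem (by rw [d.killed _ he₂E]; exact one_mem _) hpi h5)

end H30
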