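import Mathlib
import Cfsg.Agent.H30.Basic
import Cfsg.Agent.S3807

set_option autoImplicit false
set_option linter.all false

/-! Soft subgroups: abelian, self-centralizing, of index `p` in the normalizer. -/

open Subgroup

namespace H30

variable {G : Type*} [Group G] [Finite G] {p : ℕ} [hp : Fact p.Prime]

theorem card_normalizer_of_subgroupOf_index {E : Subgroup G}
    (h : (E.subgroupOf (normalizer (E : Set G))).index = p) :
    Nat.card (normalizer (E : Set G)) = p * Nat.card E := by
  have h1 := relIndex_mul_relIndex ⊥ E (normalizer (E : Set G)) bot_le le_normalizer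
  rw [relIndex_bot_left, relIndex_bot_left] at h1
  rw [← h1, mul_comm p]
  congr 1

/-- At most `p + 1` abelian subgroups of index `p` in a nonabelian `p`-group. -/
theorem card_abelian_index_le {Q : Type*} [Group Q] [Finite Q] (hQ : IsPGroup p Q) (hna : ¬ IsMulCommutative Q) :
    Nat.card {B : Subgroup Q // IsMulCommutative B ∧ B.index = p} ≤ p + 1 := by
  by_cases h : Nonempty {B : Subgroup Q // IsMulCommutative B ∧ B.index = p}
  · obtain ⟨A, hA, hAi⟩ := h
    rcases (Cfsg.Agent.S3807.result p hQ hna A hA hAi).2 with ⟨-, -, -, h4⟩ | ⟨-, h4⟩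
    · exact h4.le
    · haveI : Subsingleton {B : Subgroup Q // IsMulCommutative B ∧ B.index = p} :=
        ⟨fun B C => Subtype.ext ((h4 B.1 B.2.1 B.2.2).trans (h4 C.1 C.2.1 C.2.2).symm)⟩
      exact (Finite.card_le_one_iff_subsingleton.2 inferInstance).trans (Nat.le_add_left 1 p)
  · haveI : IsEmpty {B : Subgroup Q // IsMulCommutative B ∧ B.index = p} := not_nonempty_iff.1 h
    simp

/-- Overgroups of `E` are comparable, given the normalizer property for smaller ones. -/
theorem overgroups_comparable (hG : IsPGroup p G) {E K L : Subgroup G} (hK : E ≤ K) (hL : E ≤ L)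
    (step : ∀ I : Subgroup G, E ≤ I → I < K → I ≠ ⊤ → Nat.card (normalizer (I : Set G)) = p * Nat.card I) :
    K ≤ L ∨ L ≤ K := by
  by_contra hcon
  push Not at hcon
  obtain ⟨hKL, hLK⟩ := hcon
  have hIK : K ⊓ L < K := lt_of_le_of_ne inf_le_left fun h => hKL (inf_eq_left.1 h)
  have hIL : K ⊓ L < L := lt_of_le_of_ne inf_le_right fun h => hLK (inf_eq_right.1 h)
  have hN := step _ (le_inf hK hL) hIK (ne_top_of_lt hIK)
  have key : ∀ M : Subgroup G, K ⊓ L < M → normalizer ((K ⊓ L : Subgroup G) : Set G) ≤ M := by
    intro M hM
    obtain ⟨x, hxM, hxI, -, hxN⟩ := exists_step hG hM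
    have hlt : K ⊓ L < (K ⊓ L) ⊔ zpowers x := left_lt_sup.2 fun hle => hxI (hle (mem_zpowers x))
    have h2 := card_mul_le_of_lt hG hlt
    rw [← hN] at h2
    have h3 := Subgroup.eq_of_le_of_card_ge
      (sup_le le_normalizer (zpowers_le.2 hxN) : (K ⊓ L) ⊔ zpowers x ≤ normalizer ((K ⊓ L : Subgroup G) : Set G)) h2
    rw [← h3]
    exact sup_le hM.le (zpowers_le.2 hxM)
  have h4 := card_le_of_le (le_inf (key K hIK) (key L hIL))
  rw [hN] at h4
  have := hp.out.two_le
  have hpos : 0 < Nat.card ↥(K ⊓ L) := Nat.card_pos
  nlinarith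

variable {E : Subgroup G} (hEab : IsMulCommutative E) (hC : centralizer (E : Set G) ≤ E)
  (hN : Nat.card (normalizer (E : Set G)) = p * Nat.card E)

theorem derived_of_sup_le (E K : Subgroup G) [(K.lowerCentralSeries 2).Normal] (hE : IsMulCommutative E)
    (hEK : E ≤ K) :
    ⁅K.lowerCentralSeries 1 ⊔ E, K.lowerCentralSeries 1 ⊔ E⁆ ≤ K.lowerCentralSeries 2 := by
  set W := K.lowerCentralSeries 2
  have key : ∀ S : Subgroup G, S.map (QuotientGroup.mk' W) = ⊥ ↔ S ≤ W := fun S => by
    rw [Subgroup.map_eq_bot_iff, QuotientGroup.ker_mk']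
  rw [← key, map_commutator, Subgroup.map_sup, commutator_eq_bot_iff_le_centralizer]
  have h1 : ⁅(K.lowerCentralSeries 1).map (QuotientGroup.mk' W), K.map (QuotientGroup.mk' W)⁆ = ⊥ := by
    rw [← map_commutator, key]; exact le_of_eq (Subgroup.lowerCentralSeries_succ K 1).symm
  rw [commutator_eq_bot_iff_le_centralizer] at h1
  have hK1 : K.lowerCentralSeries 1 ≤ K := K.lowerCentralSeries_antitone (Nat.zero_le 1)
  refine sup_le ?_ ?_ <;> rw [le_centralizer_iff, sup_le_iff]
  · exact ⟨h1.trans (centralizer_le (SetLike.coe_subset_coe.2 (Subgroup.map_mono hK1))),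
      le_centralizer_iff.1 (h1.trans (centralizer_le (SetLike.coe_subset_coe.2 (Subgroup.map_mono hEK))))⟩
  · refine ⟨h1.trans (centralizer_le (SetLike.coe_subset_coe.2 (Subgroup.map_mono hEK))), ?_⟩
    exact le_centralizer_self_of_isMulCommutative (Subgroup.map_isMulCommutative E (QuotientGroup.mk' W))

include hEab hC hN in
theorem card_normalizer_overgroup (hG : IsPGroup p G) :
    ∀ K : Subgroup G, E ≤ K → K ≠ ⊤ → Nat.card (normalizer (K : Set G)) = p * Nat.card K := by
  intro K
  induction hn : Nat.card K using Nat.strong_induction_on generalizing K with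
  | _ n ih =>
    subst hn
    intro hEK hKtop
    rcases hEK.eq_or_lt with rfl | hlt
    · exact hN
    have step : ∀ I : Subgroup G, E ≤ I → Nat.card I < Nat.card K → Nat.card (normalizer (I : Set G)) = p * Nat.card I :=
      fun I hEI hI => ih _ hI I rfl hEI (fun h => by
        rw [h, card_top] at hI; exact absurd K.card_le_card_group (not_le.2 hI))
    have hcardlt : ∀ {I : Subgroup G}, I < K → Nat.card I < Nat.card K := fun {I} hI => by
      have h := card_mul_le_of_lt hG hI
      have := hp.out.two_le
      have hpos : 0 < Nat.card I := Nat.card_pos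
      nlinarith
    set A := K.lowerCentralSeries 1 ⊔ E with hAdef
    have hK1 : K.lowerCentralSeries 1 ≤ K := K.lowerCentralSeries_antitone (Nat.zero_le 1)
    have hAK : A ≤ K := sup_le hK1 hEK
    have hKA : K ≤ normalizer (A : Set G) := by
      intro k hk
      apply mem_normalizer_fintype
      intro a ha
      have h1 : k * a * k⁻¹ * a⁻¹ ∈ K.lowerCentralSeries 1 := by
        rw [Subgroup.lowerCentralSeries_succ, Subgroup.lowerCentralSeries_zero]
        exact commutator_mem_commutator hk (hAK ha)
      have h2 := mul_mem (mem_sup_left h1 : k * a * k⁻¹ * a⁻¹ ∈ A) ha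
      rwa [inv_mul_cancel_right] at h2
    have hAne : A < K := by
      obtain ⟨M, hM⟩ := (Set.toFinite {M : Subgroup G | E ≤ M ∧ M < K}).exists_maximal ⟨E, le_rfl, hlt⟩
      obtain ⟨hEM, hMK⟩ := hM.prop
      have hNM := step M hEM (hcardlt hMK)
      obtain ⟨x, hxK, hxM, -, hxN⟩ := exists_step hG hMK
      have hMx : M ⊔ zpowers x = K := by
        refine eq_of_le_of_not_lt (sup_le hMK.le (zpowers_le.2 hxK)) fun hlt' => ?_
        exact hxM (hM.2 ⟨hEM.trans le_sup_left, hlt'⟩ le_sup_left (mem_sup_right (mem_zpowers x)))
      have hKN : K ≤ normalizer (M : Set G) := hMx ▸ sup_le le_normalizer (zpowers_le.2 hxN)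
      have hcardK : Nat.card K = p * Nat.card M := by
        refine le_antisymm (hNM ▸ card_le_of_le hKN) (card_mul_le_of_lt hG hMK)
      refine lt_of_le_of_lt (sup_le ?_ hEM) hMK
      haveI : (M.subgroupOf K).Normal :=
        normal_subgroupOf_iff_le_normalizer_inf.2 (by rw [inf_eq_left.2 hMK.le]; exact hKN)
      have hidx : (M.subgroupOf K).index = p := by
        have h1 := relIndex_mul_relIndex ⊥ M K bot_le hMK.le
        rw [relIndex_bot_left, relIndex_bot_left, hcardK, mul_comm p] at h1
        exact Nat.eq_of_mul_eq_mul_left Nat.card_pos h1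
      haveI : Fact (Nat.card (K ⧸ M.subgroupOf K)).Prime := ⟨by rw [← Subgroup.index, hidx]; exact hp.out⟩
      haveI : IsCyclic (K ⧸ M.subgroupOf K) := isCyclic_of_prime_card (p := Nat.card (K ⧸ M.subgroupOf K)) rfl
      have hc : _root_.commutator K ≤ M.subgroupOf K :=
        Normal.quotient_commutative_iff_commutator_le.1 inferInstance
      rw [Subgroup.lowerCentralSeries_succ, Subgroup.lowerCentralSeries_zero]
      have h2 : (_root_.commutator K).map K.subtype = ⁅K, K⁆ := by
        rw [_root_.commutator_def, map_commutator, ← MonoidHom.range_eq_map, range_subtype]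
      rw [← h2]
      exact (map_mono hc).trans (by rw [subgroupOf_map_subtype]; exact inf_le_left)
    have hNA := step A le_sup_right (hcardlt hAne)
    have hcardK : Nat.card K = p * Nat.card A :=
      le_antisymm (hNA ▸ card_le_of_le hKA) (card_mul_le_of_lt hG hAne)
    have hNAK : normalizer (A : Set G) = K :=
      (Subgroup.eq_of_le_of_card_ge hKA (by rw [hNA, hcardK])).symm
    -- count the conjugates of `A` in the normalizer of `K`
    set N := normalizer (K : Set G) with hNdef
    set W := K.lowerCentralSeries 2 with hW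
    have hWK : W ≤ K := K.lowerCentralSeries_antitone (Nat.zero_le 2)
    have hWnorm : N ≤ normalizer (W : Set G) := by
      intro g hg
      rw [mem_normalizer_iff_map_conj_eq, hW, map_lowerCentralSeries, mem_normalizer_iff_map_conj_eq.1 hg]
    haveI hWn : (W.subgroupOf K).Normal :=
      normal_subgroupOf_iff_le_normalizer_inf.2 (by rw [inf_eq_left.2 hWK]; exact le_normalizer.trans hWnorm)
    have hna : ¬ IsMulCommutative (K ⧸ W.subgroupOf K) := by
      intro hc
      have h1 : _root_.commutator K ≤ W.subgroupOf K := Normal.quotient_commutative_iff_commutator_le.1 hc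
      have h2 := map_mono (f := K.subtype) h1
      rw [_root_.commutator_def, map_commutator, ← MonoidHom.range_eq_map, range_subtype, subgroupOf_map_subtype,
        inf_eq_left.2 hWK] at h2
      haveI := (hG.to_subgroup K).isNilpotent
      obtain ⟨c, hc'⟩ := (isNilpotent_iff_lowerCentralSeries K).1 inferInstance
      have hall : ∀ j, ⁅K, K⁆ ≤ K.lowerCentralSeries (j + 1) := by
        intro j
        induction j with
        | zero => exact le_rfl
        | succ j ihj =>
          calc ⁅K, K⁆ ≤ W := h2
            _ = ⁅⁅K, K⁆, K⁆ := rfl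
            _ ≤ _ := commutator_mono ihj le_rfl
      have hbot : ⁅K, K⁆ = ⊥ := le_bot_iff.1
        ((hall c).trans ((K.lowerCentralSeries_antitone (Nat.le_succ c)).trans_eq hc'))
      rw [commutator_eq_bot_iff_le_centralizer] at hbot
      exact hlt.not_ge ((hbot.trans (centralizer_le (SetLike.coe_subset_coe.2 hEK))).trans hC)
    set π := QuotientGroup.mk' (W.subgroupOf K)
    have hconjK : ∀ g : N, K.map (MulAut.conj (g : G)).toMonoidHom = K :=
      fun g => mem_normalizer_iff_map_conj_eq.1 g.2
    have hconjW : ∀ g : N, W.map (MulAut.conj (g : G)).toMonoidHom = W :=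
      fun g => mem_normalizer_iff_map_conj_eq.1 (hWnorm g.2)
    let F : N → {B : Subgroup (K ⧸ W.subgroupOf K) // IsMulCommutative B ∧ B.index = p} := fun g =>
      ⟨((A.map (MulAut.conj (g : G)).toMonoidHom).subgroupOf K).map π, by
        set B := A.map (MulAut.conj (g : G)).toMonoidHom
        have hBK : B ≤ K := (map_mono hAK).trans (hconjK g).le
        constructor
        · rw [← le_centralizer_iff_isMulCommutative, ← commutator_eq_bot_iff_le_centralizer, ← map_commutator,
            Subgroup.map_eq_bot_iff, QuotientGroup.ker_mk']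
          have h4 : ⁅B, B⁆ ≤ W := by
            rw [← hconjW g, ← map_commutator]
            refine map_mono ?_
            -- inside `K` the series term is normal
            have h5 : (⁅A.subgroupOf K, A.subgroupOf K⁆).map K.subtype ≤ W := by
              have e1 : (K.subgroupOf K).lowerCentralSeries 1 ⊔ E.subgroupOf K = A.subgroupOf K := by
                rw [hAdef, subgroupOf_sup hK1 hEK]
                congr 1
                apply map_injective K.subtype_injective
                rw [map_lowerCentralSeries, subgroupOf_map_subtype, subgroupOf_map_subtype, inf_idem,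
                  inf_eq_left.2 hK1]
              haveI : ((K.subgroupOf K).lowerCentralSeries 2).Normal := by
                rw [subgroupOf_self]; infer_instance
              have e2 := derived_of_sup_le (E.subgroupOf K) (K.subgroupOf K)
                (by haveI := hEab; exact inferInstance) (by rw [subgroupOf_self]; exact le_top)
              rw [e1] at e2
              refine (map_mono e2).trans ?_
              rw [map_lowerCentralSeries, subgroupOf_map_subtype, inf_idem]
            rwa [map_commutator, subgroupOf_map_subtype, inf_eq_left.2 hAK] at h5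
          rw [← map_subtype_le_map_subtype, map_commutator, subgroupOf_map_subtype, subgroupOf_map_subtype,
            inf_eq_left.2 hBK, inf_eq_left.2 hWK]
          exact h4
        · rw [index_map_eq _ (QuotientGroup.mk'_surjective _)]
          · show B.relIndex K = p
            have h1 := relIndex_mul_relIndex ⊥ B K bot_le hBK
            rw [relIndex_bot_left, relIndex_bot_left, card_map_of_injective (MulAut.conj (g : G)).injective,
              hcardK, mul_comm p] at h1
            exact Nat.eq_of_mul_eq_mul_left Nat.card_pos h1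
          · rw [QuotientGroup.ker_mk', ← map_subtype_le_map_subtype, subgroupOf_map_subtype, subgroupOf_map_subtype,
              inf_eq_left.2 hWK, inf_eq_left.2 hBK, ← hconjW g]
            refine map_mono ?_
            exact (K.lowerCentralSeries_antitone (Nat.le_succ 1)).trans le_sup_left⟩
    have hF : ∀ g h : N, F g = F h → g⁻¹ * h ∈ K.subgroupOf N := by
      intro g h he
      have hWA : W ≤ A := (K.lowerCentralSeries_antitone (Nat.le_succ 1)).trans le_sup_left
      have hback : ∀ x : N, (((A.map (MulAut.conj (x : G)).toMonoidHom).subgroupOf K).map π).comap π =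
          (A.map (MulAut.conj (x : G)).toMonoidHom).subgroupOf K := by
        intro x
        rw [comap_map_eq, QuotientGroup.ker_mk', sup_eq_left]
        intro w hw
        exact mem_subgroupOf.2 ((hconjW x ▸ map_mono hWA) (mem_subgroupOf.1 hw))
      have h1 := congrArg (fun S => (Subtype.val S).comap π) he
      simp only [F] at h1
      rw [hback, hback] at h1
      have h2 := congrArg (Subgroup.map K.subtype) h1
      rw [subgroupOf_map_subtype, subgroupOf_map_subtype, inf_eq_left.2 ((map_mono hAK).trans (hconjK g).le),
        inf_eq_left.2 ((map_mono hAK).trans (hconjK h).le)] at h2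
      rw [mem_subgroupOf, ← hNAK, mem_normalizer_iff_map_conj_eq]
      show A.map (MulAut.conj ((g : G)⁻¹ * h)).toMonoidHom = A
      rw [map_mul, show ((MulAut.conj (g : G)⁻¹) * MulAut.conj (h : G)).toMonoidHom =
        (MulAut.conj (g : G)⁻¹).toMonoidHom.comp (MulAut.conj (h : G)).toMonoidHom from rfl,
        ← Subgroup.map_map, ← h2, Subgroup.map_map]
      convert map_id A using 2
      ext x
      simp [mul_assoc]
    have hcount : (K.subgroupOf N).index ≤ p + 1 := by
      refine le_trans ?_ (card_abelian_index_le ((hG.to_subgroup K).to_quotient _) hna)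
      refine Nat.card_le_card_of_injective (fun q => F q.out) fun a b hab => ?_
      have := hF _ _ hab
      rw [← QuotientGroup.eq, QuotientGroup.out_eq', QuotientGroup.out_eq'] at this
      exact this
    obtain ⟨m, hm⟩ := (hG.to_subgroup N).index (K.subgroupOf N)
    rw [hm] at hcount
    have hm0 : m ≠ 0 := by
      rintro rfl
      rw [pow_zero, index_eq_one, subgroupOf_eq_top] at hm
      haveI := hG.isNilpotent
      exact hKtop ((normalizerCondition_iff_only_full_group_self_normalizing.1
        Group.normalizerCondition_of_isNilpotent) K (le_antisymm hm le_normalizer))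
    have hm1 : m ≤ 1 := by
      by_contra h2
      have h3 : p ^ 2 ≤ p ^ m := Nat.pow_le_pow_right hp.out.pos (by omega)
      have := hp.out.two_le
      nlinarith
    apply card_normalizer_of_subgroupOf_index
    rw [show m = 1 by omega, pow_one] at hm
    exact hm

include hEab hC hN in
theorem overgroups_chain (hG : IsPGroup p G) {K L : Subgroup G} (hK : E ≤ K) (hL : E ≤ L) : K ≤ L ∨ L ≤ K :=
  overgroups_comparable hG hK hL fun I hI _ hne => card_normalizer_overgroup hEab hC hN hG I hI hne

include hEab hC hN in
theorem class_overgroup (hG : IsPGroup p G) {K : Subgroup G} (hEK : E ≤ K) (hK : K ≠ ⊤) {i : ℕ}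
    (hi : Nat.card K = Nat.card E * p ^ i) :
    K.lowerCentralSeries (i + 1) = ⊥ ∧ K.lowerCentralSeries i ≠ ⊥ := by
  rcases hEK.eq_or_lt with rfl | hlt
  · have hi0 : i = 0 := by
      have h1 : Nat.card E * 1 = Nat.card E * p ^ i := by rw [mul_one]; exact hi
      exact (Nat.pow_eq_one.1 (Nat.eq_of_mul_eq_mul_left Nat.card_pos h1).symm).resolve_left hp.out.one_lt.ne'
    subst hi0
    refine ⟨?_, ?_⟩
    · rw [Subgroup.lowerCentralSeries_succ, Subgroup.lowerCentralSeries_zero, commutator_eq_bot_iff_le_centralizer]
      exact le_centralizer_self_of_isMulCommutative hEab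
    · rw [Subgroup.lowerCentralSeries_zero]
      intro h
      haveI : Subsingleton G := by
        subst h
        have : (⊤ : Subgroup G) ≤ ⊥ := le_trans (le_of_eq (centralizer_eq_top_iff_subset.2 (by simp)).symm) hC
        exact ⟨fun a b => (mem_bot.1 (this (mem_top a))).trans (mem_bot.1 (this (mem_top b))).symm⟩
      exact hK (Subsingleton.elim _ _)
  have step := card_normalizer_overgroup hEab hC hN hG
  -- an element moving `K`'s maximal overgroup of `E`
  have hNK := step K hEK hK
  obtain ⟨g, hgN, hgK⟩ : ∃ g, g ∈ normalizer (K : Set G) ∧ g ∉ K := by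
    by_contra hcon
    push Not at hcon
    have h1 := card_le_of_le (show normalizer (K : Set G) ≤ K from hcon)
    rw [hNK] at h1
    have := hp.out.two_le
    have hpos : 0 < Nat.card K := Nat.card_pos
    nlinarith
  set c := (MulAut.conj g).toMonoidHom with hc
  have hKc : K.map c = K := mem_normalizer_iff_map_conj_eq.1 hgN
  have hWc : ∀ t, (K.lowerCentralSeries t).map c = K.lowerCentralSeries t := fun t => by
    rw [map_lowerCentralSeries, hKc]
  have hgen : E ⊔ E.map c = K := by
    refine le_antisymm (sup_le hEK ((map_mono hEK).trans hKc.le)) ?_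
    by_contra hne
    set A := E ⊔ E.map c
    have hAK : A < K := lt_of_le_not_ge (sup_le hEK ((map_mono hEK).trans hKc.le)) hne
    obtain ⟨M, hM⟩ := (Set.toFinite {M : Subgroup G | A ≤ M ∧ M < K}).exists_maximal ⟨A, le_rfl, hAK⟩
    obtain ⟨hAM, hMK⟩ := hM.prop
    have hEM : E ≤ M := le_sup_left.trans hAM
    have h1 : M.map c = M := by
      have hstep' : ∀ I : Subgroup G, E.map c ≤ I → I < M.map c → I ≠ ⊤ →
          Nat.card (normalizer (I : Set G)) = p * Nat.card I := by
        intro I hI _ hIne
        obtain ⟨J, hEJ, rfl⟩ : ∃ J, E ≤ J ∧ J.map c = I :=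
          ⟨I.comap c, map_le_iff_le_comap.1 hI, map_comap_eq_self_of_surjective (MulAut.conj g).surjective I⟩
        have hJne : J ≠ ⊤ := fun h => hIne (by rw [h, map_top_of_surjective _ (MulAut.conj g).surjective])
        have h2 : (normalizer (J : Set G)).map c = normalizer ((J.map c : Subgroup G) : Set G) :=
          map_equiv_normalizer_eq J (MulAut.conj g)
        rw [← h2, card_map_of_injective (MulAut.conj g).injective, card_map_of_injective (MulAut.conj g).injective,
          step J hEJ hJne]
      rcases overgroups_comparable hG (E := E.map c) (K := M.map c) (L := M) (map_mono hEM)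
        (le_sup_right.trans hAM) hstep' with h | h
      · exact Subgroup.eq_of_le_of_card_ge h (by rw [card_map_of_injective (MulAut.conj g).injective])
      · exact (Subgroup.eq_of_le_of_card_ge h (by rw [card_map_of_injective (MulAut.conj g).injective])).symm
    have hgM : g ∈ normalizer (M : Set G) := mem_normalizer_iff_map_conj_eq.2 h1
    obtain ⟨x, hxK, hxM, -, hxN⟩ := exists_step hG hMK
    have hMx : M ⊔ zpowers x = K := by
      refine eq_of_le_of_not_lt (sup_le hMK.le (zpowers_le.2 hxK)) fun hlt' => ?_
      exact hxM (hM.2 ⟨hAM.trans le_sup_left, hlt'⟩ le_sup_left (mem_sup_right (mem_zpowers x)))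
    have hKN : K ≤ normalizer (M : Set G) := hMx ▸ sup_le le_normalizer (zpowers_le.2 hxN)
    have h2 : normalizer (M : Set G) = K := (Subgroup.eq_of_le_of_card_ge hKN (by
      rw [step M hEM (ne_top_of_lt hMK)]; exact card_mul_le_of_lt hG hMK)).symm
    exact hgK (h2 ▸ hgM)
  -- the chain
  haveI hKnil := (hG.to_subgroup K).isNilpotent
  obtain ⟨N, hN'⟩ := (isNilpotent_iff_lowerCentralSeries K).1 hKnil
  set T := fun t => K.lowerCentralSeries t ⊔ E with hT
  have hlK : ∀ t, K.lowerCentralSeries t ≤ K := fun t => K.lowerCentralSeries_antitone (Nat.zero_le t)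
  have hTK : ∀ t, T t ≤ K := fun t => sup_le (hlK t) hEK
  have hTn : ∀ t, T t ≤ normalizer (T (t + 1) : Set G) := by
    intro t
    refine sup_le (fun l hl => ?_) (le_sup_right.trans le_normalizer)
    apply mem_normalizer_fintype
    intro a ha
    have h1 : l * a * l⁻¹ * a⁻¹ ∈ K.lowerCentralSeries (t + 1) := commutator_mem_commutator hl (hTK _ ha)
    have h2 := mul_mem (mem_sup_left h1 : l * a * l⁻¹ * a⁻¹ ∈ T (t + 1)) ha
    rwa [inv_mul_cancel_right] at h2
  -- an equality in the chain forces the term into `E`
  have hstall : ∀ t, T t = T (t + 1) → K.lowerCentralSeries t ≤ E := by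
    intro t ht
    suffices h : ∀ s, K.lowerCentralSeries t ≤ K.lowerCentralSeries s ⊔ E by
      simpa [hN'] using h N
    intro s
    have hbase : K.lowerCentralSeries t ≤ K.lowerCentralSeries (t + 1) ⊔ E := le_sup_left.trans ht.le
    induction s with
    | zero => exact (hlK t).trans le_sup_left
    | succ s ihs =>
      refine hbase.trans (sup_le ?_ le_sup_right)
      refine le_trans ?_ le_sup_left
      haveI : ((K.lowerCentralSeries (s + 1)).subgroupOf K).Normal :=
        normal_subgroupOf_iff_le_normalizer_inf.2
          (by rw [inf_eq_left.2 (hlK _)]; exact K.self_le_normalizer_lowerCentralSeries _)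
      have hconj : K.lowerCentralSeries t ≤ K.lowerCentralSeries s ⊔ E.map c := by
        have := map_mono (f := c) ihs
        rwa [Subgroup.map_sup, hWc, hWc] at this
      set S := (K.lowerCentralSeries (s + 1)).subgroupOf K
      have key : ∀ X : Subgroup G, X ≤ K → ∀ Y : Subgroup G, Y ≤ K →
          ((⁅X.subgroupOf K, Y.subgroupOf K⁆).map (QuotientGroup.mk' S) = ⊥ ↔ ⁅X, Y⁆ ≤ K.lowerCentralSeries (s + 1)) := by
        intro X hX Y hY
        rw [Subgroup.map_eq_bot_iff, QuotientGroup.ker_mk', ← map_subtype_le_map_subtype, map_commutator,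
          subgroupOf_map_subtype, subgroupOf_map_subtype, subgroupOf_map_subtype, inf_eq_left.2 hX,
          inf_eq_left.2 hY, inf_eq_left.2 (hlK _)]
      have hls : ⁅K.lowerCentralSeries s, K⁆ ≤ K.lowerCentralSeries (s + 1) := le_rfl
      have hone : ∀ F : Subgroup G, F ≤ K → IsMulCommutative F →
          K.lowerCentralSeries t ≤ K.lowerCentralSeries s ⊔ F →
          ⁅K.lowerCentralSeries t, F⁆ ≤ K.lowerCentralSeries (s + 1) := by
        intro F hF hFc hle
        rw [← key _ (hlK t) _ hF, map_commutator, commutator_eq_bot_iff_le_centralizer]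
        have hle' : (K.lowerCentralSeries t).subgroupOf K ≤
            (K.lowerCentralSeries s).subgroupOf K ⊔ F.subgroupOf K := by
          rw [← subgroupOf_sup (hlK s) hF]
          exact fun x hx => mem_subgroupOf.2 (hle (mem_subgroupOf.1 hx))
        refine (map_mono hle').trans ?_
        rw [Subgroup.map_sup, sup_le_iff, ← commutator_eq_bot_iff_le_centralizer, ← map_commutator,
          key _ (hlK s) _ hF]
        refine ⟨(commutator_mono le_rfl hF).trans hls, ?_⟩
        exact le_centralizer_self_of_isMulCommutative (by haveI := hFc; exact Subgroup.map_isMulCommutative (F.subgroupOf K) (QuotientGroup.mk' S))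
      haveI := hEab
      have hEc : IsMulCommutative ↥(E.map c) := Subgroup.map_isMulCommutative E c
      have hA := hone E hEK hEab ihs
      have hB := hone (E.map c) ((map_mono hEK).trans hKc.le) hEc hconj
      rw [← key _ (hlK t) _ hEK, map_commutator, commutator_eq_bot_iff_le_centralizer, le_centralizer_iff] at hA
      rw [← key _ (hlK t) _ ((map_mono hEK).trans hKc.le), map_commutator, commutator_eq_bot_iff_le_centralizer,
        le_centralizer_iff] at hB
      show ⁅K.lowerCentralSeries t, K⁆ ≤ _
      rw [← key _ (hlK t) _ le_rfl, map_commutator, commutator_eq_bot_iff_le_centralizer, le_centralizer_iff]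
      have hKK : K.subgroupOf K = E.subgroupOf K ⊔ (E.map c).subgroupOf K := by
        rw [← subgroupOf_sup hEK ((map_mono hEK).trans hKc.le), hgen]
      rw [hKK, Subgroup.map_sup]
      exact sup_le hA hB
  -- each step below `K` is of index at most `p`
  have hTcard : ∀ t, Nat.card (T t) ≤ p * Nat.card (T (t + 1)) := fun t => by
    rw [← step (T (t + 1)) le_sup_right
      (fun h => hK (top_le_iff.1 (h.symm.le.trans (hTK _))))]
    exact card_le_of_le (hTn t)
  have hT0 : T 0 = K := by simp only [hT, Subgroup.lowerCentralSeries_zero]; exact sup_eq_left.2 hEK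
  have hlow : ∀ t, Nat.card K ≤ p ^ t * Nat.card (T t) := by
    intro t
    induction t with
    | zero => simp [hT0]
    | succ t iht =>
      calc Nat.card K ≤ p ^ t * Nat.card (T t) := iht
        _ ≤ p ^ t * (p * Nat.card (T (t + 1))) := Nat.mul_le_mul_left _ (hTcard t)
        _ = _ := by ring
  have hEpos : 0 < Nat.card E := Nat.card_pos
  have hupp : ∀ t, t ≤ i → Nat.card (T t) ≤ Nat.card E * p ^ (i - t) := by
    intro t
    induction t with
    | zero => intro _; rw [hT0, hi, Nat.sub_zero]
    | succ t iht =>
      intro ht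
      by_cases he : T t = T (t + 1)
      · have h1 : T (t + 1) = E := by rw [← he]; exact sup_eq_right.2 (hstall t he)
        rw [h1]
        exact Nat.le_mul_of_pos_right _ (pow_pos hp.out.pos _)
      · have hle : T (t + 1) ≤ T t := sup_le_sup_right (K.lowerCentralSeries_antitone (Nat.le_succ t)) E
        have h1 := card_mul_le_of_lt hG (lt_of_le_of_ne hle (Ne.symm he))
        have h2 := iht (by omega)
        rw [show i - t = i - (t + 1) + 1 by omega, pow_succ, ← mul_assoc, mul_comm _ p] at h2
        exact Nat.le_of_mul_le_mul_left (h1.trans h2) hp.out.pos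
  have hTi : K.lowerCentralSeries i ≤ E := by
    have h1 := hupp i le_rfl
    rw [Nat.sub_self, pow_zero, mul_one] at h1
    have h2 := Subgroup.eq_of_le_of_card_ge (le_sup_right : E ≤ T i) h1
    exact le_sup_left.trans h2.ge
  obtain ⟨j, rfl⟩ : ∃ j, i = j + 1 := by
    refine ⟨i - 1, ?_⟩
    have : i ≠ 0 := by
      rintro rfl
      rw [pow_zero, mul_one] at hi
      exact hlt.ne (Subgroup.eq_of_le_of_card_ge hEK hi.le)
    omega
  constructor
  · rw [Subgroup.lowerCentralSeries_succ, commutator_eq_bot_iff_le_centralizer]
    have h1 : K.lowerCentralSeries (j + 1) ≤ E.map c := by rw [← hWc (j + 1)]; exact map_mono hTi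
    rw [le_centralizer_iff]
    conv_lhs => rw [← hgen]
    refine sup_le ?_ ?_
    · exact (le_centralizer_self_of_isMulCommutative hEab).trans (centralizer_le (SetLike.coe_subset_coe.2 hTi))
    · haveI := hEab
      exact (le_centralizer_self_of_isMulCommutative (Subgroup.map_isMulCommutative E c)).trans
        (centralizer_le (SetLike.coe_subset_coe.2 h1))
  · intro hbot
    rw [Subgroup.lowerCentralSeries_succ, commutator_eq_bot_iff_le_centralizer] at hbot
    have h1 : K.lowerCentralSeries j ≤ E := (hbot.trans (centralizer_le (SetLike.coe_subset_coe.2 hEK))).trans hC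
    have h2 : T j = E := sup_eq_right.2 h1
    have h3 := hlow j
    rw [h2, hi, pow_succ, mul_comm (p ^ j) (Nat.card E)] at h3
    have h4 : p ^ j * p ≤ p ^ j * 1 := by rw [mul_one]; exact Nat.le_of_mul_le_mul_left h3 hEpos
    exact absurd (Nat.le_of_mul_le_mul_left h4 (pow_pos hp.out.pos j)) (not_le.2 hp.out.one_lt)

end H30
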