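import Mathlib
import Cfsg.Prelude.Def_Transfer
import Cfsg.Agent.H31.RankBound
import Cfsg.Agent.H31.Basic
import Cfsg.Agent.H6.Basic
import Cfsg.Agent.H30.Basic

set_option autoImplicit false
set_option linter.all false

/-! The squaring map of a group of class two and exponent four. -/

open Subgroup

namespace H30

variable {G : Type*} [Group G] [Finite G]

/-- If the squares of `H` lie in the central elementary group `S` and only `T` squares into `K`, then
`|H : T| ≤ |S : K| ^ 2`. -/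
theorem relIndex_le_square {T S K H : Subgroup G} (hTc : T ≤ center G) (hT2 : ∀ t ∈ T, t ^ 2 = 1)
    (hKS : K ≤ S) (hST : S ≤ T) (hTH : T ≤ H) (hsq : ∀ x ∈ H, x ^ 2 ∈ S)
    (hz : ∀ x ∈ H, x ^ 2 ∈ K → x ∈ T) : T.relIndex H ≤ K.relIndex S ^ 2 := by
  haveI hTn : (T.subgroupOf H).Normal := ⟨fun a ha g => by
    show (g : G) * (a : G) * (g : G)⁻¹ ∈ T
    rw [show (g : G) * (a : G) = (a : G) * g from mem_center_iff.1 (hTc ha) g, mul_inv_cancel_right]
    exact ha⟩
  letI : CommGroup S :=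
    { (inferInstance : Group S) with mul_comm := fun a b => Subtype.ext (mem_center_iff.1 (hTc (hST b.2)) a) }
  have hcS : ∀ x ∈ H, ∀ y ∈ H, x⁻¹ * y⁻¹ * x * y ∈ S := by
    intro x hx y hy
    have : x⁻¹ * y⁻¹ * x * y = x⁻¹ ^ 2 * (x * y⁻¹) ^ 2 * y ^ 2 := by simp only [pow_two]; group
    rw [this]
    exact mul_mem (mul_mem (hsq _ (inv_mem hx)) (hsq _ (mul_mem hx (inv_mem hy)))) (hsq _ hy)
  letI : CommGroup (H ⧸ T.subgroupOf H) :=
    { (inferInstance : Group (H ⧸ T.subgroupOf H)) with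
      mul_comm := by
        intro a b
        induction a using QuotientGroup.induction_on with | H a =>
        induction b using QuotientGroup.induction_on with | H b =>
        rw [← QuotientGroup.mk_mul, ← QuotientGroup.mk_mul, QuotientGroup.eq]
        show ((a : G) * b)⁻¹ * (b * a) ∈ T
        rw [show ((a : G) * b)⁻¹ * (b * a) = (b : G)⁻¹ * (a : G)⁻¹ * b * a by group]
        exact hST (hcS _ b.2 _ a.2) }
  set K' := K.subgroupOf S with hK'
  let sq : H → S ⧸ K' := fun x => QuotientGroup.mk ⟨(x : G) ^ 2, hsq x x.2⟩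
  have hq0 : ∀ c d : H, QuotientGroup.leftRel (T.subgroupOf H) c d → sq c = sq d := by
    intro c d h
    rw [QuotientGroup.leftRel_apply] at h
    have h1 : (c : G)⁻¹ * d ∈ T := h
    refine congrArg QuotientGroup.mk (Subtype.ext ?_)
    show (c : G) ^ 2 = (d : G) ^ 2
    conv_rhs => rw [← mul_inv_cancel_left (c : G) (d : G)]
    rw [(show Commute (c : G) ((c : G)⁻¹ * d) from mem_center_iff.1 (hTc h1) _).mul_pow, hT2 _ h1, mul_one]
  let q : H ⧸ T.subgroupOf H → S ⧸ K' := Quotient.lift sq hq0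
  let Bh : H → (H →* S ⧸ K') := fun e =>
    (QuotientGroup.mk' K').comp (MonoidHom.mk' (fun v : H => (⟨(e : G)⁻¹ * (v : G)⁻¹ * e * v, hcS _ e.2 _ v.2⟩ : S))
      (fun v w => Subtype.ext (by
        show (e : G)⁻¹ * ((v : G) * w)⁻¹ * e * ((v : G) * w) =
          ((e : G)⁻¹ * (v : G)⁻¹ * e * v) * ((e : G)⁻¹ * (w : G)⁻¹ * e * w)
        set c := (e : G)⁻¹ * (v : G)⁻¹ * e * v with hc
        calc (e : G)⁻¹ * ((v : G) * w)⁻¹ * e * ((v : G) * w)
            = (e : G)⁻¹ * (w : G)⁻¹ * e * (c * (w : G)) := by rw [hc]; group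
          _ = (e : G)⁻¹ * (w : G)⁻¹ * e * ((w : G) * c) := by
              rw [mem_center_iff.1 (hTc (hST (hcS _ e.2 _ v.2))) (w : G)]
          _ = ((e : G)⁻¹ * (w : G)⁻¹ * e * w) * c := by group
          _ = _ := mem_center_iff.1 (hTc (hST (hcS _ e.2 _ v.2))) _)))
  have hBker : ∀ e, T.subgroupOf H ≤ (Bh e).ker := by
    intro e a ha
    have : (⟨(e : G)⁻¹ * (a : G)⁻¹ * e * a, hcS _ e.2 _ a.2⟩ : S) = 1 := Subtype.ext (by
      show (e : G)⁻¹ * (a : G)⁻¹ * e * a = 1
      rw [mul_assoc _ (e : G) (a : G), show (e : G) * (a : G) = (a : G) * e from mem_center_iff.1 (hTc ha) (e : G)]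
      group)
    show QuotientGroup.mk' K' _ = 1
    exact (congrArg (QuotientGroup.mk' K') this).trans (map_one _)
  let B : H ⧸ T.subgroupOf H → (H ⧸ T.subgroupOf H →* S ⧸ K') := fun e =>
    QuotientGroup.lift _ (Bh e.out) (hBker _)
  obtain ⟨l, hl⟩ : ∃ l, Nat.card (S ⧸ K') = 2 ^ l := IsPGroup.iff_card.1
    (IsPGroup.to_quotient (fun s => ⟨1, Subtype.ext (by simpa using hT2 s (hST s.2))⟩) K')
  show Nat.card (H ⧸ T.subgroupOf H) ≤ Nat.card (S ⧸ K') ^ 2
  rw [hl, ← pow_mul, mul_comm l 2]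
  by_contra hcon
  obtain ⟨v, hv, hqv⟩ := H31.RankBound.exists_zero (fun v => by
      induction v using QuotientGroup.induction_on with | H c =>
      rw [← QuotientGroup.mk_pow, QuotientGroup.eq_one_iff]
      exact hST (hsq c c.2))
    (fun z => by
      induction z using QuotientGroup.induction_on with | H c =>
      rw [← QuotientGroup.mk_pow, show c ^ 2 = 1 from Subtype.ext (by simpa using hT2 c (hST c.2)),
        QuotientGroup.mk_one])
    q B (by
      intro e v
      induction v using QuotientGroup.induction_on with | H c =>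
      conv_lhs => rw [← QuotientGroup.out_eq' e]
      conv_rhs => arg 1; arg 2; rw [← QuotientGroup.out_eq' e]
      rw [← QuotientGroup.mk_mul]
      set d : H := e.out
      show sq (c * d) = sq c * sq d * Bh d c
      show QuotientGroup.mk _ = QuotientGroup.mk _ * QuotientGroup.mk _ * QuotientGroup.mk _
      rw [← QuotientGroup.mk_mul, ← QuotientGroup.mk_mul]
      refine congrArg QuotientGroup.mk (Subtype.ext ?_)
      show ((c : G) * d) ^ 2 = (c : G) ^ 2 * (d : G) ^ 2 * ((d : G)⁻¹ * (c : G)⁻¹ * d * c)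
      set k := (d : G)⁻¹ * (c : G)⁻¹ * d * c with hk
      calc ((c : G) * d) ^ 2 = (c : G) * c * ((d : G) * (k * d)) := by rw [hk, pow_two]; group
        _ = (c : G) * c * ((d : G) * ((d : G) * k)) := by rw [mem_center_iff.1 (hTc (hST (hcS _ d.2 _ c.2))) (d : G)]
        _ = _ := by rw [pow_two, pow_two]; simp only [mul_assoc])
    (by
      show sq 1 = 1
      refine Eq.trans (congrArg QuotientGroup.mk (Subtype.ext (show ((1 : H) : G) ^ 2 = ((1 : S) : G) by simp))) (QuotientGroup.mk_one K'))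
    hl.le (not_le.1 hcon)
  induction v using QuotientGroup.induction_on with | H c =>
  apply hv
  rw [QuotientGroup.eq_one_iff]
  exact hz c c.2 (mem_subgroupOf.1 ((QuotientGroup.eq_one_iff (⟨(c : G) ^ 2, hsq c c.2⟩ : S)).1 hqv))

/-- A subgroup maximal among those avoiding `z` and containing `N` has index at most two. -/
theorem exists_avoiding {N : Subgroup G} [N.Normal] (hq : ∀ x : G, x ^ 2 ∈ N) {z : G} (hz : z ∉ N) :
    ∃ M : Subgroup G, N ≤ M ∧ z ∉ M ∧ M.index ≤ 2 := by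
  obtain ⟨M, ⟨hNM, hzM⟩, hmax⟩ := (Set.toFinite {M : Subgroup G | N ≤ M ∧ z ∉ M}).exists_maximal ⟨N, le_rfl, hz⟩
  refine ⟨M, hNM, hzM, ?_⟩
  have hMn : M.Normal := ⟨fun m hm g => by
    have : g * m * g⁻¹ = (g * m) ^ 2 * (m⁻¹ * (g ^ 2)⁻¹ * m) * m⁻¹ * m⁻¹ * m := by simp only [pow_two]; group
    rw [show g * m * g⁻¹ = (g * m) ^ 2 * m⁻¹ * (g⁻¹) ^ 2 by simp only [pow_two]; group]
    exact mul_mem (mul_mem (hNM (hq _)) (inv_mem hm)) (hNM (hq _))⟩
  -- everything outside `M` lies in the coset of `z`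
  have hmem : ∀ b, b ∉ M → z⁻¹ * b ∈ M := by
    intro b hb
    have hzb : z ∈ M ⊔ zpowers b := by
      by_contra h
      exact hb ((hmax ⟨hNM.trans le_sup_left, h⟩ le_sup_left) (mem_sup_right (mem_zpowers b)))
    obtain ⟨m, hm, c, hc, rfl⟩ := mem_sup_of_normal_left.1 hzb
    obtain ⟨i, rfl⟩ := mem_zpowers_iff.1 hc
    rcases Int.even_or_odd' i with ⟨j, rfl | rfl⟩
    · exfalso
      refine hzM (mul_mem hm ?_)
      rw [zpow_mul, zpow_ofNat]
      exact zpow_mem (hNM (hq b)) j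
    · have h2 : b ^ (2 * j) ∈ M := by rw [zpow_mul, zpow_ofNat]; exact zpow_mem (hNM (hq b)) j
      rw [zpow_add, zpow_one, mul_inv_rev, mul_inv_rev, mul_assoc, mul_assoc]
      have : b⁻¹ * ((b ^ (2 * j))⁻¹ * (m⁻¹ * b)) = b⁻¹ * ((b ^ (2 * j))⁻¹ * m⁻¹) * b⁻¹⁻¹ := by group
      rw [this]
      exact hMn.conj_mem _ (mul_mem (inv_mem h2) (inv_mem hm)) b⁻¹
  rw [index]
  refine le_trans (Nat.card_le_card_of_surjective
    (fun b : Fin 2 => (QuotientGroup.mk (z ^ (b : ℕ)) : G ⧸ M)) ?_) (by simp)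
  intro q
  induction q using QuotientGroup.induction_on with | H b =>
  by_cases hb : b ∈ M
  · exact ⟨0, QuotientGroup.eq.2 (by simpa using hb)⟩
  · exact ⟨1, QuotientGroup.eq.2 (by simpa using hmem b hb)⟩

/-- The bound `|G| ≤ |N| ^ 3`, with equality only for special groups. -/
theorem card_le_cube (hG : IsPGroup 2 G) (hcl : ∀ x y : G, x⁻¹ * y⁻¹ * x * y ∈ center G)
    (hexp : ∀ x : G, x ^ 4 = 1) (N : Subgroup G) (hN : ∀ x, x ∈ N ↔ x ^ 2 = 1) :
    Nat.card G ≤ Nat.card N ^ 3 ∧ (¬ Cfsg.IsSpecial 2 G → Nat.card G < Nat.card N ^ 3) := by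
  have hsqN : ∀ x : G, x ^ 2 ∈ N := fun x => (hN _).2 (by rw [← pow_mul]; exact hexp x)
  have hcN : ∀ x y : G, x⁻¹ * y⁻¹ * x * y ∈ N := fun x y => by
    have : x⁻¹ * y⁻¹ * x * y = x⁻¹ ^ 2 * (x * y⁻¹) ^ 2 * y ^ 2 := by simp only [pow_two]; group
    rw [this]
    exact mul_mem (mul_mem (hsqN _) (hsqN _)) (hsqN _)
  have hNn : N.Normal := ⟨fun a ha g => (hN _).2 (by rw [conj_pow, (hN a).1 ha, mul_one, mul_inv_cancel])⟩
  -- squares are central
  have hsqZ : ∀ x : G, x ^ 2 ∈ center G := by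
    intro x
    rw [mem_center_iff]
    intro y
    obtain ⟨c, hc'⟩ : ∃ c, c = x⁻¹ * y⁻¹ * x * y := ⟨_, rfl⟩
    have h2 : c * c = 1 := by rw [hc', ← pow_two]; exact (hN _).1 (hcN x y)
    have hxy : x * y = y * x * c := by rw [hc']; group
    have hcc : ∀ g, g * c = c * g := fun g => mem_center_iff.1 (hc' ▸ hcl x y) g
    calc y * x ^ 2 = y * x * x * (c * c) := by rw [h2, mul_one, pow_two, mul_assoc]
      _ = y * x * c * x * c := by rw [mul_assoc (y * x) c x, ← hcc x]; simp only [mul_assoc]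
      _ = x * y * x * c := by rw [hxy]
      _ = x * (y * x * c) := by group
      _ = x * (x * y) := by rw [hxy]
      _ = x ^ 2 * y := by rw [pow_two, mul_assoc]
  set T := N ⊓ center G with hTdef
  have hT2 : ∀ t ∈ T, t ^ 2 = 1 := fun t ht => (hN t).1 ht.1
  have hsqT : ∀ x : G, x ^ 2 ∈ T := fun x => ⟨hsqN x, hsqZ x⟩
  -- a complement of `N` over `T`
  obtain ⟨H, ⟨hTH, hHN⟩, hmax⟩ := (Set.toFinite {H : Subgroup G | T ≤ H ∧ N ⊓ H ≤ T}).exists_maximal
    ⟨T, le_rfl, inf_le_right⟩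
  have hHn : H.Normal := ⟨fun m hm g => by
    rw [show g * m * g⁻¹ = (g * m) ^ 2 * m⁻¹ * (g⁻¹) ^ 2 by simp only [pow_two]; group]
    exact mul_mem (mul_mem (hTH (hsqT _)) (inv_mem hm)) (hTH (hsqT _))⟩
  have htop : H ⊔ N = ⊤ := by
    rw [eq_top_iff]
    intro x _
    by_contra hx
    have hxH : x ∉ H := fun h => hx (mem_sup_left h)
    refine hxH ((hmax ⟨hTH.trans le_sup_left, ?_⟩ le_sup_left) (mem_sup_right (mem_zpowers x)))
    rintro y ⟨hyN, hy⟩
    obtain ⟨h, hh, c, hc, rfl⟩ := mem_sup_of_normal_left.1 hy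
    obtain ⟨i, rfl⟩ := mem_zpowers_iff.1 hc
    have h2 : ∀ j : ℤ, x ^ (2 * j) ∈ H := fun j => by
      rw [zpow_mul, zpow_ofNat]; exact zpow_mem (hTH (hsqT x)) j
    rcases Int.even_or_odd' i with ⟨j, rfl | rfl⟩
    · exact hHN ⟨hyN, mul_mem hh (h2 j)⟩
    · exfalso
      apply hx
      have : x = (h * x ^ (2 * j))⁻¹ * (h * x ^ (2 * j + 1)) := by rw [zpow_add, zpow_one]; group
      rw [this]
      exact mul_mem (mem_sup_left (inv_mem (mul_mem hh (h2 j)))) (mem_sup_right hyN)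
  have hzero : ∀ x ∈ H, x ^ 2 ∈ (⊥ : Subgroup G) → x ∈ T := fun x hx h =>
    hHN ⟨(hN x).2 (mem_bot.1 h), hx⟩
  have hindex : N.index = T.relIndex H := by
    have hNH : N ⊓ H = T := le_antisymm hHN (le_inf inf_le_left hTH)
    rw [← hNH, inf_relIndex_right]
    haveI := hNn
    rw [← relIndex_top_right, ← htop, relIndex_sup_right]
  have hbound : N.index ≤ Nat.card T ^ 2 := by
    rw [hindex]
    have := relIndex_le_square (T := T) (S := T) (K := ⊥) (H := H) inf_le_right hT2 bot_le le_rfl hTH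
      (fun x _ => hsqT x) hzero
    rwa [relIndex_bot_left] at this
  have hcard : Nat.card G = Nat.card N * N.index := (card_mul_index N).symm
  have hTN : Nat.card T ≤ Nat.card N := Nat.card_le_card_of_injective (inclusion inf_le_left) (inclusion_injective _)
  have hNpos : 0 < Nat.card N := Nat.card_pos
  refine ⟨?_, fun hsp => ?_⟩
  · rw [hcard, show Nat.card N ^ 3 = Nat.card N * Nat.card N ^ 2 by ring]
    exact Nat.mul_le_mul_left _ (hbound.trans (Nat.pow_le_pow_left hTN 2))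
  by_cases hTeq : T = N
  swap
  · have hlt : Nat.card T < Nat.card N := lt_of_le_of_ne hTN fun h =>
      hTeq (Subgroup.eq_of_le_of_card_ge inf_le_left h.ge)
    rw [hcard, show Nat.card N ^ 3 = Nat.card N * Nat.card N ^ 2 by ring]
    exact Nat.mul_lt_mul_of_pos_left (lt_of_le_of_lt hbound (Nat.pow_lt_pow_left hlt (by norm_num))) hNpos
  have hNZ : N ≤ center G := hTeq ▸ inf_le_right
  have hN2 : ∀ t ∈ N, t ^ 2 = 1 := fun t ht => (hN t).1 ht
  by_cases hZ : center G ≤ N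
  swap
  · -- a central element of order four
    obtain ⟨z, hzZ, hzN⟩ := SetLike.not_le_iff_exists.1 hZ
    haveI := hNn
    obtain ⟨M, hNM, hzM, hM2⟩ := exists_avoiding hsqN hzN
    have hz2 : z ^ 2 ≠ 1 := fun h => hzN ((hN z).2 h)
    have hK : zpowers (z ^ 2) ≤ N := zpowers_le.2 (hsqN z)
    have hb := relIndex_le_square (T := N) (S := N) (K := zpowers (z ^ 2)) (H := M) hNZ hN2 hK le_rfl hNM
      (fun x _ => hsqN x) (fun x hx hxK => by
        obtain ⟨i, hi⟩ := mem_zpowers_iff.1 hxK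
        have hz4 : (z ^ 2) ^ 2 = 1 := hN2 _ (hsqN z)
        rcases Int.even_or_odd' i with ⟨j, rfl | rfl⟩
        · rw [zpow_mul, zpow_ofNat, hz4, one_zpow] at hi
          exact (hN x).2 hi.symm
        · rw [zpow_add, zpow_mul, zpow_ofNat, hz4, one_zpow, one_mul, zpow_one] at hi
          exfalso
          apply hzM
          have hcomm : Commute x z⁻¹ := (mem_center_iff.1 (inv_mem hzZ) x)
          have : x * z⁻¹ ∈ N := (hN _).2 (by rw [hcomm.mul_pow, ← hi, inv_pow, mul_inv_cancel])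
          have := mul_mem (inv_mem hx) (hNM this)
          rw [inv_mul_cancel_left] at this
          exact inv_mem_iff.1 this)
    have hk2 : 2 * (zpowers (z ^ 2)).relIndex N = Nat.card N := by
      have h1 := relIndex_mul_relIndex ⊥ (zpowers (z ^ 2)) N bot_le hK
      rw [relIndex_bot_left, relIndex_bot_left, Nat.card_zpowers,
        orderOf_eq_prime (p := 2) (hN2 _ (hsqN z)) hz2] at h1
      exact h1
    have hMi := relIndex_mul_index hNM
    have h3 : N.index ≤ (zpowers (z ^ 2)).relIndex N ^ 2 * 2 := by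
      rw [← hMi]; exact Nat.mul_le_mul hb hM2
    rw [hcard, show Nat.card N ^ 3 = Nat.card N * Nat.card N ^ 2 by ring]
    refine Nat.mul_lt_mul_of_pos_left ?_ hNpos
    have hrpos : 0 < (zpowers (z ^ 2)).relIndex N := by omega
    nlinarith
  have hZN : center G = N := le_antisymm hZ hNZ
  have hGN : _root_.commutator G ≤ N := by
    rw [_root_.commutator_def, commutator_le]
    intro x _ y _
    have := hcN x⁻¹ y⁻¹
    rwa [inv_inv, inv_inv, ← commutatorElement_def] at this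
  have hne : ¬ N ≤ _root_.commutator G := by
    intro h
    have hGc : _root_.commutator G = center G := le_antisymm (hGN.trans hNZ) (hZN.le.trans h)
    haveI : Fact (Nat.Prime 2) := ⟨Nat.prime_two⟩
    refine hsp ⟨hG, ?_, hGc⟩
    rw [hZN]
    exact le_antisymm (H31.frattini_le_of_pow_mem Nat.prime_two N hGN hsqN)
      (h.trans (H6.commutator_le_frattini hG))
  obtain ⟨t0, ht0, ht0'⟩ := SetLike.not_le_iff_exists.1 hne
  obtain ⟨S, ⟨hGS, hSN, ht0S⟩, hSmax⟩ := (Set.toFinite {S : Subgroup G | _root_.commutator G ≤ S ∧ S ≤ N ∧ t0 ∉ S}).exists_maximal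
    ⟨_root_.commutator G, le_rfl, hGN, ht0'⟩
  have hcS : ∀ x y : G, x⁻¹ * y⁻¹ * x * y ∈ S := fun x y => by
    refine hGS ?_
    rw [_root_.commutator_def]
    have := commutator_mem_commutator (H₁ := ⊤) (H₂ := ⊤) (mem_top x⁻¹) (mem_top y⁻¹)
    rwa [commutatorElement_def, inv_inv, inv_inv] at this
  have hco : ∀ a ∈ N, a ∉ S → t0⁻¹ * a ∈ S := by
    intro a ha haS
    have h : t0 ∈ S ⊔ zpowers a := by
      by_contra h
      exact haS ((hSmax ⟨hGS.trans le_sup_left, sup_le hSN (zpowers_le.2 ha), h⟩ le_sup_left) (mem_sup_right (mem_zpowers a)))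
    haveI : S.Normal := ⟨fun s hs g => by rw [mem_center_iff.1 (hNZ (hSN hs)) g, mul_inv_cancel_right]; exact hs⟩
    obtain ⟨s, hs, c, hc, rfl⟩ := mem_sup_of_normal_left.1 h
    obtain ⟨i, rfl⟩ := mem_zpowers_iff.1 hc
    rcases Int.even_or_odd' i with ⟨j, rfl | rfl⟩
    · exfalso
      apply ht0S
      rw [zpow_mul, zpow_ofNat, hN2 a ha, one_zpow, mul_one]; exact hs
    · rw [zpow_add, zpow_mul, zpow_ofNat, hN2 a ha, one_zpow, one_mul, zpow_one, mul_inv_rev,
        mul_assoc, ← mem_center_iff.1 (inv_mem (hNZ (hSN hs))) a, inv_mul_cancel_left]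
      exact inv_mem hs
  have hS2 : 2 * Nat.card S ≤ Nat.card N := by
    haveI : Fact (Nat.Prime 2) := ⟨Nat.prime_two⟩
    exact card_mul_le_of_lt hG (lt_of_le_of_ne hSN fun h => ht0S (h ▸ ht0))
  let M : Subgroup G :=
    { carrier := {x | x ^ 2 ∈ S}
      one_mem' := by simp
      mul_mem' := fun {x y} (hx : x ^ 2 ∈ S) (hy : y ^ 2 ∈ S) => by
        show (x * y) ^ 2 ∈ S
        have : (x * y) ^ 2 = x ^ 2 * (x⁻¹ * y * x * y⁻¹) * y ^ 2 := by simp only [pow_two]; group
        rw [this]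
        have h' := hcS x y⁻¹
        rw [inv_inv] at h'
        exact mul_mem (mul_mem hx h') hy
      inv_mem' := fun {x} (hx : x ^ 2 ∈ S) => by show x⁻¹ ^ 2 ∈ S; rw [inv_pow]; exact inv_mem hx }
  have hNM : N ≤ M := fun x hx => by show x ^ 2 ∈ S; rw [hN2 x hx]; exact one_mem _
  have hb := relIndex_le_square (T := N) (S := S) (K := ⊥) (H := M) hNZ hN2 bot_le hSN hNM
    (fun x hx => hx) (fun x _ h => (hN x).2 (mem_bot.1 h))
  rw [relIndex_bot_left] at hb
  have hM2 : M.index ≤ 2 := by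
    by_cases hall : ∀ g, g ∈ M
    · rw [(eq_top_iff.2 fun g _ => hall g : M = ⊤), index_top]; norm_num
    push Not at hall
    obtain ⟨g, hg⟩ := hall
    rw [index]
    refine le_trans (Nat.card_le_card_of_surjective
      (fun b : Fin 2 => (QuotientGroup.mk (g ^ (b : ℕ)) : G ⧸ M)) ?_) (by simp)
    intro q
    induction q using QuotientGroup.induction_on with | H b =>
    by_cases hb' : b ∈ M
    · exact ⟨0, QuotientGroup.eq.2 (by simpa using hb')⟩
    · refine ⟨1, QuotientGroup.eq.2 ?_⟩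
      show (g ^ (1 : ℕ))⁻¹ * b ∈ M
      rw [pow_one]
      show (g⁻¹ * b) ^ 2 ∈ S
      have h' := hcS g⁻¹ b⁻¹
      rw [inv_inv, inv_inv] at h'
      have h'' : g⁻¹ ^ 2 * b ^ 2 ∈ S := by
        have := mul_mem (inv_mem (hco _ (hsqN g) hg)) (hco _ (hsqN b) hb')
        rwa [mul_inv_rev, inv_inv, mul_assoc, mul_inv_cancel_left, ← inv_pow] at this
      have : (g⁻¹ * b) ^ 2 = g⁻¹ ^ 2 * ((g * b * g⁻¹ * b⁻¹) * b ^ 2) := by simp only [pow_two]; group
      rw [this, ← mem_center_iff.1 (hNZ (hSN h')) (b ^ 2), ← mul_assoc]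
      exact mul_mem h'' h'
  have hMi := relIndex_mul_index hNM
  have h3 : N.index ≤ Nat.card S ^ 2 * 2 := by rw [← hMi]; exact Nat.mul_le_mul hb hM2
  rw [hcard, show Nat.card N ^ 3 = Nat.card N * Nat.card N ^ 2 by ring]
  refine Nat.mul_lt_mul_of_pos_left ?_ hNpos
  have hspos : 0 < Nat.card S := Nat.card_pos
  nlinarith

end H30
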