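import Cfsg.Agent.H30.SquarefreeClassBasic
import Cfsg.Agent.H1.Fitting
import Cfsg.Agent.H3.SsTower

/-! Structure of solvable groups with square-free class sizes. -/

set_option autoImplicit false
set_option linter.all false

namespace H30.SqClass

open Subgroup
open scoped commutatorElement

universe u

variable {G : Type u} [Group G]

/-- The case of a normal Sylow subgroup with abelian faithful coprime complement. -/
theorem card_comm_dvd_of_semidirect [Finite G] (h : Sq G) {p : ℕ} (hp : p.Prime)
    (P H : Subgroup G) [P.Normal] (hP : IsPGroup p P) (hcop : (Nat.card H).Coprime (Nat.card P))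
    (hsup : P ⊔ H = ⊤) (hH : ∀ a ∈ H, ∀ b ∈ H, a * b = b * a)
    (hfaith : ∀ h ∈ H, h ∈ centralizer (P : Set G) → h = 1) :
    Nat.card (commutator G) ∣ p := by
  haveI := Fact.mk hp
  have hclass : ∀ x : G, (centralizer ({x} : Set G)).relIndex P ∣ p := fun x =>
    relIndex_dvd_prime h hp P hP x
  by_cases hH1 : H = ⊥
  · rw [hH1, sup_bot_eq] at hsup
    subst hsup
    have hG : IsPGroup p G := hP.of_equiv topEquiv
    refine card_commutator_dvd hp hG fun x => ?_
    have := hclass x
    rwa [relIndex_top_right] at this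
  -- the map `y ↦ [y, h]`
  set C : G → Subgroup G := fun h => P ⊓ centralizer ({h} : Set G) with hCdef
  have hCrel : ∀ k ∈ H, k ≠ 1 → (C k).relIndex P = p := by
    intro k hk hk1
    have h1 : (C k).relIndex P = (centralizer ({k} : Set G)).relIndex P := by
      rw [hCdef]; exact inf_relIndex_left _ _
    rcases (Nat.dvd_prime hp).1 (hclass k) with h2 | h2
    · exfalso
      rw [relIndex_eq_one] at h2
      exact hk1 (hfaith k hk (mem_centralizer_iff.2 fun y hy => mem_cent.1 (h2 hy)))
    · rw [h1, h2]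
  -- some commutator lies outside the fixed points
  have hout : ∀ k ∈ H, k ≠ 1 → ∃ y ∈ P, y⁻¹ * (k * y * k⁻¹) ∉ C k := by
    intro k hk hk1
    by_contra hcon
    push Not at hcon
    apply hk1 (hfaith k hk (mem_centralizer_iff.2 fun y hy => ?_))
    set d := y⁻¹ * (k * y * k⁻¹) with hd
    obtain ⟨hdP, hdk⟩ := mem_inf.1 (hcon y hy)
    have hdk' : d * k = k * d := mem_cent.1 hdk
    have hn : ∀ n : ℕ, k ^ n * y * (k ^ n)⁻¹ = y * d ^ n := by
      intro n
      induction n with
      | zero => simp
      | succ n ihn =>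
        have hky : k * y * k⁻¹ = y * d := by rw [hd]; group
        have hkd : k * d ^ n * k⁻¹ = d ^ n := by
          rw [((Commute.pow_left (hdk' : Commute d k) n).symm).eq, mul_inv_cancel_right]
        calc k ^ (n + 1) * y * (k ^ (n + 1))⁻¹ = k * (k ^ n * y * (k ^ n)⁻¹) * k⁻¹ := by
              rw [pow_succ']; group
          _ = (k * y * k⁻¹) * (k * d ^ n * k⁻¹) := by rw [ihn]; group
          _ = y * d ^ (n + 1) := by rw [hky, hkd, pow_succ', mul_assoc]
    have h1 := hn (orderOf k)
    rw [pow_orderOf_eq_one, one_mul, inv_one, mul_one, left_eq_mul] at h1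
    have h2 : orderOf d ∣ Nat.card H := (orderOf_dvd_of_pow_eq_one h1).trans
      (by rw [← orderOf_mk k hk]; exact orderOf_dvd_natCard _)
    have h3 : orderOf d ∣ Nat.card P := by rw [← orderOf_mk d hdP]; exact orderOf_dvd_natCard _
    have h4 : d = 1 := orderOf_eq_one_iff.1 (Nat.eq_one_of_dvd_coprimes hcop h2 h3)
    have h5 : k * y * k⁻¹ = y := by
      have : y⁻¹ * (k * y * k⁻¹) = 1 := hd ▸ h4
      exact (inv_mul_eq_one.1 this).symm
    calc y * k = k * y * k⁻¹ * k := by rw [h5]
      _ = k * y := by group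
  -- `P` is abelian
  obtain ⟨h0, hh0, hh01⟩ : ∃ k ∈ H, k ≠ 1 := by
    by_contra hcon
    push Not at hcon
    exact hH1 (eq_bot_iff.2 fun k hk => mem_bot.2 (hcon k hk))
  have hPn : P.Normal := inferInstance
  have hPab : ∀ a ∈ P, ∀ b ∈ P, a * b = b * a := by
    obtain ⟨y, hy, hdC⟩ := hout h0 hh0 hh01
    set d := y⁻¹ * (h0 * y * h0⁻¹) with hd
    have hdP : d ∈ P := mul_mem (inv_mem hy) (hPn.conj_mem y hy h0)
    set K := C h0 with hK
    have hKP : K ≤ P := inf_le_left
    -- `K` is normalised by `y`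
    have hidx : (K.subgroupOf P).index = p := hCrel h0 hh0 hh01
    have hk0 : ∃ a : ℕ, a ≠ 0 ∧ Nat.card P = p ^ a := by
      obtain ⟨a, ha⟩ := IsPGroup.iff_card.1 hP
      refine ⟨a, fun h0' => ?_, ha⟩
      have := hidx ▸ index_dvd_card (K.subgroupOf P)
      rw [ha, h0', pow_zero, Nat.dvd_one] at this
      exact hp.ne_one this
    obtain ⟨a, ha0, ha⟩ := hk0
    have hKn : (K.subgroupOf P).Normal := by
      apply normal_of_index_eq_minFac_card
      rw [hidx, ha, Nat.pow_minFac ha0, hp.minFac_eq]
    have hdc : ∀ c ∈ K, d * c = c * d := by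
      intro c hc
      have hyc : y * c * y⁻¹ ∈ K := hKn.conj_mem ⟨c, hKP hc⟩ hc ⟨y, hy⟩
      have e1 : c * h0 = h0 * c := mem_cent.1 (mem_inf.1 hc).2
      have e2 : y * c * y⁻¹ * h0 = h0 * (y * c * y⁻¹) := mem_cent.1 (mem_inf.1 hyc).2
      have e3 : h0 * (y * c * y⁻¹) * h0⁻¹ = y * c * y⁻¹ := by rw [← e2, mul_inv_cancel_right]
      have e4 : h0⁻¹ * c * h0 = c := by rw [mul_assoc, e1, inv_mul_cancel_left]
      calc d * c = y⁻¹ * (h0 * (y * (h0⁻¹ * c * h0) * y⁻¹) * h0⁻¹) * (h0 * y * h0⁻¹) := by
            rw [hd]; group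
        _ = y⁻¹ * (h0 * (y * c * y⁻¹) * h0⁻¹) * (h0 * y * h0⁻¹) := by rw [e4]
        _ = c * d := by rw [e3, hd]; group
    have hKab : ∀ c ∈ K, ∀ c' ∈ K, c * c' = c' * c := by
      intro c hc c' hc'
      by_contra hne
      have hlt : K ⊓ centralizer ({c} : Set G) < K :=
        lt_of_le_not_ge inf_le_left fun hle => hne (mem_cent.1 (mem_inf.1 (hle hc')).2).symm
      have hcle : P ⊓ centralizer ({c * h0} : Set G) ≤ K ⊓ centralizer ({c} : Set G) := by
        intro z hz
        obtain ⟨hzP, hz1⟩ := mem_inf.1 hz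
        have hz2 : Commute z (c * h0) := mem_cent.1 hz1
        have hch : Commute c h0 := mem_cent.1 (mem_inf.1 hc).2
        have hpw : h0 ^ Nat.card P = (c * h0) ^ Nat.card P := by
          rw [hch.mul_pow]
          have : c ^ Nat.card P = 1 := by
            have := pow_card_eq_one' (x := (⟨c, hKP hc⟩ : P))
            exact congrArg Subtype.val this
          rw [this, one_mul]
        have hz3 : Commute z (h0 ^ Nat.card P) := hpw ▸ hz2.pow_right _
        have hh : Commute z h0 := by
          obtain ⟨b, hb⟩ := exists_pow_eq_self_of_coprime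
            (Nat.Coprime.coprime_dvd_right
              (by rw [← orderOf_mk h0 hh0]; exact orderOf_dvd_natCard _) hcop.symm)
          exact hb ▸ hz3.pow_right b
        have hzK : z ∈ K := mem_inf.2 ⟨hzP, mem_cent.2 hh⟩
        refine mem_inf.2 ⟨hzK, mem_cent.2 ?_⟩
        have e : c = c * h0 * h0⁻¹ := by group
        rw [e]
        exact (hz2.mul_right hh.inv_right).eq
      have h1 := hclass (c * h0)
      rw [← inf_relIndex_left] at h1
      have h2 : K.relIndex P = p := hCrel h0 hh0 hh01
      have h3 : (K ⊓ centralizer ({c} : Set G)).relIndex P ∣ p :=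
        (relIndex_dvd_of_le_left _ hcle).trans h1
      rw [← relIndex_mul_relIndex _ K P inf_le_left hKP, h2] at h3
      have h4 : (K ⊓ centralizer ({c} : Set G)).relIndex K = 1 :=
        Nat.dvd_one.1 (Nat.dvd_of_mul_dvd_mul_right hp.pos (by rw [one_mul]; exact h3))
      exact hlt.not_ge (relIndex_eq_one.1 h4)
    have hgen : P ≤ K ⊔ zpowers d := by
      have hle : K ⊔ zpowers d ≤ P := sup_le hKP (zpowers_le.2 hdP)
      have hmul := relIndex_mul_relIndex K (K ⊔ zpowers d) P le_sup_left hle
      rw [show K.relIndex P = p from hCrel h0 hh0 hh01] at hmul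
      rcases (Nat.dvd_prime hp).1 (Dvd.intro _ hmul) with h1 | h1
      · exfalso
        exact hdC (relIndex_eq_one.1 h1 (mem_sup_right (mem_zpowers d)))
      · rw [h1] at hmul
        exact relIndex_eq_one.1 ((Nat.mul_eq_left hp.ne_zero).1 hmul)
    intro u hu v hv
    have hsub : K ⊔ zpowers d ≤ centralizer ((K ⊔ zpowers d : Subgroup G) : Set G) := by
      rw [le_centralizer_iff]
      refine sup_le ?_ ?_
      · rw [le_centralizer_iff]
        refine sup_le (fun c hc => ?_) (zpowers_le.2 ?_)
        · exact mem_centralizer_iff.2 fun c' hc' => hKab c' hc' c hc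
        · exact mem_centralizer_iff.2 fun c' hc' => (hdc c' hc').symm
      · rw [zpowers_le, mem_centralizer_iff]
        have hle : K ⊔ zpowers d ≤ centralizer ({d} : Set G) :=
          sup_le (fun c hc => mem_cent.2 (hdc c hc).symm) (zpowers_le.2 (mem_cent.2 rfl))
        exact fun c hc => mem_cent.1 (hle hc)
    exact mem_centralizer_iff.1 (hsub (hgen hv)) u (hgen hu)
  -- the images `[P, k]`
  let φ : (k : G) → (P →* P) := fun k => MonoidHom.mk'
    (fun y => ⟨(y : G) * (k * (y : G)⁻¹ * k⁻¹), mul_mem y.2 (hPn.conj_mem _ (inv_mem y.2) k)⟩)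
    (by
      intro u w
      apply Subtype.ext
      show (u : G) * w * (k * ((u : G) * w)⁻¹ * k⁻¹) =
        (u : G) * (k * (u : G)⁻¹ * k⁻¹) * ((w : G) * (k * (w : G)⁻¹ * k⁻¹))
      calc (u : G) * w * (k * ((u : G) * w)⁻¹ * k⁻¹)
          = (u : G) * ((w : G) * (k * (w : G)⁻¹ * k⁻¹) * (k * (u : G)⁻¹ * k⁻¹)) := by group
        _ = (u : G) * ((k * (u : G)⁻¹ * k⁻¹) * ((w : G) * (k * (w : G)⁻¹ * k⁻¹))) := by
          rw [hPab _ (mul_mem w.2 (hPn.conj_mem _ (inv_mem w.2) k)) _
            (hPn.conj_mem _ (inv_mem u.2) k)]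
        _ = _ := by group)
  let K : G → Subgroup G := fun k => (φ k).range.map P.subtype
  have hKmem : ∀ k : G, ∀ y ∈ P, y * (k * y⁻¹ * k⁻¹) ∈ K k := fun k y hy =>
    ⟨φ k ⟨y, hy⟩, ⟨⟨y, hy⟩, rfl⟩, rfl⟩
  have hKle : ∀ k : G, K k ≤ P := fun k => map_subtype_le _
  have hKcard : ∀ k ∈ H, k ≠ 1 → Nat.card (K k) = p := by
    intro k hk hk1
    rw [card_map_of_injective P.subtype_injective, ← index_ker]
    have : (φ k).ker = (C k).subgroupOf P := by
      ext v
      rw [MonoidHom.mem_ker, mem_subgroupOf, mem_inf, mem_cent]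
      constructor
      · intro h1
        refine ⟨v.2, ?_⟩
        have h2 : (v : G) * (k * (v : G)⁻¹ * k⁻¹) = 1 := congrArg Subtype.val h1
        calc (v : G) * k = (v : G) * (k * (v : G)⁻¹ * k⁻¹) * (k * v) := by group
          _ = k * v := by rw [h2, one_mul]
      · rintro ⟨-, h1⟩
        apply Subtype.ext
        show (v : G) * (k * (v : G)⁻¹ * k⁻¹) = 1
        rw [← mul_assoc, ← mul_assoc, h1]
        group
    rw [this]
    exact hCrel k hk hk1
  have hKeq : ∀ k ∈ H, k ≠ 1 → ∀ a ∈ K k, a ≠ 1 → K k = zpowers a := by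
    intro k hk hk1 a ha hne
    refine (eq_of_le_of_card_ge (zpowers_le.2 ha) ?_).symm
    rw [hKcard k hk hk1, Nat.card_zpowers]
    have hd : orderOf a ∣ Nat.card (K k) := by
      rw [← orderOf_mk a ha]; exact orderOf_dvd_natCard _
    rw [hKcard k hk hk1] at hd
    rcases (Nat.dvd_prime hp).1 hd with h2 | h2
    · exact absurd (orderOf_eq_one_iff.1 h2) hne
    · rw [h2]
  have hKH : ∀ k ∈ H, ∀ k' ∈ H, ∀ a ∈ K k, k' * a * k'⁻¹ ∈ K k := by
    rintro k hk k' hk' _ ⟨_, ⟨⟨y, hy⟩, rfl⟩, rfl⟩
    have := hKmem k (k' * y * k'⁻¹) (hPn.conj_mem y hy k')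
    convert this using 1
    show k' * (y * (k * y⁻¹ * k⁻¹)) * k'⁻¹ = _
    have hc : Commute k' k := hH k' hk' k hk
    calc k' * (y * (k * y⁻¹ * k⁻¹)) * k'⁻¹
        = k' * y * k'⁻¹ * ((k' * k) * y⁻¹ * (k' * k)⁻¹) := by group
      _ = k' * y * k'⁻¹ * ((k * k') * y⁻¹ * (k * k')⁻¹) := by rw [hc.eq]
      _ = _ := by group
  have hKinj : ∀ k ∈ H, k ≠ 1 → ∀ y ∈ K k, y * (k * y⁻¹ * k⁻¹) = 1 → y = 1 := by
    intro k hk hk1 y hy he
    by_contra hy1
    obtain ⟨z, hz, hzC⟩ := hout k hk hk1
    apply hzC
    have hz' : z⁻¹ * (k * z * k⁻¹) ∈ K k := by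
      have := hKmem k z⁻¹ (inv_mem hz)
      rwa [inv_inv] at this
    rw [hKeq k hk hk1 y hy hy1] at hz'
    have hyC : y ∈ C k := by
      refine mem_inf.2 ⟨hKle k hy, mem_cent.2 ?_⟩
      calc y * k = y * (k * y⁻¹ * k⁻¹) * (k * y) := by group
        _ = k * y := by rw [he, one_mul]
    exact (zpowers_le.2 hyC) hz'
  have hKone : ∀ k ∈ H, k ≠ 1 → ∀ k' ∈ H, k' ≠ 1 → K k = K k' := by
    intro k hk hk1 k' hk' hk1'
    by_contra hne
    have hinf : ∀ a, a ∈ K k → a ∈ K k' → a = 1 := by
      intro a ha ha'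
      by_contra ha1
      exact hne (by rw [hKeq k hk hk1 a ha ha1, hKeq k' hk' hk1' a ha' ha1])
    have hcent : ∀ a ∈ K k, k' * a⁻¹ * k'⁻¹ = a⁻¹ := by
      intro a ha
      have h1 : a * (k' * a⁻¹ * k'⁻¹) ∈ K k :=
        mul_mem ha (hKH k hk k' hk' _ (inv_mem ha))
      have h2 := hinf _ h1 (hKmem k' a (hKle k ha))
      exact eq_inv_of_mul_eq_one_right h2
    have hcent' : ∀ a ∈ K k', k * a⁻¹ * k⁻¹ = a⁻¹ := by
      intro a ha
      have h1 : a * (k * a⁻¹ * k⁻¹) ∈ K k' :=
        mul_mem ha (hKH k' hk' k hk _ (inv_mem ha))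
      have h2 := hinf _ (hKmem k a (hKle k' ha)) h1
      exact eq_inv_of_mul_eq_one_right h2
    obtain ⟨a, ha, ha1⟩ : ∃ a ∈ K k, a ≠ 1 := by
      by_contra hcon
      push Not at hcon
      have := hKcard k hk hk1
      rw [show K k = ⊥ from eq_bot_iff.2 fun a ha => mem_bot.2 (hcon a ha), card_bot] at this
      exact hp.ne_one this.symm
    obtain ⟨b, hb, hb1⟩ : ∃ a ∈ K k', a ≠ 1 := by
      by_contra hcon
      push Not at hcon
      have := hKcard k' hk' hk1'
      rw [show K k' = ⊥ from eq_bot_iff.2 fun a ha => mem_bot.2 (hcon a ha), card_bot] at this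
      exact hp.ne_one this.symm
    have hkk : k * k' ≠ 1 := by
      intro h1
      apply ha1
      apply hKinj k hk hk1 a ha
      have h2 := hcent a ha
      have e : k' = k⁻¹ := eq_inv_of_mul_eq_one_right h1
      rw [e, inv_inv] at h2
      calc a * (k * a⁻¹ * k⁻¹) = a * (k * (k⁻¹ * a⁻¹ * k) * k⁻¹) := by rw [h2]
        _ = 1 := by group
    have hA : a * (k * a⁻¹ * k⁻¹) ∈ K (k * k') := by
      have := hKmem (k * k') a (hKle k ha)
      convert this using 1
      rw [show k * k' * a⁻¹ * (k * k')⁻¹ = k * (k' * a⁻¹ * k'⁻¹) * k⁻¹ by group, hcent a ha]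
    have hB : b * (k' * b⁻¹ * k'⁻¹) ∈ K (k * k') := by
      have := hKmem (k * k') b (hKle k' hb)
      convert this using 1
      rw [hH k hk k' hk', show k' * k * b⁻¹ * (k' * k)⁻¹ = k' * (k * b⁻¹ * k⁻¹) * k'⁻¹ by group,
        hcent' b hb]
    have hA1 : a * (k * a⁻¹ * k⁻¹) ≠ 1 := fun h1 => ha1 (hKinj k hk hk1 a ha h1)
    have hB1 : b * (k' * b⁻¹ * k'⁻¹) ≠ 1 := fun h1 => hb1 (hKinj k' hk' hk1' b hb h1)
    apply hne
    rw [hKeq k hk hk1 _ (hKmem k a (hKle k ha)) hA1, ← hKeq (k * k') (mul_mem hk hk') hkk _ hA hA1,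
      hKeq (k * k') (mul_mem hk hk') hkk _ hB hB1, ← hKeq k' hk' hk1' _ (hKmem k' b (hKle k' hb)) hB1]
  set K0 := K h0 with hK0
  have hK0n : K0.Normal := by
    rw [← normalizer_eq_top_iff, eq_top_iff, ← hsup]
    refine sup_le ?_ ?_
    · intro y hy
      apply mem_normalizer_fintype
      intro s (hs : s ∈ K0)
      show _ ∈ K0
      rw [hPab y hy s (hKle h0 hs), mul_inv_cancel_right]
      exact hs
    · intro y hy
      apply mem_normalizer_fintype
      intro s (hs : s ∈ K0)
      exact hKH h0 hh0 y hy s hs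
  have hcomm : commutator G ≤ K0 := by
    haveI := hK0n
    refine Subgroup.Normal.quotient_commutative_iff_commutator_le.1 ⟨⟨fun u v => ?_⟩⟩
    set q := QuotientGroup.mk' K0 with hq
    have hPH : ∀ y ∈ P, ∀ k ∈ H, q y * q k = q k * q y := by
      intro y hy k hk
      have hmem : y * (k * y⁻¹ * k⁻¹) ∈ K0 := by
        by_cases hk1 : k = 1
        · rw [hk1]; simp
        · rw [hK0, hKone h0 hh0 hh01 k hk hk1]; exact hKmem k y hy
      have h1 : q (y * (k * y⁻¹ * k⁻¹)) = 1 := (QuotientGroup.eq_one_iff _).2 hmem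
      simp only [map_mul, map_inv] at h1
      calc q y * q k = q y * (q k * (q y)⁻¹ * (q k)⁻¹) * (q k * q y) := by group
        _ = q k * q y := by rw [h1, one_mul]
    have htop : (⊤ : Subgroup G) ≤ (center (G ⧸ K0)).comap q := by
      rw [← hsup]
      refine sup_le ?_ ?_
      · intro y hy
        refine mem_center_iff.2 fun w => ?_
        obtain ⟨g, rfl⟩ := QuotientGroup.mk'_surjective K0 w
        have hg : g ∈ (centralizer ({q y} : Set (G ⧸ K0))).comap q := by
          refine (show P ⊔ H ≤ _ from sup_le ?_ ?_) (hsup ▸ mem_top g)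
          · intro z hz; exact mem_cent.2 (by rw [← map_mul, ← map_mul, hPab z hz y hy])
          · intro z hz; exact mem_cent.2 (hPH y hy z hz).symm
        exact mem_cent.1 hg
      · intro k hk
        refine mem_center_iff.2 fun w => ?_
        obtain ⟨g, rfl⟩ := QuotientGroup.mk'_surjective K0 w
        have hg : g ∈ (centralizer ({q k} : Set (G ⧸ K0))).comap q := by
          refine (show P ⊔ H ≤ _ from sup_le ?_ ?_) (hsup ▸ mem_top g)
          · intro z hz; exact mem_cent.2 (hPH z hz k hk)
          · intro z hz; exact mem_cent.2 (by rw [← map_mul, ← map_mul, hH z hz k hk])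
        exact mem_cent.1 hg
    obtain ⟨g, rfl⟩ := QuotientGroup.mk'_surjective K0 v
    exact mem_center_iff.1 (htop (mem_top g)) u
  exact (card_dvd_of_le hcomm).trans (hKcard h0 hh0 hh01).dvd

theorem not_sq_dvd_commutator_aux (n : ℕ) : ∀ (G : Type u) [Group G] [Finite G]
    [Group.IsSolvable G], Nat.card G = n → Sq G → ∀ p : ℕ, p.Prime →
      ¬ p * p ∣ Nat.card (commutator G) := by
  induction n using Nat.strong_induction_on with
  | _ n ih =>
  intro G _ _ _ hn h p hp hdvd
  classical
  haveI := Fact.mk hp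
  by_cases hN : ∃ N : Subgroup G, N.Normal ∧ N ≠ ⊥ ∧ (Nat.card N).Coprime p
  · obtain ⟨N, hNn, hNne, hNc⟩ := hN
    haveI := hNn
    have hmap : (commutator G).map (QuotientGroup.mk' N) = commutator (G ⧸ N) := by
      rw [_root_.commutator_def, _root_.commutator_def, map_commutator,
        map_top_of_surjective _ (QuotientGroup.mk'_surjective N)]
    have h1 := relIndex_mul_relIndex ⊥ (commutator G ⊓ N) (commutator G) bot_le inf_le_left
    rw [relIndex_bot_left, relIndex_bot_left, inf_comm, inf_relIndex_right] at h1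
    have h2 : Nat.card ↥(commutator (G ⧸ N)) = N.relIndex (commutator G) := by
      rw [← hmap]
      let f : commutator G →* G ⧸ N := (QuotientGroup.mk' N).comp (commutator G).subtype
      have hf : f.range = (commutator G).map (QuotientGroup.mk' N) := by
        rw [MonoidHom.range_comp, range_subtype]
      rw [← hf, ← index_ker]
      have : f.ker = N.subgroupOf (commutator G) := by
        ext v
        rw [MonoidHom.mem_ker, mem_subgroupOf]
        exact QuotientGroup.eq_one_iff (v : G)
      rw [this]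
      rfl
    have hcop : (p * p).Coprime (Nat.card ↥(commutator G ⊓ N)) := by
      have := Nat.Coprime.coprime_dvd_left (card_dvd_of_le (inf_le_right : commutator G ⊓ N ≤ N)) hNc
      exact (Nat.Coprime.mul_right this this).symm
    rw [← h1, ← h2, inf_comm] at hdvd
    exact ih _ (hn ▸ H3.card_quotient_lt N hNne) (G ⧸ N) rfl (quotient h N) p hp
      (hcop.dvd_of_dvd_mul_left hdvd)
  push Not at hN
  have hss := isSupersolvable h
  have hpG : p ∣ Nat.card G :=
    (dvd_mul_right p p).trans (hdvd.trans (card_subgroup_dvd_card _))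
  haveI : Nontrivial G := by
    rw [← Finite.one_lt_card_iff_nontrivial]
    exact lt_of_lt_of_le hp.one_lt (Nat.le_of_dvd Nat.card_pos hpG)
  obtain ⟨q, hq, -, hmax, N, hNn, hNcard⟩ := H3.exists_normal_max_prime hss
  have hqp : q = p := by
    by_contra hne
    refine hN N hNn (fun h0 => ?_) ?_
    · rw [h0, card_bot] at hNcard; exact hq.ne_one hNcard.symm
    · rw [hNcard]; exact (Nat.coprime_primes hq hp).2 hne
  subst hqp
  obtain ⟨P⟩ : Nonempty (Sylow q G) := inferInstance
  haveI hPn : (P : Subgroup G).Normal := H3.exists_normal_sylow_of_max_prime hss q hmax P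
  -- the derived group is a q-group
  haveI := H3.ss_commutator_nilpotent hss
  have hGP : commutator G ≤ (P : Subgroup G) := by
    have hpg : IsPGroup q (commutator G) := by
      have huniq : ∀ r : ℕ, r.Prime → r ∣ Nat.card (commutator G) → r = q := by
        intro r hr hrd
        by_contra hne
        haveI := Fact.mk hr
        obtain ⟨R⟩ : Nonempty (Sylow r (commutator G)) := inferInstance
        haveI : (R : Subgroup (commutator G)).Normal := inferInstance
        haveI : (R : Subgroup (commutator G)).Characteristic := R.characteristic_of_normal inferInstance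
        set R' := (R : Subgroup (commutator G)).map (commutator G).subtype with hR'
        have hne' : R' ≠ ⊥ := by
          intro h0
          rw [hR', map_eq_bot_iff_of_injective _ (commutator G).subtype_injective] at h0
          exact R.ne_bot_of_dvd_card hrd h0
        refine hN R' inferInstance hne' ?_
        obtain ⟨k, hk⟩ := IsPGroup.iff_card.1 (R.isPGroup'.map (commutator G).subtype)
        rw [hk]
        exact Nat.Coprime.pow_left k ((Nat.coprime_primes hr hp).2 hne)
      exact IsPGroup.of_card (n := (Nat.card (commutator G)).primeFactorsList.length)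
        (Nat.eq_prime_pow_of_unique_prime_dvd Nat.card_pos.ne' fun {d} hd hdd => huniq d hd hdd)
    obtain ⟨Q, hQ⟩ := hpg.exists_le_sylow
    haveI := P.characteristic_of_normal hPn
    haveI : Subsingleton (Sylow q G) := (P.unique_of_normal hPn).instSubsingleton
    rwa [Subsingleton.elim P Q]
  obtain ⟨H, hH⟩ := exists_right_complement'_of_coprime (N := (P : Subgroup G))
    P.card_coprime_index
  have hHcard : Nat.card H = (P : Subgroup G).index := hH.symm.index_eq_card.symm
  have hcop : (Nat.card H).Coprime (Nat.card (P : Subgroup G)) := by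
    rw [hHcard]; exact P.card_coprime_index.symm
  have hdisj : (P : Subgroup G) ⊓ H = ⊥ := disjoint_iff.1 hH.disjoint
  have hHab : ∀ a ∈ H, ∀ b ∈ H, a * b = b * a := by
    intro a ha b hb
    rw [← commutatorElement_eq_one_iff_mul_comm, ← mem_bot, ← hdisj]
    refine ⟨hGP (commutator_mem_commutator (mem_top a) (mem_top b)), ?_⟩
    exact H.mul_mem (H.mul_mem (H.mul_mem ha hb) (H.inv_mem ha)) (H.inv_mem hb)
  have hsup : (P : Subgroup G) ⊔ H = ⊤ := hH.sup_eq_top
  have hfaith : ∀ k ∈ H, k ∈ centralizer ((P : Subgroup G) : Set G) → k = 1 := by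
    intro k hk hkc
    set N0 := H ⊓ centralizer ((P : Subgroup G) : Set G) with hN0
    have hN0n : N0.Normal := by
      rw [← normalizer_eq_top_iff, eq_top_iff, ← hsup]
      refine sup_le ?_ ?_
      · intro y hy
        apply mem_normalizer_fintype
        intro s (hs : s ∈ N0)
        show _ ∈ N0
        rw [mem_centralizer_iff.1 (mem_inf.1 hs).2 y hy, mul_inv_cancel_right]
        exact hs
      · intro y hy
        apply mem_normalizer_fintype
        intro s (hs : s ∈ N0)
        show _ ∈ N0
        rw [hHab y hy s (mem_inf.1 hs).1, mul_inv_cancel_right]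
        exact hs
    by_contra hk1
    refine hN N0 hN0n (fun h0 => hk1 (mem_bot.1 (h0 ▸ mem_inf.2 ⟨hk, hkc⟩))) ?_
    refine Nat.Coprime.coprime_dvd_left (card_dvd_of_le inf_le_left) ?_
    rw [hHcard]
    exact ((Nat.Prime.coprime_iff_not_dvd hp).2 P.not_dvd_index).symm
  have := hdvd.trans (card_comm_dvd_of_semidirect h hp (P : Subgroup G) H P.isPGroup' hcop hsup
    hHab hfaith)
  have h2 := Nat.le_of_dvd hp.pos this
  nlinarith [hp.two_le]

theorem squarefree_card_commutator [Finite G] [Group.IsSolvable G] (h : Sq G) :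
    Squarefree (Nat.card (commutator G)) :=
  Nat.squarefree_iff_prime_squarefree.2 fun p hp => not_sq_dvd_commutator_aux _ G rfl h p hp

/-- A normal cyclic subgroup of square-free order of a nilpotent group is central. -/
theorem central_of_squarefree [Finite G] [Group.IsNilpotent G] (K : Subgroup G) [K.Normal]
    [IsCyclic K] (hsq : Squarefree (Nat.card K)) : K ≤ center G := by
  intro k hk
  rw [mem_center_iff]
  intro f
  let σ : K →* K := MonoidHom.mk'
    (fun v => (MulAut.conjNormal f v) * v⁻¹)
    (by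
      intro u w
      letI : CommGroup K := IsCyclic.commGroup
      rw [map_mul, mul_inv, mul_mul_mul_comm])
  obtain ⟨m, hm⟩ := σ.map_cyclic
  obtain ⟨n, hn⟩ := Subgroup.nilpotent_iff_lowerCentralSeries.1 (inferInstance : Group.IsNilpotent G)
  have hit : ∀ i : ℕ, ∀ v : K, ((v ^ (m ^ i) : K) : G) ∈ (⊤ : Subgroup G).lowerCentralSeries i := by
    intro i
    induction i with
    | zero => intro v; rw [Subgroup.lowerCentralSeries_zero]; exact mem_top _
    | succ i ihi =>
      intro v
      have e : v ^ (m ^ (i + 1)) = σ (v ^ (m ^ i)) := by rw [hm, ← zpow_mul, pow_succ]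
      rw [e]
      have h1 := ihi v
      show f * ((v ^ (m ^ i) : K) : G) * f⁻¹ * ((v ^ (m ^ i) : K) : G)⁻¹ ∈ _
      have h2 : ⁅((v ^ (m ^ i) : K) : G), f⁆ ∈ (⊤ : Subgroup G).lowerCentralSeries (i + 1) :=
        commutator_mem_commutator h1 (mem_top f)
      have h3 := inv_mem h2
      rwa [commutatorElement_inv] at h3
  obtain ⟨g, hg⟩ := IsCyclic.exists_ofOrder_eq_natCard (α := K)
  have h1 : g ^ (m ^ n) = 1 := by
    have := hit n g
    rw [hn, mem_bot] at this
    exact Subtype.ext this
  rw [← orderOf_dvd_iff_zpow_eq_one, hg] at h1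
  have h2 : (Nat.card K : ℤ) ∣ m := by
    rw [Int.natCast_dvd] at h1 ⊢
    rw [Int.natAbs_pow] at h1
    exact hsq.isRadical _ _ h1
  have h3 : σ ⟨k, hk⟩ = 1 := by
    rw [hm, ← orderOf_dvd_iff_zpow_eq_one]
    exact (Int.natCast_dvd_natCast.2 (orderOf_dvd_natCard _)).trans h2
  have h4 : f * k * f⁻¹ * k⁻¹ = 1 := congrArg Subtype.val h3
  exact commutatorElement_eq_one_iff_mul_comm.1 h4

/-- The structure of a solvable group with square-free class sizes. -/
theorem structure_of_solvable [Finite G] [Group.IsSolvable G] (h : Sq G) :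
    Cfsg.IsSupersolvable G ∧ (Cfsg.fittingSubgroup G).Normal ∧
    (∀ _h : (Cfsg.fittingSubgroup G).Normal, IsCyclic (G ⧸ Cfsg.fittingSubgroup G) ∧
      Squarefree (Cfsg.fittingSubgroup G).index) ∧
    IsCyclic (commutator G) ∧ Squarefree (Nat.card (commutator G)) ∧
    Subgroup.upperCentralSeries ↥(Cfsg.fittingSubgroup G) 2 = ⊤ ∧ commutator ↥(commutator G) = ⊥ := by
  have hss := isSupersolvable h
  have hFn := H1.fittingSubgroup_normal G
  have hsq := squarefree_card_commutator h
  haveI := H3.ss_commutator_nilpotent hss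
  haveI : IsZGroup (commutator G) := IsZGroup.of_squarefree hsq
  haveI hcyc : IsCyclic (commutator G) := inferInstance
  have hcomm : ∀ a ∈ commutator G, ∀ b ∈ commutator G, a * b = b * a := by
    intro a ha b hb
    letI : CommGroup (commutator G) := IsCyclic.commGroup
    exact congrArg Subtype.val (mul_comm (⟨a, ha⟩ : commutator G) ⟨b, hb⟩)
  refine ⟨hss, hFn, fun _ => ?_, hcyc, hsq, ?_, ?_⟩
  · obtain ⟨g, hg⟩ := isCyclic_iff_exists_zpowers_eq_top.1 hcyc
    set C := centralizer (commutator G : Set G) with hC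
    have hCs : C = centralizer ({(g : G)} : Set G) := by
      have : commutator G = zpowers (g : G) := by
        conv_lhs => rw [← (commutator G).range_subtype, MonoidHom.range_eq_map, ← hg,
          MonoidHom.map_zpowers]
        rfl
      rw [hC, show ((commutator G : Subgroup G) : Set G) = (zpowers (g : G) : Set G) from congrArg _ this,
        zpowers_eq_closure, centralizer_closure]
    haveI : C.Normal := inferInstance
    have hGC : commutator G ≤ C := fun a ha => mem_centralizer_iff.2 fun b hb => hcomm b hb a ha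
    have hCnil : Group.IsNilpotent C := by
      refine Subgroup.isNilpotent_of_ker_le_center (Abelianization.of (G := C)) ?_
      rw [Abelianization.ker_of]
      rw [_root_.commutator_def, commutator_le]
      intro a _ b _
      rw [mem_center_iff]
      intro c
      apply Subtype.ext
      exact (mem_centralizer_iff.1 c.2 _ (commutator_mem_commutator (mem_top (a : G))
        (mem_top (b : G)))).symm
    have hCF : C ≤ Cfsg.fittingSubgroup G := H1.le_fittingSubgroup hCnil
    have hidx : Squarefree (Cfsg.fittingSubgroup G).index :=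
      (hCs ▸ h (g : G)).squarefree_of_dvd (index_dvd_of_le hCF)
    haveI : IsMulCommutative (G ⧸ Cfsg.fittingSubgroup G) :=
      Subgroup.Normal.quotient_commutative_iff_commutator_le.2 (hGC.trans hCF)
    haveI : IsZGroup (G ⧸ Cfsg.fittingSubgroup G) := IsZGroup.of_squarefree hidx
    haveI : Group.IsNilpotent (G ⧸ Cfsg.fittingSubgroup G) := by
      letI : CommGroup (G ⧸ Cfsg.fittingSubgroup G) :=
        { (inferInstance : Group (G ⧸ Cfsg.fittingSubgroup G)) with
          mul_comm := fun a b => Std.Commutative.comm a b }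
      exact CommGroup.isNilpotent
    exact ⟨inferInstance, hidx⟩
  · set F := Cfsg.fittingSubgroup G
    haveI : Group.IsNilpotent F := H1.isNilpotent_fittingSubgroup G
    set K := (commutator G).subgroupOf F with hK
    haveI : K.Normal := inferInstance
    let e : K →* commutator G := (F.subtype.comp K.subtype).codRestrict _ fun x => x.2
    have he : Function.Injective e := fun a b hab =>
      Subtype.ext (Subtype.ext (show ((a : F) : G) = ((b : F) : G) from
        congrArg (Subtype.val : commutator G → G) hab))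
    haveI : IsCyclic K := isCyclic_of_injective e he
    have hKsq : Squarefree (Nat.card K) :=
      hsq.squarefree_of_dvd (card_dvd_of_injective e he)
    have hKc := central_of_squarefree K hKsq
    rw [eq_top_iff]
    intro x _
    rw [Subgroup.mem_upperCentralSeries_succ_iff]
    intro y
    rw [Subgroup.upperCentralSeries_one]
    apply hKc
    show ((⁅x, y⁆ : F) : G) ∈ commutator G
    exact commutator_mem_commutator (mem_top (x : G)) (mem_top (y : G))
  · rw [eq_bot_iff, _root_.commutator_def ↥(commutator G), commutator_le]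
    intro a _ b _
    rw [mem_bot, commutatorElement_eq_one_iff_mul_comm]
    exact Subtype.ext (hcomm a a.2 b b.2)

end H30.SqClass
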