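import Cfsg.Agent.H3.SolvableMisc
import Cfsg.Agent.H3.SystemNormalizer
import Cfsg.Agent.H3.SsProps
import Mathlib.GroupTheory.SpecificGroups.ZGroup

/-! Groups with square-free class sizes: supersolvability and p-groups with classes of size ≤ p. -/

set_option autoImplicit false
set_option linter.all false

namespace H30.SqClass

open Subgroup
open scoped commutatorElement

universe u

variable {G : Type u} [Group G]

/-- All class sizes are square-free. -/
def Sq (G : Type u) [Group G] : Prop := ∀ x : G, Squarefree (centralizer ({x} : Set G)).index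

theorem mem_cent {x y : G} : y ∈ centralizer ({x} : Set G) ↔ y * x = x * y := by
  rw [mem_centralizer_singleton_iff]

theorem relIndex_dvd_prime [Finite G] (h : Sq G) {p : ℕ} (hp : p.Prime) (V : Subgroup G)
    [V.Normal] (hV : IsPGroup p V) (x : G) : (centralizer ({x} : Set G)).relIndex V ∣ p := by
  haveI := Fact.mk hp
  have hsq : Squarefree ((centralizer ({x} : Set G)).relIndex V) :=
    (h x).squarefree_of_dvd (H3.relIndex_normal_dvd_index (centralizer ({x} : Set G)) V)
  obtain ⟨k, hk⟩ := IsPGroup.iff_card.1 hV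
  have hd : (centralizer ({x} : Set G)).relIndex V ∣ p ^ k := hk ▸ index_dvd_card _
  obtain ⟨j, -, hj⟩ := (Nat.dvd_prime_pow hp).1 hd
  rw [hj] at hsq ⊢
  by_cases hj2 : 2 ≤ j
  · have := hsq p ((pow_two p).symm ▸ pow_dvd_pow p hj2)
    rw [Nat.isUnit_iff] at this
    exact absurd this hp.ne_one
  · conv_rhs => rw [← pow_one p]
    exact pow_dvd_pow p (by omega)

theorem quotient [Finite G] (h : Sq G) (N : Subgroup G) [N.Normal] : Sq (G ⧸ N) := by
  intro x
  obtain ⟨g, rfl⟩ := QuotientGroup.mk'_surjective N x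
  have hle : (centralizer ({g} : Set G)).map (QuotientGroup.mk' N) ≤
      centralizer ({QuotientGroup.mk' N g} : Set (G ⧸ N)) := by
    rintro _ ⟨y, hy, rfl⟩
    rw [mem_cent, ← map_mul, mem_cent.1 hy, map_mul]
  exact (h g).squarefree_of_dvd
    ((index_dvd_of_le hle).trans (index_map_dvd _ (QuotientGroup.mk'_surjective N)))

theorem isSupersolvable_aux (n : ℕ) : ∀ (G : Type u) [Group G] [Finite G] [Group.IsSolvable G],
    Nat.card G = n → Sq G → Cfsg.IsSupersolvable G := by
  induction n using Nat.strong_induction_on with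
  | _ n ih =>
  intro G _ _ _ hn h
  classical
  rcases subsingleton_or_nontrivial G with hs | hnt
  · exact H3.ss_of_subsingleton
  obtain ⟨V, hVn, hVne, hVmin⟩ := H3.exists_minNormal (G := G)
  haveI := hVn
  obtain ⟨hVc, p, hp, hVexp, hVp, -⟩ := H3.minNormal_elementary V hVne hVmin
  haveI := Fact.mk hp
  have hQ : Cfsg.IsSupersolvable (G ⧸ V) :=
    ih _ (hn ▸ H3.card_quotient_lt V hVne) (G ⧸ V) rfl (quotient h V)
  suffices hVprime : (Nat.card V).Prime from H3.ss_of_quotient_prime V hVprime hQ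
  have hcomm : ∀ a ∈ V, ∀ b ∈ V, a * b = b * a := fun a ha b hb =>
    congrArg Subtype.val (hVc.is_comm.comm ⟨a, ha⟩ ⟨b, hb⟩)
  set C := centralizer (V : Set G) with hC
  by_cases hCtop : C = ⊤
  · obtain ⟨⟨a, haV⟩, ha0⟩ := V.ne_bot_iff_exists_ne_one.1 hVne
    have ha1 : a ≠ 1 := fun h => ha0 (Subtype.ext h)
    have hnorm : (zpowers a).Normal := by
      constructor
      intro b hb g
      have hg : g ∈ C := hCtop ▸ mem_top g
      have hbV : b ∈ V := (zpowers_le.2 haV) hb
      rw [← mem_centralizer_iff.1 hg b hbV, mul_inv_cancel_right]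
      exact hb
    rcases hVmin _ hnorm (zpowers_le.2 haV) with h0 | h0
    · exact absurd (zpowers_eq_bot.1 h0) ha1
    · rw [← h0, Nat.card_zpowers, orderOf_eq_prime (hVexp a haV) ha1]
      exact hp
  have hVC : V ≤ C := fun v hv => mem_centralizer_iff.2 fun w hw => hcomm w hw v hv
  haveI : C.Normal := inferInstance
  have hQC : Cfsg.IsSupersolvable (G ⧸ C) := by
    refine H3.ss_of_surjective (QuotientGroup.map V C (MonoidHom.id G) hVC) ?_ hQ
    intro y
    obtain ⟨g, rfl⟩ := QuotientGroup.mk'_surjective C y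
    exact ⟨QuotientGroup.mk' V g, rfl⟩
  have htb : (⊤ : Subgroup (G ⧸ C)) ≠ ⊥ := by
    intro h0
    apply hCtop
    rw [eq_top_iff]
    intro g _
    have : QuotientGroup.mk' C g ∈ (⊥ : Subgroup (G ⧸ C)) := h0 ▸ mem_top _
    exact (QuotientGroup.eq_one_iff g).1 (mem_bot.1 this)
  obtain ⟨M, hMn, hMc, -, hMne⟩ := H3.exists_normal_cyclic_le hQC ⊤ htb
  obtain ⟨m, hm⟩ := (isCyclic_iff_exists_zpowers_eq_top (α := M)).1 hMc
  have hMm : M = zpowers (m : G ⧸ C) := by
    conv_lhs => rw [← M.range_subtype, MonoidHom.range_eq_map, ← hm, MonoidHom.map_zpowers]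
    rfl
  obtain ⟨x, hx⟩ := QuotientGroup.mk'_surjective C (m : G ⧸ C)
  have hxC : x ∉ C := by
    intro hxC
    apply hMne
    rw [hMm, zpowers_eq_bot, ← hx]
    exact (QuotientGroup.eq_one_iff x).2 hxC
  let φ : V →* V := MonoidHom.mk'
    (fun v => ⟨(v : G) * (x * (v : G)⁻¹ * x⁻¹), mul_mem v.2 (hVn.conj_mem _ (inv_mem v.2) x)⟩)
    (by
      intro u w
      apply Subtype.ext
      show (u : G) * w * (x * ((u : G) * w)⁻¹ * x⁻¹) =
        (u : G) * (x * (u : G)⁻¹ * x⁻¹) * ((w : G) * (x * (w : G)⁻¹ * x⁻¹))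
      calc (u : G) * w * (x * ((u : G) * w)⁻¹ * x⁻¹)
          = (u : G) * ((w : G) * (x * (w : G)⁻¹ * x⁻¹) * (x * (u : G)⁻¹ * x⁻¹)) := by group
        _ = (u : G) * ((x * (u : G)⁻¹ * x⁻¹) * ((w : G) * (x * (w : G)⁻¹ * x⁻¹))) := by
          rw [hcomm _ (mul_mem w.2 (hVn.conj_mem _ (inv_mem w.2) x)) _
            (hVn.conj_mem _ (inv_mem u.2) x)]
        _ = _ := by group)
  let W : Subgroup G := φ.range.map V.subtype
  have hWmem : ∀ v ∈ V, v * (x * v⁻¹ * x⁻¹) ∈ W := fun v hv =>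
    ⟨φ ⟨v, hv⟩, ⟨⟨v, hv⟩, rfl⟩, rfl⟩
  have hpow : ∀ k : ℕ, ∀ v ∈ V, v * (x ^ k * v⁻¹ * (x ^ k)⁻¹) ∈ W := by
    intro k
    induction k with
    | zero => intro v hv; simp
    | succ k ihk =>
      intro v hv
      have hv' : x ^ k * v * (x ^ k)⁻¹ ∈ V := hVn.conj_mem v hv _
      have h2 := hWmem _ hv'
      have e : v * (x ^ (k + 1) * v⁻¹ * (x ^ (k + 1))⁻¹) =
          v * (x ^ k * v⁻¹ * (x ^ k)⁻¹) *
          (x ^ k * v * (x ^ k)⁻¹ * (x * (x ^ k * v * (x ^ k)⁻¹)⁻¹ * x⁻¹)) := by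
        rw [pow_succ']
        group
      rw [e]
      exact mul_mem (ihk v hv) h2
  have hWn : W.Normal := by
    constructor
    rintro _ ⟨_, ⟨⟨v, hv⟩, rfl⟩, rfl⟩ g
    show g * (v * (x * v⁻¹ * x⁻¹)) * g⁻¹ ∈ W
    have hmem : QuotientGroup.mk' C (g * x * g⁻¹) ∈ zpowers (m : G ⧸ C) := by
      rw [map_mul, map_mul, map_inv, hx, ← hMm]
      exact hMn.conj_mem _ m.2 _
    obtain ⟨k, hk⟩ := mem_powers_iff_mem_zpowers.2 hmem
    have hc : (x ^ k)⁻¹ * (g * x * g⁻¹) ∈ C := by
      apply (QuotientGroup.eq_one_iff _).1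
      show QuotientGroup.mk' C ((x ^ k)⁻¹ * (g * x * g⁻¹)) = 1
      simp only [map_mul, map_inv, map_pow, hx] at hk ⊢
      rw [show (m : G ⧸ C) ^ k = _ from hk, inv_mul_cancel]
    set c := (x ^ k)⁻¹ * (g * x * g⁻¹) with hcdef
    have hgv : g * v * g⁻¹ ∈ V := hVn.conj_mem v hv g
    have hcv := mem_centralizer_iff.1 hc _ (inv_mem hgv)
    have h3 := hpow k _ hgv
    convert h3 using 1
    calc g * (v * (x * v⁻¹ * x⁻¹)) * g⁻¹
        = g * v * g⁻¹ * (x ^ k * (c * (g * v * g⁻¹)⁻¹) * (x ^ k * c)⁻¹) := by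
          rw [hcdef]; group
      _ = g * v * g⁻¹ * (x ^ k * ((g * v * g⁻¹)⁻¹ * c) * (x ^ k * c)⁻¹) := by rw [hcv]
      _ = _ := by group
  have hker : φ.ker = (centralizer ({x} : Set G)).subgroupOf V := by
    ext v
    rw [MonoidHom.mem_ker, mem_subgroupOf, mem_cent]
    constructor
    · intro h1
      have h2 : (v : G) * (x * (v : G)⁻¹ * x⁻¹) = 1 := congrArg Subtype.val h1
      calc (v : G) * x = (v : G) * (x * (v : G)⁻¹ * x⁻¹) * (x * v) := by group
        _ = x * v := by rw [h2, one_mul]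
    · intro h1
      apply Subtype.ext
      show (v : G) * (x * (v : G)⁻¹ * x⁻¹) = 1
      rw [← mul_assoc, ← mul_assoc, h1]
      group
  have hWcard : Nat.card W = (centralizer ({x} : Set G)).relIndex V := by
    rw [card_map_of_injective V.subtype_injective, ← index_ker, hker]
    rfl
  rcases hVmin W hWn (map_subtype_le _) with h0 | h0
  · exfalso
    apply hxC
    rw [mem_centralizer_iff]
    intro v hv
    have h1 := hWmem v hv
    rw [h0, mem_bot] at h1
    calc v * x = v * (x * v⁻¹ * x⁻¹) * (x * v) := by group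
      _ = x * v := by rw [h1, one_mul]
  · have hd : Nat.card V ∣ p := by
      rw [← h0, hWcard]; exact relIndex_dvd_prime h hp V hVp x
    rcases (Nat.dvd_prime hp).1 hd with h1 | h1
    · exact absurd (card_eq_one.1 h1) hVne
    · rw [h1]; exact hp

theorem isSupersolvable [Finite G] [Group.IsSolvable G] (h : Sq G) : Cfsg.IsSupersolvable G :=
  isSupersolvable_aux _ G rfl h

/-- A finite p-group all of whose classes have size dividing p has derived group of order
dividing p. -/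
theorem card_commutator_dvd [Finite G] {p : ℕ} (hp : p.Prime) (hG : IsPGroup p G)
    (h : ∀ x : G, (centralizer ({x} : Set G)).index ∣ p) : Nat.card (commutator G) ∣ p := by
  haveI := Fact.mk hp
  have hcent : commutator G ≤ center G := by
    intro c hc
    rw [mem_center_iff]
    intro x
    suffices hle : commutator G ≤ centralizer ({x} : Set G) from (mem_cent.1 (hle hc)).symm
    rcases (Nat.dvd_prime hp).1 (h x) with h1 | h1
    · rw [index_eq_one.1 h1]; exact le_top
    · obtain ⟨k, hk⟩ := IsPGroup.iff_card.1 hG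
      have hk0 : k ≠ 0 := by
        intro h0
        have := h1 ▸ index_dvd_card (centralizer ({x} : Set G))
        rw [hk, h0, pow_zero, Nat.dvd_one] at this
        exact hp.ne_one this
      haveI : (centralizer ({x} : Set G)).Normal := by
        apply normal_of_index_eq_minFac_card
        rw [h1, hk, Nat.pow_minFac hk0, hp.minFac_eq]
      haveI : IsCyclic (G ⧸ centralizer ({x} : Set G)) := isCyclic_of_prime_card h1
      exact Subgroup.Normal.quotient_commutative_iff_commutator_le.1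
        IsCyclic.commutative
  have hcm : ∀ a b g : G, ⁅a, b⁆ * g = g * ⁅a, b⁆ := fun a b g =>
    ((mem_center_iff.1 (hcent (commutator_mem_commutator (mem_top a) (mem_top b)))) g).symm
  let ψ : G → (G →* G) := fun x => MonoidHom.mk' (fun g => ⁅x, g⁆) (by
    intro a b
    show ⁅x, a * b⁆ = ⁅x, a⁆ * ⁅x, b⁆
    have := hcm x b a
    simp only [commutatorElement_def] at this ⊢
    calc x * (a * b) * x⁻¹ * (a * b)⁻¹ = x * a * x⁻¹ * (x * b * x⁻¹ * b⁻¹) * a⁻¹ := by group
      _ = x * a * x⁻¹ * a⁻¹ * (a * (x * b * x⁻¹ * b⁻¹)) * a⁻¹ := by group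
      _ = _ := by rw [← this]; group)
  have hcard : ∀ x : G, Nat.card (ψ x).range = (centralizer ({x} : Set G)).index := by
    intro x
    rw [← index_ker]
    congr 1
    ext g
    rw [MonoidHom.mem_ker, mem_cent]
    show ⁅x, g⁆ = 1 ↔ _
    rw [commutatorElement_eq_one_iff_mul_comm]
    exact eq_comm
  have heq : ∀ x, ∀ a ∈ (ψ x).range, a ≠ 1 → (ψ x).range = zpowers a := by
    intro x a ha hne
    refine (eq_of_le_of_card_ge (zpowers_le.2 ha) ?_).symm
    rw [hcard, Nat.card_zpowers]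
    have hd : orderOf a ∣ Nat.card (ψ x).range := by
      rw [← orderOf_mk a ha]; exact orderOf_dvd_natCard _
    rw [hcard] at hd
    rcases (Nat.dvd_prime hp).1 (h x) with h1 | h1
    · rw [h1]; exact orderOf_pos a
    · rw [h1] at hd ⊢
      rcases (Nat.dvd_prime hp).1 hd with h2 | h2
      · exact absurd (orderOf_eq_one_iff.1 h2) hne
      · rw [h2]
  have hsame : ∀ x y, ⁅x, y⁆ ≠ 1 → (ψ x).range = (ψ y).range := by
    intro x y hne
    have h1 : ⁅x, y⁆ ∈ (ψ x).range := ⟨y, rfl⟩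
    have h2 : ⁅x, y⁆ ∈ (ψ y).range := by
      rw [← commutatorElement_inv]; exact inv_mem ⟨x, rfl⟩
    rw [heq x _ h1 hne, heq y _ h2 hne]
  by_cases habel : ∀ x y : G, ⁅x, y⁆ = 1
  · have : commutator G = ⊥ := by
      rw [eq_bot_iff, _root_.commutator_def, commutator_le]
      intro a _ b _
      exact mem_bot.2 (habel a b)
    rw [this, card_bot]; exact one_dvd _
  push Not at habel
  obtain ⟨x₀, y₀, hxy⟩ := habel
  have hle : commutator G ≤ (ψ x₀).range := by
    rw [_root_.commutator_def, commutator_le]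
    intro a _ b _
    by_cases hab : ⁅a, b⁆ = 1
    · rw [hab]; exact one_mem _
    suffices hK : (ψ a).range = (ψ x₀).range from hK ▸ ⟨b, rfl⟩
    by_cases hax : ⁅a, x₀⁆ = 1
    · -- an element commuting with neither
      obtain ⟨z, hz1, hz2⟩ : ∃ z : G, ⁅a, z⁆ ≠ 1 ∧ ⁅x₀, z⁆ ≠ 1 := by
        by_cases h1 : ⁅x₀, b⁆ = 1
        · by_cases h2 : ⁅a, y₀⁆ = 1
          · refine ⟨b * y₀, ?_, ?_⟩
            · show ψ a (b * y₀) ≠ 1
              rw [map_mul]; show ⁅a, b⁆ * ⁅a, y₀⁆ ≠ 1
              rwa [h2, mul_one]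
            · show ψ x₀ (b * y₀) ≠ 1
              rw [map_mul]; show ⁅x₀, b⁆ * ⁅x₀, y₀⁆ ≠ 1
              rwa [h1, one_mul]
          · exact ⟨y₀, h2, hxy⟩
        · exact ⟨b, hab, h1⟩
      rw [hsame a z hz1, hsame x₀ z hz2]
    · exact hsame a x₀ hax
  exact (card_dvd_of_le hle).trans ((hcard x₀).symm ▸ h x₀)

end H30.SqClass
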