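import Mathlib
import Cfsg.Agent.H63.SylowTwoSelfNorm

set_option autoImplicit false
set_option linter.all false

/-! Elements lying in a unique Sylow 2-subgroup of a symmetric group. -/

open Equiv Equiv.Perm

namespace H30

universe u

/-- The point `a` lies in a cycle of length `2 ^ (j + 1)` of `x`. -/
def CycTwo {α : Type u} (x : Perm α) (a : α) (j : ℕ) : Prop :=
  (x ^ 2 ^ (j + 1)) a = a ∧ (x ^ 2 ^ j) a ≠ a

/-- At most two fixed points, and at most one cycle of each length. -/
def FewFixed {α : Type u} (x : Perm α) : Prop :=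
  ∀ a b c : α, x a = a → x b = b → x c = c → a ≠ b → a ≠ c → b ≠ c → False

/-- One cycle of each length. -/
def DistinctCycles {α : Type u} (x : Perm α) : Prop :=
  ∀ a b : α, ∀ j : ℕ, CycTwo x a j → CycTwo x b j → x.SameCycle a b

section basic

variable {α : Type u} {x : Perm α}

theorem pow_two_fixed_mono {a : α} {i j : ℕ} (hij : i ≤ j) (h : (x ^ 2 ^ i) a = a) :
    (x ^ 2 ^ j) a = a := by
  induction hij with
  | refl => exact h
  | step _ ih => rw [pow_succ, pow_mul, pow_two, Perm.mul_apply, ih, ih]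

theorem CycTwo.unique {a : α} {i j : ℕ} (hi : CycTwo x a i) (hj : CycTwo x a j) : i = j := by
  rcases lt_trichotomy i j with h | h | h
  · exact absurd (pow_two_fixed_mono h hi.1) hj.2
  · exact h
  · exact absurd (pow_two_fixed_mono h hj.1) hi.2

theorem exists_cycTwo {k : ℕ} (hk : x ^ 2 ^ k = 1) {a : α} (ha : x a ≠ a) : ∃ j, CycTwo x a j := by
  by_contra hcon
  have hall : ∀ i, (x ^ 2 ^ i) a ≠ a := by
    intro i
    induction i with
    | zero => simpa using ha
    | succ i ih => exact fun h => hcon ⟨i, h, ih⟩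
  exact hall k (by rw [hk]; rfl)

theorem CycTwo.moved {a : α} {j : ℕ} (h : CycTwo x a j) : x a ≠ a := fun ha =>
  h.2 (pow_two_fixed_mono (Nat.zero_le j) (by simpa using ha))

theorem CycTwo.zpow_apply {a : α} {j : ℕ} (h : CycTwo x a j) (i : ℤ) :
    (x ^ i) a = a ↔ (2 ^ (j + 1) : ℤ) ∣ i := by
  have hfix : ∀ {y : Perm α} (l : ℤ), y a = a → (y ^ l) a = a := fun l hy =>
    zpow_apply_eq_self_of_apply_eq_self hy l
  have h1 : (x ^ ((2 : ℤ) ^ (j + 1))) a = a := by
    rw [show ((2 : ℤ) ^ (j + 1)) = ((2 ^ (j + 1) : ℕ) : ℤ) by push_cast; rfl, zpow_natCast]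
    exact h.1
  constructor
  · intro hi
    have hg : (x ^ ((Int.gcd i ((2 : ℤ) ^ (j + 1))) : ℤ)) a = a := by
      rw [Int.gcd_eq_gcd_ab, zpow_add, zpow_mul, zpow_mul, Perm.mul_apply, hfix _ h1, hfix _ hi]
    have hd : Int.gcd i ((2 : ℤ) ^ (j + 1)) ∣ 2 ^ (j + 1) := by
      have h2 := Int.gcd_dvd_right i ((2 : ℤ) ^ (j + 1))
      exact_mod_cast h2
    obtain ⟨l, hl, hle⟩ := (Nat.dvd_prime_pow Nat.prime_two).1 hd
    rw [hle, zpow_natCast] at hg
    rcases eq_or_lt_of_le hl with rfl | hlt
    · have h3 := Int.gcd_dvd_left i ((2 : ℤ) ^ (j + 1))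
      rw [hle] at h3
      exact_mod_cast h3
    · exact absurd (pow_two_fixed_mono (Nat.lt_succ_iff.1 hlt) hg) h.2
  · rintro ⟨c, rfl⟩
    rw [zpow_mul]
    exact hfix c h1

theorem zpow_apply_eq_iff {a : α} {j : ℕ} (h : CycTwo x a j) (i l : ℤ) :
    (x ^ i) a = (x ^ l) a ↔ (2 ^ (j + 1) : ℤ) ∣ i - l := by
  rw [← h.zpow_apply, show i - l = -l + i by ring, zpow_add, zpow_neg, Perm.mul_apply, Perm.inv_eq_iff_eq, eq_comm]

/-- A commuting involution mapping `a` into its own cycle rotates it by a half. -/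
theorem apply_eq_half {z : Perm α} (hz : ∀ a, z (z a) = a) (hzx : Commute z x) {a : α} {j : ℕ}
    (h : CycTwo x a j) (hfix : z a ≠ a) (hsame : x.SameCycle a (z a)) : z a = (x ^ 2 ^ j) a := by
  obtain ⟨i, hi⟩ := hsame
  have hcomm : ∀ l : ℤ, ∀ b, z ((x ^ l) b) = (x ^ l) (z b) := fun l b =>
    Equiv.ext_iff.1 (hzx.zpow_right l).eq b
  have h1 : (x ^ (i + i)) a = a := by
    rw [zpow_add, Perm.mul_apply, hi, ← hcomm, hi, hz]
  rw [h.zpow_apply] at h1
  have h2 : ¬ (2 ^ (j + 1) : ℤ) ∣ i := fun hd => hfix (by rw [← hi, (h.zpow_apply i).2 hd])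
  rw [← hi, ← zpow_natCast x (2 ^ j), zpow_apply_eq_iff h]
  obtain ⟨c, hc⟩ := h1
  have hi2 : i = 2 ^ j * c := by rw [pow_succ] at hc; linarith
  rw [hi2] at h2 ⊢
  rcases Int.even_or_odd' c with ⟨d, rfl | rfl⟩
  · exact absurd ⟨d, by ring⟩ h2
  · exact ⟨d, by push_cast; ring⟩

theorem CycTwo.map {z : Perm α} (hzx : Commute z x) {a : α} {j : ℕ} (h : CycTwo x a j) :
    CycTwo x (z a) j := by
  have hcomm : ∀ m : ℕ, ∀ b, z ((x ^ m) b) = (x ^ m) (z b) := fun m b =>
    Equiv.ext_iff.1 (hzx.pow_right m).eq b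
  exact ⟨by rw [← hcomm, h.1], fun h' => h.2 (z.injective (by rw [hcomm, h']))⟩

/-- A well behaved element has only one possible pairing. -/
theorem pairing_unique (hf : FewFixed x) (hd : DistinctCycles x) {k : ℕ} (hk : x ^ 2 ^ k = 1)
    {z w : Perm α} (hz : ∀ a, z (z a) = a) (hzf : ∀ a, z a ≠ a) (hzx : Commute z x)
    (hw : ∀ a, w (w a) = a) (hwf : ∀ a, w a ≠ a) (hwx : Commute w x) : z = w := by
  ext a
  by_cases ha : x a = a
  · have h1 : x (z a) = z a := by
      have := Equiv.ext_iff.1 hzx.eq a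
      rw [Perm.mul_apply, Perm.mul_apply, ha] at this
      exact this.symm
    have h2 : x (w a) = w a := by
      have := Equiv.ext_iff.1 hwx.eq a
      rw [Perm.mul_apply, Perm.mul_apply, ha] at this
      exact this.symm
    by_contra hne
    exact hf a (z a) (w a) ha h1 h2 (hzf a).symm (hwf a).symm hne
  · obtain ⟨j, hj⟩ := exists_cycTwo hk ha
    rw [apply_eq_half hz hzx hj (hzf a) (hd _ _ j hj (hj.map hzx)),
      apply_eq_half hw hwx hj (hwf a) (hd _ _ j hj (hj.map hwx))]

end basic

section sylow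

variable {α : Type u} [Fintype α] [DecidableEq α]

theorem exists_sylow_mem {x : Perm α} {k : ℕ} (hk : x ^ 2 ^ k = 1) :
    ∃ T : Sylow 2 (Perm α), x ∈ (T : Subgroup (Perm α)) := by
  haveI : Fact (Nat.Prime 2) := ⟨Nat.prime_two⟩
  obtain ⟨T, hT⟩ := IsPGroup.exists_le_sylow (p := 2) (P := Subgroup.zpowers x) (by
    rintro ⟨g, hg⟩
    obtain ⟨i, rfl⟩ := Subgroup.mem_zpowers_iff.1 hg
    refine ⟨k, Subtype.ext ?_⟩
    show (x ^ i) ^ 2 ^ k = 1
    rw [← zpow_natCast, ← zpow_mul, mul_comm, zpow_mul, zpow_natCast, hk, one_zpow])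
  exact ⟨T, hT (Subgroup.mem_zpowers x)⟩

/-- A Sylow 2-subgroup centralizes at most one pairing. -/
theorem pairing_eq_of_le {T : Sylow 2 (Perm α)} {z w : Perm α} (hz : ∀ a, z (z a) = a) (hzf : ∀ a, z a ≠ a)
    (hwf : ∀ a, w a ≠ a)
    (hT : (T : Subgroup (Perm α)) ≤ Subgroup.centralizer ({z} : Set (Perm α)))
    (hT' : (T : Subgroup (Perm α)) ≤ Subgroup.centralizer ({w} : Set (Perm α))) : z = w := by
  ext a
  have h := hT' (H63.swap_mem_sylow hz hT a)
  have h1 := H63.pair_commute_apply h a
  by_contra hne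
  rw [swap_apply_left, swap_apply_of_ne_of_ne (hwf a) (fun h2 => hne h2.symm)] at h1
  exact hzf a (w.injective h1.symm)

theorem exists_sylow_le_centralizer {m : ℕ} (hcard : Fintype.card α = 2 * m) {z : Perm α}
    (hz : ∀ a, z (z a) = a) (hzf : ∀ a, z a ≠ a) {x : Perm α} (hzx : Commute z x) {k : ℕ}
    (hk : x ^ 2 ^ k = 1) :
    ∃ T : Sylow 2 (Perm α), x ∈ (T : Subgroup (Perm α)) ∧
      (T : Subgroup (Perm α)) ≤ Subgroup.centralizer ({z} : Set (Perm α)) := by
  haveI : Fact (Nat.Prime 2) := ⟨Nat.prime_two⟩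
  obtain ⟨T0⟩ : Nonempty (Sylow 2 (Perm α)) := inferInstance
  obtain ⟨z0, hz0, hz0f, hT0⟩ := H63.exists_pairing_of_sylow hcard T0
  have hct : ∀ w : Perm α, (∀ a, w (w a) = a) → (∀ a, w a ≠ a) → w.cycleType = Multiset.replicate m 2 := by
    intro w hw hwf
    have h2 : ∀ n ∈ w.cycleType, n = 2 := fun n hn => by
      have h1 : n ∣ orderOf w := by rw [← lcm_cycleType]; exact Multiset.dvd_lcm hn
      have h3 : orderOf w ∣ 2 := orderOf_dvd_of_pow_eq_one (Equiv.ext fun a => by simp [pow_two, hw])
      have := two_le_of_mem_cycleType hn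
      have := Nat.le_of_dvd two_pos (h1.trans h3)
      omega
    have h4 := sum_cycleType w
    have hsupp : w.support = Finset.univ := by ext a; simp [hwf]
    rw [Multiset.eq_replicate_card.mpr h2] at h4 ⊢
    rw [Multiset.sum_replicate, hsupp, Finset.card_univ, hcard, smul_eq_mul] at h4
    congr 1; omega
  obtain ⟨g, hg⟩ := isConj_iff.1 (isConj_iff_cycleType_eq.2 ((hct z0 hz0 hz0f).trans (hct z hz hzf).symm))
  have hgT : ((g • T0 : Sylow 2 (Perm α)) : Subgroup (Perm α)) ≤ Subgroup.centralizer ({z} : Set (Perm α)) := by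
    intro y hy
    rw [Sylow.coe_subgroup_smul, Subgroup.mem_pointwise_smul_iff_inv_smul_mem] at hy
    have h1 := hT0 hy
    rw [Subgroup.mem_centralizer_singleton_iff] at h1 ⊢
    have h2 : g⁻¹ * y * g * z0 = z0 * (g⁻¹ * y * g) := by simpa using h1
    rw [← hg]
    calc y * (g * z0 * g⁻¹) = g * (g⁻¹ * y * g * z0) * g⁻¹ := by group
      _ = g * (z0 * (g⁻¹ * y * g)) * g⁻¹ := by rw [h2]
      _ = g * z0 * g⁻¹ * y := by group
  set C := Subgroup.centralizer ({z} : Set (Perm α)) with hC
  have hxC : x ∈ C := Subgroup.mem_centralizer_singleton_iff.2 hzx.eq.symm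
  obtain ⟨S, hS⟩ := IsPGroup.exists_le_sylow (p := 2) (P := Subgroup.zpowers (⟨x, hxC⟩ : C)) (by
    rintro ⟨g, hg⟩
    obtain ⟨i, rfl⟩ := Subgroup.mem_zpowers_iff.1 hg
    refine ⟨k, Subtype.ext ?_⟩
    show (⟨x, hxC⟩ ^ i : C) ^ 2 ^ k = 1
    rw [← zpow_natCast, ← zpow_mul, mul_comm, zpow_mul, zpow_natCast,
      show (⟨x, hxC⟩ : C) ^ 2 ^ k = 1 from Subtype.ext (by simpa using hk), one_zpow])
  have hcardS : Nat.card ((S : Subgroup C).map C.subtype) = 2 ^ (Nat.card (Perm α)).factorization 2 := by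
    rw [Subgroup.card_subtype, Sylow.card_eq_multiplicity S, ← Sylow.card_eq_multiplicity ((g • T0).subtype hgT), ← Sylow.card_eq_multiplicity (g • T0)]
    exact Nat.card_congr (Subgroup.subgroupOfEquivOfLe hgT).toEquiv
  refine ⟨Sylow.ofCard _ hcardS, ⟨⟨x, hxC⟩, hS (Subgroup.mem_zpowers _), rfl⟩, ?_⟩
  rintro _ ⟨y, -, rfl⟩
  exact y.2

theorem centralizer_le_of_unique {x : Perm α} {T : Sylow 2 (Perm α)} (hx : x ∈ (T : Subgroup (Perm α)))
    (huniq : ∀ S : Sylow 2 (Perm α), x ∈ (S : Subgroup (Perm α)) → S = T) {g : Perm α} (hg : Commute g x) :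
    g ∈ (T : Subgroup (Perm α)) := by
  rw [← H63.normalizer_sylowTwo_perm T]
  apply Sylow.smul_eq_iff_mem_normalizer.1
  refine huniq _ ?_
  rw [Sylow.coe_subgroup_smul, Subgroup.mem_pointwise_smul_iff_inv_smul_mem]
  have : g⁻¹ * x * g = x := by rw [mul_assoc, ← hg.eq, inv_mul_cancel_left]
  simpa [this] using hx

theorem fewFixed_of_unique {x : Perm α} {T : Sylow 2 (Perm α)} (hx : x ∈ (T : Subgroup (Perm α)))
    (huniq : ∀ S : Sylow 2 (Perm α), x ∈ (S : Subgroup (Perm α)) → S = T) : FewFixed x := by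
  intro a b c ha hb hc hab hac hbc
  set g := swap a b * swap b c
  have hg3 : orderOf g = 3 := by
    have h1 : g = swap b a * swap b c := by rw [swap_comm b a]
    rw [h1]
    exact (isThreeCycle_swap_mul_swap_same hab.symm hbc hac).orderOf
  have hcx : Commute g x := by
    have hs : ∀ u v, x u = u → x v = v → Commute (swap u v) x := fun u v hu hv => by
      have := mul_swap_eq_swap_mul x u v
      rw [hu, hv] at this
      exact this.symm
    exact (hs a b ha hb).mul_left (hs b c hb hc)
  obtain ⟨n, hn⟩ := IsPGroup.iff_orderOf.1 T.isPGroup' ⟨g, centralizer_le_of_unique hx huniq hcx⟩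
  rw [← Subgroup.orderOf_coe, show ((⟨g, centralizer_le_of_unique hx huniq hcx⟩ : (T : Subgroup (Perm α))) : Perm α) = g from rfl, hg3] at hn
  have h3 : 3 ∣ 2 ^ n := hn ▸ dvd_rfl
  have := Nat.prime_three.dvd_of_dvd_pow h3
  omega

theorem distinctCycles_of_unique_even {m : ℕ} (hcard : Fintype.card α = 2 * m) {x : Perm α} {k : ℕ}
    (hk : x ^ 2 ^ k = 1) {T : Sylow 2 (Perm α)} (hx : x ∈ (T : Subgroup (Perm α)))
    (huniq : ∀ S : Sylow 2 (Perm α), x ∈ (S : Subgroup (Perm α)) → S = T) : DistinctCycles x := by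
  classical
  intro a b j ha hb
  by_contra hab
  obtain ⟨z, hz, hzf, hT⟩ := H63.exists_pairing_of_sylow hcard T
  have hzx : Commute z x := (Subgroup.mem_centralizer_singleton_iff.1 (hT hx)).symm
  have hhalf : ∀ u : α, CycTwo x u j → z u = (x ^ 2 ^ j) u := by
    intro u hu
    refine apply_eq_half hz hzx hu (hzf u) ?_
    have hcu : Commute (x.cycleOf u) x := by
      show x.cycleOf u * x = x * x.cycleOf u
      exact (self_mem_cycle_factors_commute (cycleOf_mem_cycleFactorsFinset_iff.2 (mem_support.2 hu.moved))).eq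
    have h1 := H63.pair_commute_apply (hT (centralizer_le_of_unique hx huniq hcu)) u
    rw [cycleOf_apply_self] at h1
    by_contra hne
    rw [cycleOf_apply_of_not_sameCycle hne] at h1
    exact hu.moved (z.injective (h1.symm ▸ rfl))
  have hper : ∀ i l : ℤ, (x ^ i) a = (x ^ l) a ↔ (x ^ i) b = (x ^ l) b := fun i l => by
    rw [zpow_apply_eq_iff ha, zpow_apply_eq_iff hb]
  let f : α → α := fun u =>
    if h : x.SameCycle a u then (x ^ h.choose) b else if h : x.SameCycle b u then (x ^ h.choose) a else z u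
  have hfa : ∀ i : ℤ, f ((x ^ i) a) = (x ^ i) b := fun i => by
    have h : x.SameCycle a ((x ^ i) a) := ⟨i, rfl⟩
    simp only [f, dif_pos h]
    exact (hper _ _).1 h.choose_spec
  have hfb : ∀ i : ℤ, f ((x ^ i) b) = (x ^ i) a := fun i => by
    have h : x.SameCycle b ((x ^ i) b) := ⟨i, rfl⟩
    have h' : ¬ x.SameCycle a ((x ^ i) b) := fun h' => hab (h'.trans h.symm)
    simp only [f, dif_neg h', dif_pos h]
    exact (hper _ _).2 h.choose_spec
  have hother : ∀ u, ¬ x.SameCycle a u → ¬ x.SameCycle b u → f u = z u := fun u h1 h2 => by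
    simp only [f, dif_neg h1, dif_neg h2]
  have hzc : ∀ (i : ℤ) u, z ((x ^ i) u) = (x ^ i) (z u) := fun i u => Equiv.ext_iff.1 (hzx.zpow_right i).eq u
  have hzout : ∀ c : α, CycTwo x c j → ∀ u, x.SameCycle c (z u) → x.SameCycle c u := by
    rintro c hc u ⟨i, hi⟩
    refine ⟨i + (2 ^ j : ℕ), ?_⟩
    rw [zpow_add, zpow_natCast, Perm.mul_apply, ← hhalf c hc, ← hzc, hi, hz]
  have hinv : ∀ u, f (f u) = u := by
    intro u
    by_cases h1 : x.SameCycle a u
    · obtain ⟨i, rfl⟩ := h1; rw [hfa, hfb]
    by_cases h2 : x.SameCycle b u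
    · obtain ⟨i, rfl⟩ := h2; rw [hfb, hfa]
    rw [hother u h1 h2, hother (z u) (fun h => h1 (hzout a ha u h)) (fun h => h2 (hzout b hb u h)), hz]
  have hne : ∀ u, f u ≠ u := by
    intro u
    by_cases h1 : x.SameCycle a u
    · obtain ⟨i, rfl⟩ := h1
      rw [hfa]
      exact fun h => hab (Equiv.Perm.SameCycle.trans (show x.SameCycle a ((x ^ i) b) from ⟨i, h.symm⟩) (show x.SameCycle b ((x ^ i) b) from ⟨i, rfl⟩).symm)
    by_cases h2 : x.SameCycle b u
    · obtain ⟨i, rfl⟩ := h2
      rw [hfb]
      exact fun h => hab (Equiv.Perm.SameCycle.trans (show x.SameCycle a ((x ^ i) b) from ⟨i, h⟩) (show x.SameCycle b ((x ^ i) b) from ⟨i, rfl⟩).symm)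
    rw [hother u h1 h2]
    exact hzf u
  set w : Perm α := Function.Involutive.toPerm f hinv with hw
  have hwapp : ∀ u, w u = f u := fun u => rfl
  have hwx : Commute w x := by
    ext u
    show f (x u) = x (f u)
    have hxs : ∀ c : α, x.SameCycle c (x u) ↔ x.SameCycle c u := fun c => sameCycle_apply_right
    by_cases h1 : x.SameCycle a u
    · obtain ⟨i, rfl⟩ := h1
      rw [hfa, ← Perm.mul_apply, ← Perm.mul_apply, ← zpow_one_add, hfa]
    by_cases h2 : x.SameCycle b u
    · obtain ⟨i, rfl⟩ := h2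
      rw [hfb, ← Perm.mul_apply, ← Perm.mul_apply, ← zpow_one_add, hfb]
    rw [hother u h1 h2, hother (x u) (fun h => h1 ((hxs a).1 h)) (fun h => h2 ((hxs b).1 h))]
    exact Equiv.ext_iff.1 hzx.eq u
  obtain ⟨S, hxS, hS⟩ := exists_sylow_le_centralizer hcard (fun u => hinv u) hne hwx hk
  rw [huniq S hxS] at hS
  have hzw := pairing_eq_of_le hz hzf hne hT hS
  have h1 : w a = b := by
    rw [hwapp]
    simpa using hfa 0
  rw [← hzw, hhalf a ha] at h1
  exact hab ⟨(2 ^ j : ℕ), by rw [zpow_natCast]; exact h1⟩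

end sylow

/-- Restriction to the complement of a fixed point. -/
theorem fixed_reduce {α : Type u} [Fintype α] [DecidableEq α] {m : ℕ} (hcard : Fintype.card α = 2 * m + 1)
    (T : Sylow 2 (Perm α)) :
    ∃ a : α, (∀ t ∈ (T : Subgroup (Perm α)), t a = a) ∧ Fintype.card {u : α // u ≠ a} = 2 * m ∧
      ∃ T' : Sylow 2 (Perm {u : α // u ≠ a}),
        ∀ y, y ∈ (T' : Subgroup (Perm {u : α // u ≠ a})) ↔ ofSubtype y ∈ (T : Subgroup (Perm α)) := by
  obtain ⟨a, ha⟩ := H63.exists_fixed_point (hcard ▸ odd_two_mul_add_one m) T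
  refine ⟨a, ha, ?_, ?_⟩
  · simp only [Fintype.card_subtype_compl, Fintype.card_subtype_eq]; omega
  · refine ⟨T.comapOfInjective ofSubtype ofSubtype_injective (fun t ht => ?_), fun y => Iff.rfl⟩
    have hta := ha t ht
    refine ⟨t.subtypePerm (fun v => by conv_lhs => rw [← hta]
                                       exact t.injective.ne_iff), ?_⟩
    exact ofSubtype_subtypePerm _ (fun v hv h => hv (by rw [h, hta]))

theorem sylow_two_unique_of_good : ∀ (n : ℕ) (α : Type u) [Fintype α] [DecidableEq α], Fintype.card α = n →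
    ∀ (x : Perm α) (k : ℕ), x ^ 2 ^ k = 1 → FewFixed x → DistinctCycles x →
    ∀ T S : Sylow 2 (Perm α), x ∈ (T : Subgroup (Perm α)) → x ∈ (S : Subgroup (Perm α)) →
      (S : Subgroup (Perm α)) ≤ (T : Subgroup (Perm α)) := by
  intro n
  induction n using Nat.strong_induction_on with
  | _ n ih =>
    intro α _ _ hn x k hk hf hd T S hxT hxS
    haveI : Fact (Nat.Prime 2) := ⟨Nat.prime_two⟩
    rcases Nat.eq_zero_or_pos n with rfl | hpos
    · haveI := Fintype.card_eq_zero_iff.1 hn
      intro t _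
      rw [Subsingleton.elim t 1]
      exact one_mem _
    rcases Nat.even_or_odd' n with ⟨m, rfl | rfl⟩
    · obtain ⟨z, hz, hzf, hT⟩ := H63.exists_pairing_of_sylow hn T
      obtain ⟨w, hw, hwf, hS⟩ := H63.exists_pairing_of_sylow hn S
      have hzx : Commute z x := (Subgroup.mem_centralizer_singleton_iff.1 (hT hxT)).symm
      have hwx : Commute w x := (Subgroup.mem_centralizer_singleton_iff.1 (hS hxS)).symm
      obtain rfl : z = w := pairing_unique hf hd hk hz hzf hzx hw hwf hwx
      letI : DecidableRel (H63.pairSetoid z hz).r := fun a b =>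
        inferInstanceAs (Decidable (b = a ∨ b = z a))
      letI : Fintype (Quotient (H63.pairSetoid z hz)) := Quotient.fintype _
      set ψ := H63.pairHom z hz with hψ
      have hsur : Function.Surjective ψ := H63.pairHom_surjective z hz hzf
      set xc : Subgroup.centralizer ({z} : Set (Perm α)) := ⟨x, hT hxT⟩
      have happ : ∀ (N : ℕ) (a : α), (ψ xc ^ N) (Quotient.mk'' a) = Quotient.mk'' ((x ^ N) a) := by
        intro N a
        rw [← map_pow]
        rfl
      have hback : ∀ u : α, ∀ N : ℕ, (ψ xc ^ N) (Quotient.mk'' u) = Quotient.mk'' u ↔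
          ((x ^ N) u = u ∨ (x ^ N) u = z u) := by
        intro u N
        rw [happ]
        constructor
        · intro h
          rcases Quotient.eq''.1 h.symm with h1 | h1
          · exact Or.inl h1
          · exact Or.inr h1
        · intro h
          refine (Quotient.eq''.2 ?_).symm
          rcases h with h1 | h1
          · exact Or.inl h1
          · exact Or.inr h1
      have hhalf : ∀ u j, CycTwo x u j → z u = (x ^ 2 ^ j) u := fun u j hu =>
        apply_eq_half hz hzx hu (hzf u) (hd _ _ j hu (hu.map hzx))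
      have hfixed : ∀ u j, CycTwo x u j → ∀ i, ((x ^ 2 ^ i) u = u ∨ (x ^ 2 ^ i) u = z u) ↔ j ≤ i := by
        intro u j hu i
        constructor
        · intro h
          by_contra hlt
          rcases h with h | h
          · exact hu.2 (pow_two_fixed_mono (by omega) h)
          · rw [hhalf u j hu, ← zpow_natCast, ← zpow_natCast, zpow_apply_eq_iff hu] at h
            push_cast at h
            have hpos' : (0 : ℤ) < 2 ^ i := by positivity
            have hle : (2 : ℤ) ^ i < 2 ^ j := pow_lt_pow_right₀ (by norm_num) (by omega)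
            obtain ⟨c, hc⟩ := h
            have hp2 : (2 : ℤ) ^ (j + 1) = 2 * 2 ^ j := by ring
            rw [hp2] at hc
            have hc1 : -1 < c ∧ c < 0 := by constructor <;> nlinarith
            omega
        · intro hle
          rcases eq_or_lt_of_le hle with rfl | hlt
          · exact Or.inr (hhalf u j hu).symm
          · exact Or.inl (pow_two_fixed_mono hlt hu.1)
      have hper : ∀ u i, CycTwo (ψ xc) (Quotient.mk'' u) i → CycTwo x u (i + 1) := by
        intro u i hi
        have h1 := (hback u _).1 hi.1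
        have h2 : ¬ ((x ^ 2 ^ i) u = u ∨ (x ^ 2 ^ i) u = z u) := fun h => hi.2 ((hback u _).2 h)
        have hmov : x u ≠ u := fun hu => h2 (Or.inl (pow_two_fixed_mono (Nat.zero_le i) (by simpa using hu)))
        obtain ⟨j, hj⟩ := exists_cycTwo hk hmov
        rw [hfixed u j hj] at h1 h2
        rwa [show i + 1 = j by omega]
      have hf' : FewFixed (ψ xc) := by
        intro A B C hA hB hC hAB hAC hBC
        induction A using Quotient.inductionOn' with | h a =>
        induction B using Quotient.inductionOn' with | h b =>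
        induction C using Quotient.inductionOn' with | h c =>
        have hclass : ∀ u : α, ψ xc (Quotient.mk'' u) = Quotient.mk'' u → x u = u ∨ CycTwo x u 0 := by
          intro u hu
          by_cases hmov : x u = u
          · exact Or.inl hmov
          · obtain ⟨j, hj⟩ := exists_cycTwo hk hmov
            have := (hfixed u j hj 0).1 (by
              have := (hback u 1).1 (by rw [pow_one]; exact hu)
              simpa using this)
            rw [show j = 0 by omega] at hj
            exact Or.inr hj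
        -- two classes of the same kind coincide
        have hfix2 : ∀ u v : α, x u = u → x v = v → (Quotient.mk'' u : Quotient (H63.pairSetoid z hz)) = Quotient.mk'' v := by
          intro u v hu hv
          refine Quotient.eq''.2 ?_
          by_contra hne
          rw [show (H63.pairSetoid z hz).r u v ↔ (v = u ∨ v = z u) from Iff.rfl, not_or] at hne
          have hzu : x (z u) = z u := by
            have := Equiv.ext_iff.1 hzx.eq u
            rw [Perm.mul_apply, Perm.mul_apply, hu] at this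
            exact this.symm
          exact hf u (z u) v hu hzu hv (hzf u).symm (Ne.symm hne.1) (Ne.symm hne.2)
        have hmov2 : ∀ u v : α, CycTwo x u 0 → CycTwo x v 0 → (Quotient.mk'' u : Quotient (H63.pairSetoid z hz)) = Quotient.mk'' v := by
          intro u v hu hv
          refine Quotient.eq''.2 ?_
          obtain ⟨i, rfl⟩ := hd u v 0 hu hv
          rcases Int.even_or_odd' i with ⟨c, rfl | rfl⟩
          · left
            exact (hu.zpow_apply _).2 ⟨c, by ring⟩
          · right
            rw [hhalf u 0 hu, pow_zero, pow_one, ← zpow_one x, ← zpow_mul, one_mul, zpow_apply_eq_iff hu]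
            exact ⟨c, by ring⟩
        rcases hclass a hA with ha | ha <;> rcases hclass b hB with hb | hb <;>
          rcases hclass c hC with hc | hc
        all_goals first
          | exact hAB (hfix2 a b ha hb) | exact hAC (hfix2 a c ha hc) | exact hBC (hfix2 b c hb hc)
          | exact hAB (hmov2 a b ha hb) | exact hAC (hmov2 a c ha hc) | exact hBC (hmov2 b c hb hc)
      have hd' : DistinctCycles (ψ xc) := by
        intro A B i hA hB
        induction A using Quotient.inductionOn' with | h a =>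
        induction B using Quotient.inductionOn' with | h b =>
        obtain ⟨l, rfl⟩ := hd a b (i + 1) (hper a i hA) (hper b i hB)
        refine ⟨l, ?_⟩
        rw [← map_zpow]
        rfl
      have hk' : (ψ xc) ^ 2 ^ k = 1 := by
        rw [← map_pow, show xc ^ 2 ^ k = 1 from Subtype.ext hk, map_one]
      have hlt : Fintype.card (Quotient (H63.pairSetoid z hz)) < 2 * m := by
        have := H63.card_pairs z hz hzf
        omega
      let T' := (T.subtype hT).mapSurjective hsur
      let S' := (S.subtype hS).mapSurjective hsur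
      have hle := ih _ hlt (Quotient (H63.pairSetoid z hz)) rfl (ψ xc) k hk' hf' hd' T' S'
        ⟨xc, hxT, rfl⟩ ⟨xc, hxS, rfl⟩
      intro s hs
      obtain ⟨t, ht, hts⟩ := hle ⟨⟨s, hS hs⟩, hs, rfl⟩
      have hker : t⁻¹ * ⟨s, hS hs⟩ ∈ ψ.ker := by rw [MonoidHom.mem_ker, map_mul, map_inv, hts, inv_mul_cancel]
      have h1 := mul_mem (show (t : Perm α) ∈ (T : Subgroup (Perm α)) from ht) (H63.mem_sylow_of_pairKer hT hker)
      simpa using h1
    · obtain ⟨a, haT, hcard', T', hT'⟩ := fixed_reduce hn T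
      obtain ⟨b, hbS, -, S0, hS0⟩ := fixed_reduce hn S
      have hxa : x a = a := haT x hxT
      have hxb : x b = b := hbS x hxS
      obtain rfl : a = b := by
        by_contra hab
        have hcong := card_compl_support_modEq (p := 2) (n := k) hk
        rw [hn] at hcong
        have hle : x.supportᶜ.card ≤ 2 := by
          by_contra h3
          obtain ⟨p', q', r', hp', hq', hr', h12, h13, h23⟩ := Finset.two_lt_card_iff.1 (not_le.1 h3)
          exact hf p' q' r' (by simpa using hp') (by simpa using hq') (by simpa using hr') h12 h13 h23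
        have hge : 2 ≤ x.supportᶜ.card := Finset.one_lt_card.2 ⟨a, by simpa using hxa, b, by simpa using hxb, hab⟩
        have hmod : x.supportᶜ.card % 2 = (2 * m + 1) % 2 := hcong
        omega
      have hxne : ∀ u, x u ≠ a ↔ u ≠ a := fun u => by
        conv_lhs => rw [← hxa]
        exact x.injective.ne_iff
      set x' := x.subtypePerm (p := fun u => u ≠ a) hxne with hx'
      have hofx : ofSubtype x' = x := ofSubtype_subtypePerm _ (fun u hu h => hu (by rw [h, hxa]))
      have hpow : ∀ (N : ℕ) (u : {u : α // u ≠ a}), (((x' ^ N) u : {u : α // u ≠ a}) : α) = (x ^ N) u := fun N u => by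
        have := ofSubtype_apply_coe (x' ^ N) u
        rw [map_pow, hofx] at this
        exact this.symm
      have hcyc : ∀ u j, CycTwo x' u j → CycTwo x (u : α) j := fun u j hu =>
        ⟨by rw [← hpow, hu.1], fun h => hu.2 (Subtype.ext (by rw [hpow, h]))⟩
      have hle := ih _ (by omega) {u : α // u ≠ a} hcard' x' k
        (ofSubtype_injective (by rw [map_pow, hofx, hk, map_one]))
        (fun p' q' r' h1 h2 h3 h12 h13 h23 => hf p' q' r'
          (by have := congrArg Subtype.val h1; exact this) (congrArg Subtype.val h2) (congrArg Subtype.val h3)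
          (fun h => h12 (Subtype.ext h)) (fun h => h13 (Subtype.ext h)) (fun h => h23 (Subtype.ext h)))
        (fun p' q' j hp' hq' => by
          obtain ⟨l, hl⟩ := hd _ _ j (hcyc _ _ hp') (hcyc _ _ hq')
          refine ⟨l, Subtype.ext ?_⟩
          have := ofSubtype_apply_coe (x' ^ l) p'
          rw [map_zpow, hofx] at this
          rw [← this, hl])
        T' S0 ((hT' x').2 (by rwa [hofx])) ((hS0 x').2 (by rwa [hofx]))
      intro s hs
      have hsa : s a = a := hbS s hs
      have hsne : ∀ u, s u ≠ a ↔ u ≠ a := fun u => by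
        conv_lhs => rw [← hsa]
        exact s.injective.ne_iff
      have hofs : ofSubtype (s.subtypePerm (p := fun u => u ≠ a) hsne) = s := ofSubtype_subtypePerm _ (fun u hu h => hu (by rw [h, hsa]))
      have := hle ((hS0 (s.subtypePerm (p := fun u => u ≠ a) hsne)).2 (by rwa [hofs]))
      rwa [hT', hofs] at this

theorem distinctCycles_of_unique {α : Type u} [Fintype α] [DecidableEq α] {x : Perm α} {k : ℕ}
    (hk : x ^ 2 ^ k = 1) {T : Sylow 2 (Perm α)} (hx : x ∈ (T : Subgroup (Perm α)))
    (huniq : ∀ S : Sylow 2 (Perm α), x ∈ (S : Subgroup (Perm α)) → S = T) : DistinctCycles x := by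
  haveI : Fact (Nat.Prime 2) := ⟨Nat.prime_two⟩
  rcases Nat.even_or_odd' (Fintype.card α) with ⟨m, hm | hm⟩
  · exact distinctCycles_of_unique_even hm hk hx huniq
  obtain ⟨a, haT, hcard', T', hT'⟩ := fixed_reduce hm T
  have hxa : x a = a := haT x hx
  have hxne : ∀ u, x u ≠ a ↔ u ≠ a := fun u => by
    conv_lhs => rw [← hxa]
    exact x.injective.ne_iff
  set x' := x.subtypePerm (p := fun u => u ≠ a) hxne with hx'
  have hofx : ofSubtype x' = x := ofSubtype_subtypePerm _ (fun u hu h => hu (by rw [h, hxa]))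
  have hd := distinctCycles_of_unique_even hcard'
    (k := k) (ofSubtype_injective (by rw [map_pow, hofx, hk, map_one])) (T := T') ((hT' x').2 (by rwa [hofx]))
    (fun S hS => by
      obtain ⟨S1, hS1⟩ := IsPGroup.exists_le_sylow (S.isPGroup'.map (ofSubtype (p := fun u => u ≠ a)))
      have h1 : x ∈ (S1 : Subgroup (Perm α)) := hS1 ⟨x', hS, hofx⟩
      rw [huniq S1 h1] at hS1
      exact Sylow.ext (le_antisymm (fun y hy => (hT' y).2 (hS1 ⟨y, hy, rfl⟩))
        ((S.3 T'.isPGroup' (fun y hy => (hT' y).2 (hS1 ⟨y, hy, rfl⟩))).le)))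
  intro u v j hu hv
  have hua : u ≠ a := fun h => hu.moved (h ▸ hxa)
  have hva : v ≠ a := fun h => hv.moved (h ▸ hxa)
  have hpow : ∀ (N : ℤ) (w : {u : α // u ≠ a}), (((x' ^ N) w : {u : α // u ≠ a}) : α) = (x ^ N) w := fun N w => by
    have := ofSubtype_apply_coe (x' ^ N) w
    rw [map_zpow, hofx] at this
    exact this.symm
  have hup : ∀ (w : α) (hw : w ≠ a), CycTwo x w j → CycTwo x' ⟨w, hw⟩ j := fun w hw h => by
    refine ⟨Subtype.ext ?_, fun h' => h.2 ?_⟩
    · rw [← zpow_natCast, hpow, zpow_natCast]; exact h.1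
    · have := congrArg Subtype.val h'
      rwa [← zpow_natCast, hpow, zpow_natCast] at this
  obtain ⟨l, hl⟩ := hd _ _ j (hup u hua hu) (hup v hva hv)
  exact ⟨l, by rw [← hpow l ⟨u, hua⟩, hl]⟩

/-- The criterion. -/
theorem existsUnique_sylow_two_iff {α : Type u} [Fintype α] [DecidableEq α] (x : Perm α) {k : ℕ}
    (hk : x ^ 2 ^ k = 1) :
    (∃! P : Sylow 2 (Perm α), x ∈ P) ↔ (Fintype.card α ≤ x.support.card + 2 ∧ x.cycleType.Nodup) := by
  classical
  haveI : Fact (Nat.Prime 2) := ⟨Nat.prime_two⟩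
  have hfix : FewFixed x ↔ Fintype.card α ≤ x.support.card + 2 := by
    have hc : x.supportᶜ.card = Fintype.card α - x.support.card := Finset.card_compl _
    constructor
    · intro hf
      by_contra hlt
      obtain ⟨a, b, c, ha, hb, hc', h12, h13, h23⟩ := Finset.two_lt_card_iff.1 (by omega : 2 < x.supportᶜ.card)
      exact hf a b c (by simpa using ha) (by simpa using hb) (by simpa using hc') h12 h13 h23
    · intro hle a b c ha hb hc' h12 h13 h23
      have : 2 < x.supportᶜ.card := Finset.two_lt_card_iff.2 ⟨a, b, c, by simpa using ha, by simpa using hb, by simpa using hc', h12, h13, h23⟩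
      omega
  have hlen : ∀ a j, CycTwo x a j → (x.cycleOf a).support.card = 2 ^ (j + 1) := by
    intro a j ha
    have hc : (x.cycleOf a).IsCycle := isCycle_cycleOf x ha.moved
    have hiff : ∀ N : ℕ, (x ^ N) a = a ↔ (x.cycleOf a).support.card ∣ N := by
      intro N
      rw [← hc.orderOf, orderOf_dvd_iff_pow_eq_one, hc.pow_eq_one_iff' (x := a) (by rw [cycleOf_apply_self]; exact ha.moved),
        cycleOf_pow_apply_self]
    obtain ⟨l, hl, hle⟩ := (Nat.dvd_prime_pow Nat.prime_two).1 ((hiff _).1 ha.1)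
    rcases eq_or_lt_of_le hl with rfl | hlt
    · exact hle
    · exact absurd ((hiff _).2 (hle ▸ pow_dvd_pow 2 (Nat.lt_succ_iff.1 hlt))) ha.2
  have hdist : DistinctCycles x ↔ x.cycleType.Nodup := by
    rw [cycleType_def, Multiset.nodup_map_iff_inj_on x.cycleFactorsFinset.nodup]
    constructor
    · intro hd c hc d hd' he
      obtain ⟨a, ha⟩ : c.support.Nonempty := (mem_cycleFactorsFinset_iff.1 hc).1.nonempty_support
      obtain ⟨b, hb⟩ : d.support.Nonempty := (mem_cycleFactorsFinset_iff.1 hd').1.nonempty_support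
      have hca : c = x.cycleOf a := cycle_is_cycleOf ha hc
      have hdb : d = x.cycleOf b := cycle_is_cycleOf hb hd'
      obtain ⟨i, hi⟩ := exists_cycTwo hk (mem_support.1 (mem_cycleFactorsFinset_support_le hc ha))
      obtain ⟨j, hj⟩ := exists_cycTwo hk (mem_support.1 (mem_cycleFactorsFinset_support_le hd' hb))
      have he' : (x.cycleOf a).support.card = (x.cycleOf b).support.card := by
        rw [← hca, ← hdb]; exact he
      rw [hlen a i hi, hlen b j hj] at he'
      obtain rfl : i = j := Nat.succ_injective (Nat.pow_right_injective (le_refl 2) he')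
      rw [hca, hdb]
      exact (hd a b i hi hj).cycleOf_eq
    · intro hinj a b j ha hb
      have hca := cycleOf_mem_cycleFactorsFinset_iff.2 (mem_support.2 ha.moved)
      have hcb := cycleOf_mem_cycleFactorsFinset_iff.2 (mem_support.2 hb.moved)
      have he := hinj _ hca _ hcb (show (x.cycleOf a).support.card = (x.cycleOf b).support.card by rw [hlen a j ha, hlen b j hb])
      have h1 : b ∈ (x.cycleOf a).support := by
        rw [he, mem_support, cycleOf_apply_self]
        exact hb.moved
      exact (mem_support_cycleOf_iff.1 h1).1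
  rw [← hfix, ← hdist]
  constructor
  · rintro ⟨T, hT, hu⟩
    exact ⟨fewFixed_of_unique hT hu, distinctCycles_of_unique hk hT hu⟩
  · rintro ⟨hf, hd⟩
    obtain ⟨T, hT⟩ := exists_sylow_mem hk
    exact ⟨T, hT, fun S hS => Sylow.ext (le_antisymm (sylow_two_unique_of_good _ α rfl x k hk hf hd T S hT hS)
      (sylow_two_unique_of_good _ α rfl x k hk hf hd S T hS hT))⟩

end H30
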